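import Cfsg.Agent.SuzType.Embed
import Cfsg.Agent.SporRec.SuzNo143
import Cfsg.Agent.SporRec.SuzCl.Inv
import Cfsg.Agent.SporRec.ClosingZStar

/-!
# Groups of Suzuki type: the closing argument
-/

set_option autoImplicit false

namespace Cfsg.Agent.SuzType.Close

open Cfsg.Agent.LargeExtra Cfsg.Agent.SporRec

/-- The class facts about the presented Suzuki group used to close. -/
theorem model : ClosingZStar.ModelZ Cfsg.Spor.Suz SuzCl.ia SuzCl.ie where
  zz := SuzCl.aa
  z1 := SuzCl.a_ne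
  two := SuzCl.two
  comm := SuzCl.comm

/-- The Suzuki group is recognised (given the odd order theorem). -/
theorem main {G : Type*} [Group G] [Finite G] {Q : Subgroup G} {z y g₀ : G} (H : SuzHyp Q z)
    (hy : g₀ * z * g₀⁻¹ = y) (hyQ : y ∈ Q) (hne : y ≠ z)
    (hsolv : ∀ N : Subgroup G, Odd (Nat.card N) → Group.IsSolvable N) :
    Nonempty (G ≃* Cfsg.Spor.Suz) := by
  obtain ⟨t, f, u, g', L, c, κ, -, -, -, -, φ, hinj, hz', -, -, -, -, hC⟩ :=
    Embed.exists_embedding H hy hyQ hne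
  have hz'' : φ SuzCl.ia = z := hz'
  have hCz : Nat.card (Subgroup.centralizer ({φ SuzCl.ia} : Set G)) = 3317760 := by
    rw [hz'']; exact H.card
  have hnZ : ¬ ClosingSuz.Z (φ SuzCl.ia) (φ SuzCl.ie) := by
    refine ClosingZStar.not_Z_of_comm φ hinj 7 ?_ SuzCl.u7 SuzCl.orderOf_u7 SuzCl.u7_comm
    rw [hCz]; decide
  have hcd : Nat.card Cfsg.Spor.Suz = 448345497600 := SporadicRecognition.SuzOrder.card_Suz
  have hs : Function.Surjective φ := by
    refine model.surjective φ hinj ?_ hnZ (p := 11) (q := 13) (by norm_num) (by norm_num) (by norm_num)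
      ?_ ?_ ?_ ?_ ?_ ?_ hsolv ?_
    · rw [hz'']; exact hC
    · rw [hcd]; decide
    · rw [hcd]; decide
    · rw [hcd]; decide
    · rw [hcd]; decide
    · rw [hCz]; decide
    · rw [hCz]; decide
    · exact ClosingZStar.hno_of SuzNo143.no143
  exact ⟨(MulEquiv.ofBijective φ ⟨hinj, hs⟩).symm⟩

end Cfsg.Agent.SuzType.Close
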