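import Mathlib

/-!
# A computation in `A₆`: two subgroups `S₄` meeting in a dihedral group of order 8
-/

set_option autoImplicit false

namespace Cfsg.Agent.SuzType.ASixRel

open Equiv

def z0 : Perm (Fin 6) := swap 0 1 * swap 2 3

theorem exists_conj_z0 : ∀ z : Perm (Fin 6), (z * z = 1 ∧ z ≠ 1 ∧ Perm.sign z = 1) →
    ∃ g : Perm (Fin 6), g * z = z0 * g := by
  decide +kernel

set_option synthInstance.maxHeartbeats 0 in
set_option synthInstance.maxSize 10000 in
set_option maxRecDepth 10000 in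
theorem rel_z0 : ∀ y : Perm (Fin 6), (y * y = 1 ∧ y * z0 = z0 * y ∧ Perm.sign y = 1) →
    ∀ t : Perm (Fin 6), (t * t = 1 ∧ y * t * (y * t) = z0) →
    ∀ f : Perm (Fin 6), (f * z0 = y * f ∧ t * f * t = f * f ∧ f * f * f = 1) →
    ∀ u : Perm (Fin 6), (u * z0 = t * u ∧ y * u * y = u * u ∧ u * u * u = 1) →
    (f * u) ^ 5 = 1 ∧ (f * f * u) ^ 4 = 1 := by
  decide +kernel

theorem rel {z y t f u : Perm (Fin 6)} (hz : Perm.sign z = 1) (hy : Perm.sign y = 1)
    (hz1 : z ≠ 1) (hz2 : z * z = 1) (hy2 : y * y = 1) (hyz : y * z = z * y)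
    (ht2 : t * t = 1) (hyt : y * t * (y * t) = z) (hfz : f * z = y * f) (htf : t * f * t = f * f)
    (hf3 : f * f * f = 1) (huz : u * z = t * u) (hyu : y * u * y = u * u) (hu3 : u * u * u = 1) :
    (f * u) ^ 5 = 1 ∧ (f * f * u) ^ 4 = 1 := by
  obtain ⟨g, hg⟩ := exists_conj_z0 z ⟨hz2, hz1, hz⟩
  let φ : Perm (Fin 6) ≃* Perm (Fin 6) := MulAut.conj g
  have hφz : φ z = z0 := by
    show g * z * g⁻¹ = z0
    rw [hg, mul_assoc, mul_inv_cancel, mul_one]
  have hsign : ∀ a, Perm.sign (φ a) = Perm.sign a := by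
    intro a
    show Perm.sign (g * a * g⁻¹) = _
    rw [Perm.sign_mul, Perm.sign_mul, Perm.sign_inv, mul_comm, ← mul_assoc, Int.units_mul_self, one_mul]
  have key := rel_z0 (φ y) ⟨by rw [← map_mul, hy2, map_one],
      by rw [← hφz, ← map_mul, ← map_mul, hyz], by rw [hsign, hy]⟩
    (φ t) ⟨by rw [← map_mul, ht2, map_one], by rw [← hφz, ← map_mul, ← map_mul, hyt]⟩
    (φ f) ⟨by rw [← hφz, ← map_mul, ← map_mul, hfz], by rw [← map_mul, ← map_mul, htf, map_mul],
      by rw [← map_mul, ← map_mul, hf3, map_one]⟩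
    (φ u) ⟨by rw [← hφz, ← map_mul, ← map_mul, huz], by rw [← map_mul, ← map_mul, hyu, map_mul],
      by rw [← map_mul, ← map_mul, hu3, map_one]⟩
  constructor
  · apply φ.injective
    rw [map_pow, map_mul, map_one]
    exact key.1
  · apply φ.injective
    rw [map_pow, map_mul, map_mul, map_one]
    exact key.2

end Cfsg.Agent.SuzType.ASixRel
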