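import Mathlib

/-!
# Explicit elements of `A₅` for the presentation of `Suz`
-/

set_option autoImplicit false
set_option maxRecDepth 100000

namespace Cfsg.Agent.SuzType.AltFive

open Equiv

/-- `(2 3 4)` -/
def τ : alternatingGroup (Fin 5) := ⟨swap 2 3 * swap 3 4, by
  rw [Equiv.Perm.mem_alternatingGroup, map_mul, Equiv.Perm.sign_swap (by decide), Equiv.Perm.sign_swap (by decide)]
  rfl⟩

/-- `(0 1)(2 3)` -/
def δ : alternatingGroup (Fin 5) := ⟨swap 0 1 * swap 2 3, by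
  rw [Equiv.Perm.mem_alternatingGroup, map_mul, Equiv.Perm.sign_swap (by decide), Equiv.Perm.sign_swap (by decide)]
  rfl⟩

/-- `(2 3)(1 4)` -/
def ε : alternatingGroup (Fin 5) := ⟨swap 2 3 * swap 1 4, by
  rw [Equiv.Perm.mem_alternatingGroup, map_mul, Equiv.Perm.sign_swap (by decide), Equiv.Perm.sign_swap (by decide)]
  rfl⟩

theorem τ_zero : (τ : Perm (Fin 5)) 0 = 0 := by decide
theorem τ_one : (τ : Perm (Fin 5)) 1 = 1 := by decide
theorem τ_two : (τ : Perm (Fin 5)) 2 = 3 := by decide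
theorem δ_zero : (δ : Perm (Fin 5)) 0 = 1 := by decide
theorem ε_zero : (ε : Perm (Fin 5)) 0 = 0 := by decide

theorem τ_cube : τ ^ 3 = 1 := Subtype.ext (by
  rw [Subgroup.coe_pow]
  show (swap 2 3 * swap 3 4 : Perm (Fin 5)) ^ 3 = 1
  decide)

theorem δ_sq : δ * δ = 1 := Subtype.ext (by
  rw [Subgroup.coe_mul]
  show (swap 0 1 * swap 2 3 : Perm (Fin 5)) * (swap 0 1 * swap 2 3) = 1
  decide)

theorem ε_sq : ε * ε = 1 := Subtype.ext (by
  rw [Subgroup.coe_mul]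
  show (swap 2 3 * swap 1 4 : Perm (Fin 5)) * (swap 2 3 * swap 1 4) = 1
  decide)

theorem δε : (δ * ε) ^ 3 = 1 := Subtype.ext (by
  rw [Subgroup.coe_pow, Subgroup.coe_mul]
  show ((swap 0 1 * swap 2 3 : Perm (Fin 5)) * (swap 2 3 * swap 1 4)) ^ 3 = 1
  decide)

theorem τε : (τ * ε) ^ 3 = 1 := Subtype.ext (by
  rw [Subgroup.coe_pow, Subgroup.coe_mul]
  show ((swap 2 3 * swap 3 4 : Perm (Fin 5)) * (swap 2 3 * swap 1 4)) ^ 3 = 1
  decide)

theorem ττε : (τ * τ * ε) ^ 3 = 1 := Subtype.ext (by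
  rw [Subgroup.coe_pow, Subgroup.coe_mul, Subgroup.coe_mul]
  show ((swap 2 3 * swap 3 4 : Perm (Fin 5)) * (swap 2 3 * swap 3 4) * (swap 2 3 * swap 1 4)) ^ 3 = 1
  decide)

theorem exists_perm (i j : Fin 5) (h : i ≠ j) : ∃ p : Perm (Fin 5), p 0 = i ∧ p 1 = j := by
  refine ⟨swap (swap 0 i 1) j * swap 0 i, ?_, ?_⟩
  · rw [Perm.mul_apply, swap_apply_left, swap_apply_of_ne_of_ne ?_ h]
    intro h1
    have : swap 0 i 0 = swap 0 i 1 := by rw [swap_apply_left]; exact h1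
    exact absurd ((swap 0 i).injective this) (by decide)
  · rw [Perm.mul_apply, swap_apply_left]

/-- `A₅` is doubly transitive. -/
theorem exists_alt (i j : Fin 5) (h : i ≠ j) :
    ∃ σ : alternatingGroup (Fin 5), (σ : Perm (Fin 5)) 0 = i ∧ (σ : Perm (Fin 5)) 1 = j := by
  obtain ⟨p, h0, h1⟩ := exists_perm i j h
  rcases Int.units_eq_one_or (Perm.sign p) with hs | hs
  · exact ⟨⟨p, Perm.mem_alternatingGroup.mpr hs⟩, h0, h1⟩
  · refine ⟨⟨p * swap 2 3, Perm.mem_alternatingGroup.mpr ?_⟩, ?_, ?_⟩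
    · rw [map_mul, hs, Perm.sign_swap (by decide)]; rfl
    · show (p * swap 2 3 : Perm (Fin 5)) 0 = i
      rw [Perm.mul_apply, swap_apply_of_ne_of_ne (by decide) (by decide), h0]
    · show (p * swap 2 3 : Perm (Fin 5)) 1 = j
      rw [Perm.mul_apply, swap_apply_of_ne_of_ne (by decide) (by decide), h1]

theorem exists_alt_zero (i : Fin 5) : ∃ σ : alternatingGroup (Fin 5), (σ : Perm (Fin 5)) 0 = i := by
  obtain ⟨j, hj⟩ := exists_ne i
  obtain ⟨σ, h, -⟩ := exists_alt i j hj.symm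
  exact ⟨σ, h⟩

/-- the generators `τ, δ, ε` as permutations -/
def gp : ℕ → Perm (Fin 5)
  | 0 => swap 2 3 * swap 3 4
  | 1 => swap 0 1 * swap 2 3
  | _ => swap 2 3 * swap 1 4

/-- 60 words in `τ, δ, ε` -/
def wl : List (List ℕ) := [[], [0], [1], [2], [0,0], [1,0], [2,0], [0,1], [2,1], [0,2], [1,2], [2,0,0], [2,1,0], [0,2,0], [1,2,0], [2,0,1], [0,2,1], [1,2,1], [0,0,2], [1,0,2], [2,0,2], [0,1,2], [0,2,0,0], [1,2,0,0], [0,2,1,0], [1,2,1,0], [0,0,2,0], [1,0,2,0], [0,1,2,0], [0,2,0,1], [1,2,0,1], [0,0,2,1], [1,0,2,1], [2,0,2,1], [0,1,2,1], [2,1,0,2], [1,2,0,2], [2,0,1,2], [1,0,2,0,0], [1,0,2,1,0], [2,0,2,1,0], [0,1,2,1,0], [2,1,0,2,0], [2,0,1,2,0], [1,0,2,0,1], [0,1,2,0,1], [2,1,0,2,1], [2,0,1,2,1], [0,2,1,0,2], [1,2,1,0,2], [2,1,0,2,0,0], [2,1,0,2,1,0], [2,0,1,2,1,0], [0,2,1,0,2,0], [2,1,0,2,0,1], [2,0,1,2,0,1], [0,2,1,0,2,1], [1,0,2,1,0,2], [0,2,1,0,2,0,0], [0,2,1,0,2,1,0]]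

theorem wl_spec : ∀ p : Perm (Fin 5), Perm.sign p = 1 → ∃ w ∈ wl, (w.map gp).prod = p := by decide +kernel

theorem gen (K : Subgroup (alternatingGroup (Fin 5))) (h1 : τ ∈ K) (h2 : δ ∈ K) (h3 : ε ∈ K) : K = ⊤ := by
  rw [eq_top_iff]
  intro σ _
  obtain ⟨w, -, hw⟩ := wl_spec σ (Perm.mem_alternatingGroup.mp σ.2)
  have key : ∀ w : List ℕ, ∃ k ∈ K, (k : Perm (Fin 5)) = (w.map gp).prod := by
    intro w
    induction w with
    | nil => exact ⟨1, K.one_mem, rfl⟩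
    | cons i w ih =>
      obtain ⟨k, hk, e⟩ := ih
      have hi : ∃ l ∈ K, (l : Perm (Fin 5)) = gp i := by
        match i with
        | 0 => exact ⟨τ, h1, rfl⟩
        | 1 => exact ⟨δ, h2, rfl⟩
        | (n + 2) => exact ⟨ε, h3, rfl⟩
      obtain ⟨l, hl, e'⟩ := hi
      refine ⟨l * k, K.mul_mem hl hk, ?_⟩
      rw [Subgroup.coe_mul, e, e', List.map_cons, List.prod_cons]
  obtain ⟨k, hk, e⟩ := key w
  have : k = σ := Subtype.ext (e.trans hw)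
  rw [← this]
  exact hk

end Cfsg.Agent.SuzType.AltFive
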