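import Mathlib
import Cfsg.Agent.J2Type.ModelExists

/-!
# Canonical involutions: a complement `L` of order 60 permutes the five involutions without signs
-/

set_option autoImplicit false

namespace Cfsg.Agent.SuzType.Canon

open Cfsg.Agent.J2Type.QStruct Cfsg.Agent.J2Type.Model

variable {C : Type*} [Group C]

/-- The signed permutation model, from the elementwise hypotheses. -/
theorem exists_model_of_hyp [Finite C] {Q : Subgroup C} [Q.Normal] {z : C} (h : Hyp Q z)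
    (hcard : Nat.card Q = 32) (h60 : Nat.card (C ⧸ Q) = 60) :
    ∃ (v : Fin 5 → C) (ρ : C →* SP), IsModel Q z v ρ := by
  have h1920 : Nat.card C = 1920 := by
    have := Subgroup.card_eq_card_quotient_mul_card_subgroup Q
    rw [h60, hcard] at this
    omega
  have h5 : Fact (Nat.Prime 5) := ⟨by norm_num⟩
  obtain ⟨w, hw⟩ := exists_prime_orderOf_dvd_card' (G := C) 5 (by rw [h1920]; norm_num)
  have hw5 : w ^ 5 = 1 := by rw [← hw]; exact pow_orderOf_eq_one w
  have hw1 : w ≠ 1 := by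
    intro h1
    rw [h1, orderOf_one] at hw
    norm_num at hw
  obtain ⟨v, F, -, d2, d3⟩ := h.exists_five hcard w hw5 hw1
  obtain ⟨ρ, hρ⟩ := isModel_of_hyp h h60 F d2 d3
  exact ⟨v, ρ, hρ⟩

/-- Conjugating a model by an element of `C`. -/
theorem IsModel.conjBy {Q : Subgroup C} [Q.Normal] {z : C} {v : Fin 5 → C} {ρ : C →* SP}
    (M : IsModel Q z v ρ) (q : C) :
    IsModel Q z (fun i => q * v i * q⁻¹) (ρ.comp (MulAut.conj q⁻¹).toMonoidHom) where
  z_ne := M.z_ne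
  z_sq := M.z_sq
  z_comm := M.z_comm
  z_mem := M.z_mem
  v_mem i := (inferInstance : Q.Normal).conj_mem _ (M.v_mem i) q
  v_sq i := by
    have : q * v i * q⁻¹ * (q * v i * q⁻¹) = q * (v i * v i) * q⁻¹ := by group
    rw [this, M.v_sq]; group
  v_anti i j hij := by
    have h1 : q * v i * q⁻¹ * (q * v j * q⁻¹) = q * (v i * v j) * q⁻¹ := by group
    rw [h1, M.v_anti i j hij]
    have h2 : q * (z * (v j * v i)) * q⁻¹ = (q * z) * (v j * v i) * q⁻¹ := by group
    rw [h2, M.z_comm]; group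
  v_prod := by
    have h1 : q * v 0 * q⁻¹ * (q * v 1 * q⁻¹) * (q * v 2 * q⁻¹) * (q * v 3 * q⁻¹) *
        (q * v 4 * q⁻¹) = q * (v 0 * v 1 * v 2 * v 3 * v 4) * q⁻¹ := by group
    rw [h1, M.v_prod]; group
  v_inj a b i j h := by
    apply M.v_inj a b i j
    have zpc : ∀ a, q * zp z a = zp z a * q := fun a => (zp_comm z M.z_comm a q)
    have h1 : ∀ a i, zp z a * (q * v i * q⁻¹) = q * (zp z a * v i) * q⁻¹ := by
      intro a i
      have : q * (zp z a * v i) * q⁻¹ = (q * zp z a) * v i * q⁻¹ := by group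
      rw [this, zpc]
      group
    rw [h1, h1] at h
    exact mul_left_cancel (mul_right_cancel h)
  conj c i := by
    have zpc : ∀ a, q * zp z a = zp z a * q := fun a => (zp_comm z M.z_comm a q)
    have h1 := M.conj (q⁻¹ * c * q) i
    have h2 : c * (q * v i * q⁻¹) * c⁻¹ = q * (q⁻¹ * c * q * v i * (q⁻¹ * c * q)⁻¹) * q⁻¹ := by group
    rw [h2, h1]
    have h3 : (ρ.comp (MulAut.conj q⁻¹).toMonoidHom) c = ρ (q⁻¹ * c * q) := by
      simp
    rw [h3]
    have : q * (zp z ((ρ (q⁻¹ * c * q)).s i) * v ((ρ (q⁻¹ * c * q)).σ i)) * q⁻¹ =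
      (q * zp z ((ρ (q⁻¹ * c * q)).s i)) * v ((ρ (q⁻¹ * c * q)).σ i) * q⁻¹ := by group
    rw [this, zpc]
    group
  ker c := by
    have h3 : (ρ.comp (MulAut.conj q⁻¹).toMonoidHom) c = ρ (q⁻¹ * c * q) := by simp
    rw [h3, M.ker]
    constructor
    · rintro (h | h)
      · left
        have := congrArg (fun t => q * t * q⁻¹) h
        simpa [mul_assoc] using this
      · right
        have := congrArg (fun t => q * t * q⁻¹) h
        simp only [mul_assoc, mul_inv_cancel_left, mul_inv_cancel, mul_one] at this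
        rw [this, ← mul_assoc, M.z_comm q, mul_assoc, mul_inv_cancel, mul_one]
    · rintro (h | h)
      · left; rw [h]; group
      · right; rw [h, M.z_comm q⁻¹, mul_assoc, inv_mul_cancel, mul_one]
  range g := by
    rw [← M.range g]
    constructor
    · rintro ⟨c, hc⟩
      exact ⟨q⁻¹ * c * q, by simpa using hc⟩
    · rintro ⟨c, hc⟩
      refine ⟨q * c * q⁻¹, ?_⟩
      have : q⁻¹ * (q * c * q⁻¹) * q = c := by group
      simpa [this, mul_assoc] using hc
  mem_Q c := by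
    have h3 : (ρ.comp (MulAut.conj q⁻¹).toMonoidHom) c = ρ (q⁻¹ * c * q) := by simp
    rw [h3, ← M.mem_Q]
    constructor
    · intro h
      have := (inferInstance : Q.Normal).conj_mem _ h q⁻¹
      simpa using this
    · intro h
      have := (inferInstance : Q.Normal).conj_mem _ h q
      have h4 : q * (q⁻¹ * c * q) * q⁻¹ = c := by group
      rwa [h4] at this
  cover x hx := by
    have hx' : q⁻¹ * x * q ∈ Q := by
      have := (inferInstance : Q.Normal).conj_mem _ hx q⁻¹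
      simpa using this
    have zpc : ∀ a, q * zp z a = zp z a * q := fun a => (zp_comm z M.z_comm a q)
    have hxe : x = q * (q⁻¹ * x * q) * q⁻¹ := by group
    have hz : ∀ a (t : C), q * (zp z a * t) * q⁻¹ = zp z a * (q * t * q⁻¹) := by
      intro a t
      have : q * (zp z a * t) * q⁻¹ = (q * zp z a) * t * q⁻¹ := by group
      rw [this, zpc]
      group
    rcases M.cover _ hx' with ⟨a, ha⟩ | ⟨a, i, ha⟩ | ⟨a, i, j, hij, ha⟩
    · left
      refine ⟨a, ?_⟩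
      rw [hxe, ha, zpc]
      group
    · right; left
      refine ⟨a, i, ?_⟩
      rw [hxe, ha, hz]
    · right; right
      refine ⟨a, i, j, hij, ?_⟩
      rw [hxe, ha, hz]
      group

/-- the permutation part -/
def sg : SP →* Equiv.Perm (Fin 5) where
  toFun g := g.σ
  map_one' := rfl
  map_mul' _ _ := rfl

theorem stab_zero : ∀ σ : Equiv.Perm (Fin 5), Equiv.Perm.sign σ = 1 → σ 0 = 0 →
    σ ^ 3 = 1 ∨ (σ * (Equiv.swap 1 2 * Equiv.swap 2 3)) ^ 3 = 1 := by decide +kernel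

theorem tr_facts : ∀ i : Fin 5, (finRotate 5 ^ (i : ℕ)) 0 = i ∧
    Equiv.Perm.sign (finRotate 5 ^ (i : ℕ)) = 1 := by decide +kernel

theorem c3_facts : Equiv.Perm.sign (Equiv.swap 1 2 * Equiv.swap 2 3 : Equiv.Perm (Fin 5)) = 1 ∧
    (Equiv.swap 1 2 * Equiv.swap 2 3 : Equiv.Perm (Fin 5)) 0 = 0 ∧
    (Equiv.swap 1 2 * Equiv.swap 2 3 : Equiv.Perm (Fin 5)) ^ 3 = 1 := by decide +kernel

theorem card_alt_five : Nat.card (alternatingGroup (Fin 5)) = 60 := by
  rw [nat_card_alternatingGroup]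
  simp [Nat.factorial]

/-- **Canonical involutions**, relative to a given model. -/
theorem exists_canon_aux [Finite C] {Q : Subgroup C} [Q.Normal] {z : C} {v : Fin 5 → C} {ρ : C →* SP}
    (M : IsModel Q z v ρ) (L : Subgroup C) (hL : Nat.card L = 60)
    (hLQ : ∀ x ∈ L, x ∈ Q → x = 1) :
    ∃ (q : C) (κ : alternatingGroup (Fin 5) →* C), q ∈ Q ∧
      (∀ σ : alternatingGroup (Fin 5), ρ (q⁻¹ * κ σ * q) = ⟨(σ : Equiv.Perm (Fin 5)), fun _ => 0⟩) ∧
      κ.range = L := by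
  let φ : L →* alternatingGroup (Fin 5) := (sg.comp (ρ.comp L.subtype)).codRestrict _
    (fun l => Equiv.Perm.mem_alternatingGroup.2 ((M.range _).1 ⟨(l : C), rfl⟩).1)
  have hφ : ∀ l : L, ((φ l : alternatingGroup (Fin 5)) : Equiv.Perm (Fin 5)) = (ρ (l : C)).σ :=
    fun _ => rfl
  have hinj : Function.Injective φ := by
    rw [injective_iff_map_eq_one]
    intro l hl
    have h1 : (ρ (l : C)).σ = 1 := by rw [← hφ, hl]; rfl
    exact Subtype.ext (hLQ l l.2 ((M.mem_Q _).2 h1))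
  have hbij : Function.Bijective φ :=
    hinj.bijective_of_nat_card_le (by rw [card_alt_five, hL])
  let e : L ≃* alternatingGroup (Fin 5) := MulEquiv.ofBijective φ hbij
  let κ : alternatingGroup (Fin 5) →* C := L.subtype.comp e.symm.toMonoidHom
  have hκσ : ∀ σ, (ρ (κ σ)).σ = σ := by
    intro σ
    have h1 := hφ (e.symm σ)
    have h2 : φ (e.symm σ) = σ := e.apply_symm_apply σ
    rw [h2] at h1
    exact h1.symm
  have hcoc : ∀ (σ τ : alternatingGroup (Fin 5)) (i : Fin 5),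
      (ρ (κ (σ * τ))).s i = (ρ (κ τ)).s i + (ρ (κ σ)).s ((τ : Equiv.Perm (Fin 5)) i) := by
    intro σ τ i
    rw [map_mul, map_mul, mul_s, hκσ]
  have hone : ∀ i, (ρ (κ 1)).s i = 0 := by
    intro i
    rw [map_one, map_one]; rfl
  have h3 : ∀ a : ZMod 2, a + (a + a) = a := by decide
  have hcube : ∀ η : alternatingGroup (Fin 5), η ^ 3 = 1 →
      (η : Equiv.Perm (Fin 5)) 0 = 0 → (ρ (κ η)).s 0 = 0 := by
    intro η h1 h2
    have h4 := hone 0
    rw [← h1, pow_succ, pow_two, hcoc, hcoc, h2, h2] at h4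
    rwa [h3] at h4
  have hstab : ∀ η : alternatingGroup (Fin 5), (η : Equiv.Perm (Fin 5)) 0 = 0 →
      (ρ (κ η)).s 0 = 0 := by
    intro η h2
    rcases stab_zero η (Equiv.Perm.mem_alternatingGroup.1 η.2) h2 with h | h
    · exact hcube η (Subtype.ext h) h2
    · let c3 : alternatingGroup (Fin 5) := ⟨Equiv.swap 1 2 * Equiv.swap 2 3,
        Equiv.Perm.mem_alternatingGroup.2 c3_facts.1⟩
      have h5 : (ρ (κ (η * c3))).s 0 = 0 := by
        apply hcube
        · exact Subtype.ext h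
        · show (η : Equiv.Perm (Fin 5)) ((c3 : Equiv.Perm (Fin 5)) 0) = 0
          rw [show (c3 : Equiv.Perm (Fin 5)) 0 = 0 from c3_facts.2.1, h2]
      have h6 : (ρ (κ c3)).s 0 = 0 := hcube c3 (Subtype.ext c3_facts.2.2) c3_facts.2.1
      rw [hcoc, h6, show (c3 : Equiv.Perm (Fin 5)) 0 = 0 from c3_facts.2.1, zero_add] at h5
      exact h5
  let τ : Fin 5 → alternatingGroup (Fin 5) := fun i =>
    ⟨finRotate 5 ^ (i : ℕ), Equiv.Perm.mem_alternatingGroup.2 (tr_facts i).2⟩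
  have hτ : ∀ i, ((τ i : alternatingGroup (Fin 5)) : Equiv.Perm (Fin 5)) 0 = i :=
    fun i => (tr_facts i).1
  have key : ∀ (σ : alternatingGroup (Fin 5)) (i : Fin 5),
      (ρ (κ σ)).s i = (ρ (κ (τ i))).s 0 + (ρ (κ (τ ((σ : Equiv.Perm (Fin 5)) i)))).s 0 := by
    intro σ i
    have h1 := hcoc σ (τ i) 0
    rw [hτ] at h1
    set j := (σ : Equiv.Perm (Fin 5)) i with hj
    have h2 : σ * τ i = τ j * ((τ j)⁻¹ * (σ * τ i)) := by group
    have h4 : (((τ j)⁻¹ * (σ * τ i) : alternatingGroup (Fin 5)) : Equiv.Perm (Fin 5)) 0 = 0 := by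
      have : (((τ j)⁻¹ * (σ * τ i) : alternatingGroup (Fin 5)) : Equiv.Perm (Fin 5)) 0 =
        ((τ j : alternatingGroup (Fin 5)) : Equiv.Perm (Fin 5))⁻¹ ((σ : Equiv.Perm (Fin 5))
          (((τ i : alternatingGroup (Fin 5)) : Equiv.Perm (Fin 5)) 0)) := rfl
      rw [this, hτ, ← hj, Equiv.Perm.inv_eq_iff_eq, hτ]
    rw [h2, hcoc, h4, hstab _ h4, zero_add] at h1
    rw [h1]
    generalize (ρ (κ (τ i))).s 0 = a
    generalize (ρ (κ σ)).s i = b
    revert a b; decide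
  obtain ⟨a, ha0, ha⟩ : ∃ a : Fin 5 → ZMod 2, ∑ i, a i = 0 ∧
      ∀ (σ : alternatingGroup (Fin 5)) (i : Fin 5),
        (ρ (κ σ)).s i = a i + a ((σ : Equiv.Perm (Fin 5)) i) := by
    rcases zmod2_cases (∑ i, (ρ (κ (τ i))).s 0) with h | h
    · exact ⟨_, h, key⟩
    · refine ⟨fun i => (ρ (κ (τ i))).s 0 + 1, ?_, ?_⟩
      · rw [Finset.sum_add_distrib, h]
        decide
      · intro σ i
        rw [key]
        have : ∀ a b : ZMod 2, a + b = a + 1 + (b + 1) := by decide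
        exact this _ _
  obtain ⟨q, hq⟩ := (M.range ⟨1, a⟩).2 ⟨by simp, ha0⟩
  refine ⟨q, κ, (M.mem_Q q).2 (by rw [hq]), ?_, ?_⟩
  · intro σ
    rw [map_mul, map_mul, map_inv, hq]
    apply SP.ext
    · rw [mul_σ, mul_σ, inv_σ, hκσ]
      simp
    · funext i
      rw [mul_s, mul_s, inv_s]
      simp only [hκσ, inv_one, Equiv.Perm.one_apply]
      rw [ha]
      generalize a i = x
      generalize a ((σ : Equiv.Perm (Fin 5)) i) = y
      revert x y; decide
  · ext x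
    constructor
    · rintro ⟨σ, rfl⟩
      exact (e.symm σ).2
    · intro hx
      refine ⟨e ⟨x, hx⟩, ?_⟩
      show ((e.symm (e ⟨x, hx⟩) : L) : C) = x
      rw [e.symm_apply_apply]

/-- **Canonical involutions.** -/
theorem exists_canon [Finite C] {Q : Subgroup C} [Q.Normal] {z : C} {v : Fin 5 → C} {ρ : C →* SP}
    (M : IsModel Q z v ρ) (L : Subgroup C) (hL : Nat.card L = 60)
    (hLQ : ∀ x ∈ L, x ∈ Q → x = 1) :
    ∃ (v' : Fin 5 → C) (ρ' : C →* SP) (κ : alternatingGroup (Fin 5) →* C),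
      IsModel Q z v' ρ' ∧ (∀ σ, ρ' (κ σ) = ⟨σ, fun _ => 0⟩) ∧ κ.range = L := by
  obtain ⟨q, κ, hqQ, hq, hr⟩ := exists_canon_aux M L hL hLQ
  refine ⟨_, _, κ, IsModel.conjBy M q, ?_, hr⟩
  intro σ
  rw [← hq σ]
  simp

theorem odd_facts : ∀ σ : Equiv.Perm (Fin 5), Equiv.Perm.sign σ = 1 →
    σ ^ 15 = 1 ∨ (σ * (Equiv.swap 1 2 * Equiv.swap 2 3)) ^ 15 = 1 ∨
      (σ * (Equiv.swap 2 3 * Equiv.swap 3 4)) ^ 15 = 1 := by decide +kernel

theorem odd_facts' : Equiv.Perm.sign (Equiv.swap 1 2 * Equiv.swap 2 3 : Equiv.Perm (Fin 5)) = 1 ∧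
    (Equiv.swap 1 2 * Equiv.swap 2 3 : Equiv.Perm (Fin 5)) ^ 15 = 1 ∧
    Equiv.Perm.sign (Equiv.swap 2 3 * Equiv.swap 3 4 : Equiv.Perm (Fin 5)) = 1 ∧
    (Equiv.swap 2 3 * Equiv.swap 3 4 : Equiv.Perm (Fin 5)) ^ 15 = 1 := by decide +kernel

/-- Two complements of `Q` are conjugate by an element of `Q`. -/
theorem conj_compl [Finite C] {Q : Subgroup C} [Q.Normal] {z : C} {v : Fin 5 → C} {ρ : C →* SP}
    (M : IsModel Q z v ρ) (L L' : Subgroup C) (hL : Nat.card L = 60)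
    (hLQ : ∀ x ∈ L, x ∈ Q → x = 1) (hL' : Nat.card L' = 60) (hLQ' : ∀ x ∈ L', x ∈ Q → x = 1) :
    ∃ q ∈ Q, ∀ x, x ∈ L' ↔ q⁻¹ * x * q ∈ L := by
  obtain ⟨q1, κ1, hq1, h1, r1⟩ := exists_canon_aux M L hL hLQ
  obtain ⟨q2, κ2, hq2, h2, r2⟩ := exists_canon_aux M L' hL' hLQ'
  -- the two parametrisations, in adapted position
  let φ1 : alternatingGroup (Fin 5) →* C := (MulAut.conj q1⁻¹).toMonoidHom.comp κ1
  let φ2 : alternatingGroup (Fin 5) →* C := (MulAut.conj q2⁻¹).toMonoidHom.comp κ2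
  have e1 : ∀ σ, φ1 σ = q1⁻¹ * κ1 σ * q1 := by intro σ; simp [φ1]
  have e2 : ∀ σ, φ2 σ = q2⁻¹ * κ2 σ * q2 := by intro σ; simp [φ2]
  have hz : ∀ σ, φ2 σ = φ1 σ ∨ φ2 σ = φ1 σ * z := by
    intro σ
    have h3 : ρ ((φ1 σ)⁻¹ * φ2 σ) = 1 := by
      rw [map_mul, map_inv, e1, e2, h1, h2, inv_mul_cancel]
    rcases (M.ker _).1 h3 with h | h
    · left; rw [inv_mul_eq_one] at h; exact h.symm
    · right; rw [← h]; group
  have hz2 : z ^ 2 = 1 := by rw [pow_two, M.z_sq]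
  have hodd : ∀ σ : alternatingGroup (Fin 5), σ ^ 15 = 1 → φ2 σ = φ1 σ := by
    intro σ hσ
    rcases hz σ with h | h
    · exact h
    · exfalso
      have h4 : (φ2 σ) ^ 15 = 1 := by rw [← map_pow, hσ, map_one]
      have h5 : (φ1 σ) ^ 15 = 1 := by rw [← map_pow, hσ, map_one]
      have hc : Commute (φ1 σ) z := M.z_comm _
      rw [h, hc.mul_pow, h5, one_mul] at h4
      have : z ^ 15 = z := by
        calc z ^ 15 = (z ^ 2) ^ 7 * z := by group
          _ = z := by rw [hz2, one_pow, one_mul]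
      rw [this] at h4
      exact M.z_ne h4
  have heq : ∀ σ, φ2 σ = φ1 σ := by
    intro σ
    let a1 : alternatingGroup (Fin 5) := ⟨Equiv.swap 1 2 * Equiv.swap 2 3,
      Equiv.Perm.mem_alternatingGroup.2 odd_facts'.1⟩
    let a2 : alternatingGroup (Fin 5) := ⟨Equiv.swap 2 3 * Equiv.swap 3 4,
      Equiv.Perm.mem_alternatingGroup.2 odd_facts'.2.2.1⟩
    have ha1 : φ2 a1 = φ1 a1 := hodd a1 (Subtype.ext odd_facts'.2.1)
    have ha2 : φ2 a2 = φ1 a2 := hodd a2 (Subtype.ext odd_facts'.2.2.2)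
    rcases odd_facts σ (Equiv.Perm.mem_alternatingGroup.1 σ.2) with h | h | h
    · exact hodd σ (Subtype.ext h)
    · have h5 : φ2 (σ * a1) = φ1 (σ * a1) := hodd _ (Subtype.ext h)
      rw [map_mul, map_mul, ha1] at h5
      exact mul_right_cancel h5
    · have h5 : φ2 (σ * a2) = φ1 (σ * a2) := hodd _ (Subtype.ext h)
      rw [map_mul, map_mul, ha2] at h5
      exact mul_right_cancel h5
  refine ⟨q2 * q1⁻¹, mul_mem hq2 (inv_mem hq1), ?_⟩
  intro x
  rw [← r1, ← r2]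
  constructor
  · rintro ⟨σ, rfl⟩
    refine ⟨σ, ?_⟩
    have h5 := heq σ
    rw [e1, e2] at h5
    have h6 : (q2 * q1⁻¹)⁻¹ * κ2 σ * (q2 * q1⁻¹) = q1 * (q2⁻¹ * κ2 σ * q2) * q1⁻¹ := by group
    rw [h6, h5]
    group
  · rintro ⟨σ, hσ⟩
    refine ⟨σ, ?_⟩
    have h5 := heq σ
    rw [e1, e2] at h5
    have h6 : κ2 σ = q2 * (q2⁻¹ * κ2 σ * q2) * q2⁻¹ := by group
    rw [h6, h5, hσ]
    group

end Cfsg.Agent.SuzType.Canon
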