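import Mathlib
import Cfsg.Agent.SuzType.Canon
import Cfsg.Agent.ClassificationK.LargeSymplectic

/-!
# Canonical involutions inside `G` (node N3)
-/

set_option autoImplicit false

namespace Cfsg.Agent.SuzType.CanonG

open Cfsg.Agent.J2Type.QStruct Cfsg.Agent.J2Type.Model
open Cfsg.Agent.ClassificationK.LargeSymplectic

variable {G : Type*} [Group G]

/-- The hypotheses of node N3: `Q` extraspecial of order `2^7` (elementwise), `y, t` in `Q` two
involutions with commutator `z`, and `L` of order 60 centralising `y` and `t`. -/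
structure Pre (Q : Subgroup G) (z y t : G) (L : Subgroup G) : Prop where
  D : Data Q z
  z_ne : z ≠ 1
  cardQ : Nat.card Q = 128
  cen : ∀ x ∈ Q, (∀ q ∈ Q, q * x = x * q) → x = 1 ∨ x = z
  yQ : y ∈ Q
  tQ : t ∈ Q
  y2 : y * y = 1
  t2 : t * t = 1
  yt : y * t = z * (t * y)
  cardL : Nat.card L = 60
  Ly : ∀ x ∈ L, x * y = y * x
  Lt : ∀ x ∈ L, x * t = t * x
  LQ : ∀ x ∈ L, x ∈ Q → x = 1

/-- The canonical involutions of `C_Q(⟨y,t⟩)` and the parametrisation of `L`. -/
structure Canon (Q : Subgroup G) (z y t : G) (L : Subgroup G) (c : Fin 5 → G)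
    (κ : alternatingGroup (Fin 5) →* G) : Prop where
  c_mem : ∀ i, c i ∈ Q
  c_y : ∀ i, c i * y = y * c i
  c_t : ∀ i, c i * t = t * c i
  c_sq : ∀ i, c i * c i = 1
  c_anti : ∀ i j, i ≠ j → c i * c j = z * (c j * c i)
  c_prod : c 0 * c 1 * c 2 * c 3 * c 4 = 1
  c_inj : ∀ a b i j, zp z a * c i = zp z b * c j → a = b ∧ i = j
  κ_range : κ.range = L
  κ_inj : Function.Injective κ
  κ_conj : ∀ (σ : alternatingGroup (Fin 5)) i, κ σ * c i * (κ σ)⁻¹ = c ((σ : Equiv.Perm (Fin 5)) i)
  cover : ∀ q ∈ Q, q * y = y * q → q * t = t * q → (∃ a, q = zp z a) ∨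
    (∃ a i, q = zp z a * c i) ∨ (∃ a i j, i < j ∧ q = zp z a * (c i * c j))

namespace Pre

variable {Q L : Subgroup G} {z y t : G} (H : Pre Q z y t L)
include H

theorem zy : z * y = y * z := (H.D.com y H.yQ).symm
theorem zt : z * t = t * z := (H.D.com t H.tQ).symm
theorem zz : z * z = 1 := H.D.sqz

theorem Lz : ∀ x ∈ L, x * z = z * x := by
  intro x hx
  have h1 : z = y * t * y⁻¹ * t⁻¹ := by
    rw [H.yt]; group
  have hy := H.Ly x hx
  have ht := H.Lt x hx
  have c1 : Commute x y := hy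
  have c2 : Commute x t := ht
  rw [h1]
  exact (((c1.mul_right c2).mul_right c1.inv_right).mul_right c2.inv_right)

theorem comm (x : G) (hx : x ∈ Q) (w : G) (hw : w ∈ Q) : x * w = w * x ∨ x * w = z * (w * x) := by
  rcases H.D.comm x hx w hw with h | h
  · left; rw [mul_inv_eq_iff_eq_mul] at h; exact h
  · right; rw [mul_inv_eq_iff_eq_mul] at h; rw [h, mul_assoc]

/-- `C_Q(⟨y, t⟩)` -/
def K0 (Q : Subgroup G) (y t : G) : Subgroup G := Q ⊓ Subgroup.centralizer {y, t}

omit H in
theorem mem_K0 {x : G} : x ∈ K0 Q y t ↔ x ∈ Q ∧ x * y = y * x ∧ x * t = t * x := by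
  unfold K0
  rw [Subgroup.mem_inf, Subgroup.mem_centralizer_iff]
  constructor
  · rintro ⟨h1, h2⟩
    exact ⟨h1, (h2 y (by simp)).symm, (h2 t (by simp)).symm⟩
  · rintro ⟨h1, h2, h3⟩
    refine ⟨h1, ?_⟩
    intro w hw
    rcases hw with rfl | hw
    · exact h2.symm
    · rw [Set.mem_singleton_iff] at hw
      subst hw
      exact h3.symm

theorem anti_iff (x : G) (hx : x ∈ Q) (w : G) (hw : w ∈ Q) : ¬ (x * w = w * x) ↔ x * w = z * (w * x) := by
  constructor
  · intro h
    rcases H.comm x hx w hw with h1 | h1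
    · exact absurd h1 h
    · exact h1
  · intro h h1
    rw [h1] at h
    exact H.z_ne (mul_eq_right.1 h.symm)

theorem mul_flip (x w a : G) (hx : x ∈ Q) (hw : w ∈ Q) (_ha : a ∈ Q) (haw : a * w = z * (w * a)) :
    (x * a) * w = w * (x * a) ↔ ¬ (x * w = w * x) := by
  have hxz : x * z = z * x := H.D.com x hx
  rw [H.anti_iff x hx w hw]
  constructor
  · intro h
    have h1 : x * a * w = z * (x * w * a) := by
      calc x * a * w = x * (a * w) := by group
        _ = (x * z) * w * a := by rw [haw]; group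
        _ = _ := by rw [hxz]; group
    rw [h1] at h
    have h2 : z * (x * w) = w * x := by
      apply mul_right_cancel (b := a)
      calc z * (x * w) * a = z * (x * w * a) := by group
        _ = w * (x * a) := h
        _ = w * x * a := by group
    rw [← h2, ← mul_assoc, H.zz, one_mul]
  · intro h
    calc x * a * w = x * (a * w) := by group
      _ = (x * z) * w * a := by rw [haw]; group
      _ = z * (x * w) * a := by rw [hxz]; group
      _ = (z * z) * (w * x) * a := by rw [h]; group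
      _ = _ := by rw [H.zz]; group

theorem ty : t * y = z * (y * t) := by
  rw [H.yt, ← mul_assoc, H.zz, one_mul]

theorem decomp (x : G) (hx : x ∈ Q) : ∃ k ∈ K0 Q y t, x = k ∨ x = k * y ∨ x = k * t ∨ x = k * (y * t) := by
  by_cases h1 : x * y = y * x
  · by_cases h2 : x * t = t * x
    · exact ⟨x, mem_K0.2 ⟨hx, h1, h2⟩, Or.inl rfl⟩
    · refine ⟨x * y, mem_K0.2 ⟨mul_mem hx H.yQ, ?_, ?_⟩, Or.inr (Or.inl ?_)⟩
      · rw [h1, mul_assoc, h1]
      · exact (H.mul_flip x t y hx H.tQ H.yQ H.yt).2 h2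
      · rw [mul_assoc, H.y2, mul_one]
  · by_cases h2 : x * t = t * x
    · refine ⟨x * t, mem_K0.2 ⟨mul_mem hx H.tQ, ?_, ?_⟩, Or.inr (Or.inr (Or.inl ?_))⟩
      · exact (H.mul_flip x y t hx H.yQ H.tQ H.ty).2 h1
      · rw [h2, mul_assoc, h2]
      · rw [mul_assoc, H.t2, mul_one]
    · have h3 : (x * y) * t = t * (x * y) := (H.mul_flip x t y hx H.tQ H.yQ H.yt).2 h2
      have h4 : ¬ ((x * y) * y = y * (x * y)) := by
        intro h
        apply h1
        apply mul_right_cancel (b := y)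
        rw [h]; group
      have h5 : x * y * t * y = y * (x * y * t) :=
        (H.mul_flip (x * y) y t (mul_mem hx H.yQ) H.yQ H.tQ H.ty).2 h4
      have h6 : x * y * t * t = t * (x * y * t) := by rw [h3, mul_assoc, h3]
      have hxz : x * z = z * x := H.D.com x hx
      refine ⟨z * (x * y * t), mem_K0.2 ⟨mul_mem H.D.mem (mul_mem (mul_mem hx H.yQ) H.tQ), ?_, ?_⟩,
        Or.inr (Or.inr (Or.inr ?_))⟩
      · rw [mul_assoc, h5, ← mul_assoc, H.zy, mul_assoc]
      · rw [mul_assoc, h6, ← mul_assoc, H.zt, mul_assoc]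
      · have h7 : y * t * (y * t) = z := by
          calc y * t * (y * t) = (y * t) * y * t := by group
            _ = z * t * (y * y) * t := by rw [H.yt]; group
            _ = z * (t * t) := by rw [H.y2]; group
            _ = z := by rw [H.t2, mul_one]
        calc x = x * (z * z) := by rw [H.zz, mul_one]
          _ = z * x * z := by rw [← mul_assoc, hxz]
          _ = z * x * (y * t * (y * t)) := by rw [h7]
          _ = _ := by group

theorem card_K0 [Finite G] : Nat.card (K0 Q y t) = 32 := by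
  let K1 : Subgroup G := Q ⊓ Subgroup.centralizer {y}
  have m1 : ∀ x, x ∈ K1 ↔ x ∈ Q ∧ x * y = y * x := by
    intro x
    simp only [K1, Subgroup.mem_inf, Subgroup.mem_centralizer_iff, Set.mem_singleton_iff, forall_eq]
    constructor
    · rintro ⟨h1, h2⟩; exact ⟨h1, h2.symm⟩
    · rintro ⟨h1, h2⟩; exact ⟨h1, h2.symm⟩
  have e1 : K1.relIndex Q = 2 := by
    rw [Subgroup.relIndex_eq_two_iff]
    refine ⟨t, H.tQ, ?_⟩
    intro b hb
    have h1 := H.mul_flip b y t hb H.yQ H.tQ H.ty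
    by_cases h2 : b * y = y * b
    · right
      refine ⟨(m1 b).2 ⟨hb, h2⟩, ?_⟩
      intro h3
      exact h1.1 ((m1 _).1 h3).2 h2
    · left
      refine ⟨(m1 _).2 ⟨mul_mem hb H.tQ, h1.2 h2⟩, ?_⟩
      intro h3
      exact h2 ((m1 _).1 h3).2
  have hK0 : K0 Q y t ≤ K1 := by
    intro x hx
    rw [mem_K0] at hx
    exact (m1 x).2 ⟨hx.1, hx.2.1⟩
  have e2 : (K0 Q y t).relIndex K1 = 2 := by
    rw [Subgroup.relIndex_eq_two_iff]
    refine ⟨y, (m1 y).2 ⟨H.yQ, rfl⟩, ?_⟩
    intro b hb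
    obtain ⟨hbQ, hby⟩ := (m1 b).1 hb
    have h1 := H.mul_flip b t y hbQ H.tQ H.yQ H.yt
    by_cases h2 : b * t = t * b
    · right
      refine ⟨mem_K0.2 ⟨hbQ, hby, h2⟩, ?_⟩
      intro h3
      exact h1.1 (mem_K0.1 h3).2.2 h2
    · left
      refine ⟨mem_K0.2 ⟨mul_mem hbQ H.yQ, ?_, h1.2 h2⟩, ?_⟩
      · rw [hby, mul_assoc, hby]
      · intro h3
        exact h2 (mem_K0.1 h3).2.2
  have c1 := Subgroup.relIndex_mul_relIndex ⊥ (K0 Q y t) K1 bot_le hK0
  have c2 := Subgroup.relIndex_mul_relIndex ⊥ K1 Q bot_le inf_le_left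
  rw [e2, Subgroup.relIndex_bot_left, Subgroup.relIndex_bot_left] at c1
  rw [e1, Subgroup.relIndex_bot_left, Subgroup.relIndex_bot_left, H.cardQ] at c2
  omega

omit H in
theorem L_norm (H : Pre Q z y t L) (l : G) (hl : l ∈ L) (x : G) (hx : x ∈ K0 Q y t) :
    l * x * l⁻¹ ∈ K0 Q y t := by
  obtain ⟨h1, h2, h3⟩ := mem_K0.1 hx
  have c0 := H.Ly l hl
  have c1 := H.Lt l hl
  refine mem_K0.2 ⟨H.D.norm l (H.Lz l hl) x h1, ?_, ?_⟩
  · have a1 : Commute l y := c0
    have a2 : Commute x y := h2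
    exact (a1.mul_left a2).mul_left (a1.inv_left)
  · have a1 : Commute l t := c1
    have a2 : Commute x t := h3
    exact (a1.mul_left a2).mul_left (a1.inv_left)

/-- the group `C_Q(⟨y,t⟩) L` -/
def CC (H : Pre Q z y t L) : Subgroup G where
  carrier := {x | ∃ n ∈ K0 Q y t, ∃ l ∈ L, x = n * l}
  one_mem' := ⟨1, one_mem _, 1, one_mem _, by simp⟩
  mul_mem' := by
    rintro _ _ ⟨n, hn, l, hl, rfl⟩ ⟨n', hn', l', hl', rfl⟩
    refine ⟨n * (l * n' * l⁻¹), mul_mem hn (L_norm H l hl n' hn'), l * l', mul_mem hl hl', ?_⟩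
    group
  inv_mem' := by
    rintro _ ⟨n, hn, l, hl, rfl⟩
    refine ⟨l⁻¹ * n⁻¹ * l, ?_, l⁻¹, inv_mem hl, ?_⟩
    · have := L_norm H l⁻¹ (inv_mem hl) n⁻¹ (inv_mem hn)
      simpa using this
    · group

omit H in
theorem mem_CC (H : Pre Q z y t L) {x : G} : x ∈ H.CC ↔ ∃ n ∈ K0 Q y t, ∃ l ∈ L, x = n * l := Iff.rfl

theorem K0_le : K0 Q y t ≤ H.CC := fun x hx => ⟨x, hx, 1, one_mem _, by simp⟩
theorem L_le : L ≤ H.CC := fun x hx => ⟨1, one_mem _, x, hx, by simp⟩

omit H in
theorem K0_normal (H : Pre Q z y t L) : ((K0 Q y t).subgroupOf H.CC).Normal := by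
  constructor
  intro x hx g
  rw [Subgroup.mem_subgroupOf] at hx ⊢
  obtain ⟨n, hn, l, hl, hg⟩ := (mem_CC H).1 g.2
  have h1 : ((g * x * g⁻¹ : H.CC) : G) = n * (l * (x : G) * l⁻¹) * n⁻¹ := by
    show (g : G) * (x : G) * (g : G)⁻¹ = _
    rw [hg]; group
  rw [h1]
  exact mul_mem (mul_mem hn (L_norm H l hl _ hx)) (inv_mem hn)

theorem isComplement : Subgroup.IsComplement' ((K0 Q y t).subgroupOf H.CC) (L.subgroupOf H.CC) := by
  apply Subgroup.isComplement'_of_disjoint_and_mul_eq_univ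
  · rw [Subgroup.disjoint_def]
    intro x hx hx'
    rw [Subgroup.mem_subgroupOf] at hx hx'
    exact Subtype.ext (H.LQ _ hx' (mem_K0.1 hx).1)
  · ext x
    simp only [Set.mem_univ, iff_true]
    obtain ⟨n, hn, l, hl, hx⟩ := (mem_CC H).1 x.2
    refine Set.mem_mul.2 ⟨⟨n, H.K0_le hn⟩, ?_, ⟨l, H.L_le hl⟩, ?_, ?_⟩
    · exact hn
    · exact hl
    · exact Subtype.ext hx.symm

theorem z_mem_K0 : z ∈ K0 Q y t := mem_K0.2 ⟨H.D.mem, H.zy, H.zt⟩

theorem cent_Q (c : G) (h1 : ∀ k ∈ K0 Q y t, c * k = k * c) (h2 : c * y = y * c)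
    (h3 : c * t = t * c) : c = 1 ∨ c = z := by
  have h4 : ∀ x ∈ Q, c * x = x * c := by
    intro x hx
    obtain ⟨k, hk, hx'⟩ := H.decomp x hx
    have a1 : Commute c k := h1 k hk
    have a2 : Commute c y := h2
    have a3 : Commute c t := h3
    rcases hx' with rfl | rfl | rfl | rfl
    · exact a1
    · exact a1.mul_right a2
    · exact a1.mul_right a3
    · exact a1.mul_right (a2.mul_right a3)
  have h5 : c ∈ Q := by
    apply H.D.cent
    intro x hx
    rw [← h4 x hx]; group
  exact H.cen c h5 (fun q hq => (h4 q hq).symm)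

theorem hyp : Hyp ((K0 Q y t).subgroupOf H.CC) (⟨z, H.K0_le H.z_mem_K0⟩ : H.CC) where
  z_ne h := H.z_ne (congrArg Subtype.val h)
  z_sq := Subtype.ext H.zz
  z_comm c := by
    obtain ⟨n, hn, l, hl, hx⟩ := (mem_CC H).1 c.2
    apply Subtype.ext
    show (c : G) * z = z * (c : G)
    rw [hx]
    have a1 : Commute n z := H.D.com n (mem_K0.1 hn).1
    have a2 : Commute l z := H.Lz l hl
    exact a1.mul_left a2
  z_mem := H.z_mem_K0
  comm x hx w hw := by
    rcases H.comm _ (mem_K0.1 hx).1 _ (mem_K0.1 hw).1 with h | h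
    · left; exact Subtype.ext h
    · right; exact Subtype.ext h
  sq x hx := by
    rcases H.D.sq _ (mem_K0.1 hx).1 with h | h
    · left; exact Subtype.ext h
    · right; exact Subtype.ext h
  cent c hc := by
    obtain ⟨n, hn, l, hl, hx⟩ := (mem_CC H).1 c.2
    have b1 : ∀ k ∈ K0 Q y t, (c : G) * k = k * (c : G) := by
      intro k hk
      exact congrArg Subtype.val (hc ⟨k, H.K0_le hk⟩ hk)
    have b2 : (c : G) * y = y * (c : G) := by
      rw [hx]
      have a1 : Commute n y := (mem_K0.1 hn).2.1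
      have a2 : Commute l y := H.Ly l hl
      exact a1.mul_left a2
    have b3 : (c : G) * t = t * (c : G) := by
      rw [hx]
      have a1 : Commute n t := (mem_K0.1 hn).2.2
      have a2 : Commute l t := H.Lt l hl
      exact a1.mul_left a2
    rcases H.cent_Q _ b1 b2 b3 with h | h
    · left; exact Subtype.ext h
    · right; exact Subtype.ext h

omit H in
theorem zp_val {K : Subgroup G} (z : K) (a : ZMod 2) : ((zp z a : K) : G) = zp (z : G) a := by
  unfold zp
  split <;> rfl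

/-- **Node N3.** -/
theorem exists_canon [Finite G] : ∃ (c : Fin 5 → G) (κ : alternatingGroup (Fin 5) →* G),
    Canon Q z y t L c κ := by
  have hnorm := K0_normal H
  have hcard : Nat.card ((K0 Q y t).subgroupOf H.CC) = 32 := by
    rw [← H.card_K0]
    exact Nat.card_congr (Subgroup.subgroupOfEquivOfLe H.K0_le).toEquiv
  have hcardL : Nat.card (L.subgroupOf H.CC) = 60 := by
    rw [← H.cardL]
    exact Nat.card_congr (Subgroup.subgroupOfEquivOfLe H.L_le).toEquiv
  have h60 : Nat.card (H.CC ⧸ (K0 Q y t).subgroupOf H.CC) = 60 := by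
    have h1 := H.isComplement.card_mul_card
    have h2 := Subgroup.card_eq_card_quotient_mul_card_subgroup ((K0 Q y t).subgroupOf H.CC)
    rw [hcard] at h1 h2
    rw [hcardL] at h1
    omega
  obtain ⟨v, ρ, M⟩ := Canon.exists_model_of_hyp H.hyp hcard h60
  obtain ⟨v', ρ', κ, M', hκ, hr⟩ := Canon.exists_canon M (L.subgroupOf H.CC) hcardL (by
    intro x hx hx'
    exact Subtype.ext (H.LQ _ hx (mem_K0.1 hx').1))
  refine ⟨fun i => (v' i : G), (H.CC.subtype).comp κ, ?_⟩
  have hm : ∀ i, (v' i : G) ∈ K0 Q y t := fun i => M'.v_mem i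
  exact {
    c_mem := fun i => (mem_K0.1 (hm i)).1
    c_y := fun i => (mem_K0.1 (hm i)).2.1
    c_t := fun i => (mem_K0.1 (hm i)).2.2
    c_sq := fun i => congrArg Subtype.val (M'.v_sq i)
    c_anti := fun i j hij => congrArg Subtype.val (M'.v_anti i j hij)
    c_prod := congrArg Subtype.val M'.v_prod
    c_inj := by
      intro a b i j h
      apply M'.v_inj a b i j
      apply Subtype.ext
      show ((zp (⟨z, _⟩ : H.CC) a : H.CC) : G) * (v' i : G) =
        ((zp (⟨z, _⟩ : H.CC) b : H.CC) : G) * (v' j : G)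
      rw [zp_val, zp_val]
      exact h
    κ_range := by
      rw [MonoidHom.range_comp, hr]
      exact Subgroup.map_subgroupOf_eq_of_le H.L_le
    κ_inj := by
      have h1 : Function.Injective κ := by
        rw [injective_iff_map_eq_one]
        intro σ hσ
        have h2 := hκ σ
        rw [hσ, map_one] at h2
        have h3 := congrArg SP.σ h2
        exact Subtype.ext h3.symm
      exact (Subtype.val_injective).comp h1
    κ_conj := by
      intro σ i
      have h1 := M'.conj (κ σ) i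
      rw [hκ] at h1
      have h2 := congrArg Subtype.val h1
      have h3 : zp (⟨z, H.K0_le H.z_mem_K0⟩ : H.CC) ((⟨(σ : Equiv.Perm (Fin 5)), fun _ => 0⟩ : SP).s i) = 1 := zp_zero _
      rw [h3, one_mul] at h2
      exact h2
    cover := by
      intro q hq h1 h2
      have hq' : q ∈ K0 Q y t := mem_K0.2 ⟨hq, h1, h2⟩
      rcases M'.cover ⟨q, H.K0_le hq'⟩ hq' with ⟨a, ha⟩ | ⟨a, i, ha⟩ | ⟨a, i, j, hij, ha⟩
      · left
        refine ⟨a, ?_⟩
        have := congrArg Subtype.val ha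
        rw [zp_val] at this
        exact this
      · right; left
        refine ⟨a, i, ?_⟩
        have := congrArg Subtype.val ha
        rw [Subgroup.coe_mul, zp_val] at this
        exact this
      · right; right
        refine ⟨a, i, j, hij, ?_⟩
        have := congrArg Subtype.val ha
        rw [Subgroup.coe_mul, zp_val] at this
        exact this }

end Pre

end Cfsg.Agent.SuzType.CanonG
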