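import Mathlib
import Cfsg.Agent.SuzType.CanonG

/-!
# The centralizer in `C(z)` of the subgroup `A4` of `L = A5` (node N5)

`Pre Q z y t L`, `Canon Q z y t L c κ`; `A4 = κ (stabiliser of 4)`; `r = c 4`; elements `a`, `b` of `C(z)`
commuting with `A4` and acting on `Q` like `f r f⁻¹` and `u r u⁻¹`.
Then every element of `C(z)` commuting with `A4` lies in `⟨y, t, r, a, b⟩`.
-/

set_option autoImplicit false

namespace Cfsg.Agent.SuzType.CentA4

open Cfsg.Agent.J2Type.QStruct Cfsg.Agent.J2Type.Model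
open Cfsg.Agent.ClassificationK.LargeSymplectic Cfsg.Agent.SuzType.CanonG

variable {G : Type*} [Group G]

/-- The elements of `C(z)` acting like `f r f⁻¹` (`y' = y`, `t' = t`) or `u r u⁻¹` (`y' = t`, `t' = y`). -/
structure Act (z y' t' : G) (c : Fin 5 → G) (κ : alternatingGroup (Fin 5) →* G) (a : G) : Prop where
  az : a * z = z * a
  ay : a * y' = y' * a
  at' : a * t' * a⁻¹ = c 4 * t'
  a4 : a * c 4 = c 4 * a
  ac : ∀ i, i ≠ 4 → a * c i * a⁻¹ = z * y' * c i
  aA : ∀ σ : alternatingGroup (Fin 5), (σ : Equiv.Perm (Fin 5)) 4 = 4 → a * κ σ = κ σ * a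

/-- `x` or `1` -/
def bp (x : G) (b : Bool) : G := cond b x 1

theorem bp_true (x : G) : bp x true = x := rfl
theorem bp_false (x : G) : bp x false = 1 := rfl

section basics

variable {Q L : Subgroup G} {z y t : G} {c : Fin 5 → G} {κ : alternatingGroup (Fin 5) →* G}
  (H : Pre Q z y t L) (K : Canon Q z y t L c κ)

include K in
theorem cc (i : Fin 5) : c i * c i = 1 := K.c_sq i

include H K in
theorem c_ne_zp (a : ZMod 2) (i : Fin 5) : c i ≠ zp z a := by
  intro h
  have h1 := K.c_anti i (i + 1) (by fin_cases i <;> decide)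
  have hz : ∀ x ∈ Q, x * zp z a = zp z a * x := by
    intro x hx
    rcases zmod2_cases a with rfl | rfl
    · rw [zp_zero, mul_one, one_mul]
    · rw [zp_one]; exact H.D.com x hx
  rw [h, ← hz _ (K.c_mem _)] at h1
  exact H.z_ne (mul_eq_right.1 h1.symm)

include H K in
/-- products of two involutions determine the pair -/
theorem pair_of_eq {i j k l : Fin 5} (_hij : i ≠ j) (hkl : k ≠ l) {a : ZMod 2}
    (h : c i * c j = zp z a * (c k * c l)) : k = i ∨ k = j := by
  by_contra hno
  push Not at hno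
  obtain ⟨h1, h2⟩ := hno
  have hz : ∀ x ∈ Q, x * z = z * x := H.D.com
  have e1 : c k * (c i * c j) = (c i * c j) * c k := by
    calc c k * (c i * c j) = (c k * c i) * c j := by group
      _ = z * c i * (c k * c j) := by rw [K.c_anti k i h1]; group
      _ = z * (c i * z) * (c j * c k) := by rw [K.c_anti k j h2]; group
      _ = (z * z) * (c i * (c j * c k)) := by rw [hz _ (K.c_mem i)]; group
      _ = (c i * c j) * c k := by rw [H.zz]; group
  rw [h] at e1
  have hza : ∀ x ∈ Q, x * zp z a = zp z a * x := by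
    intro x hx
    rcases zmod2_cases a with rfl | rfl
    · rw [zp_zero, mul_one, one_mul]
    · rw [zp_one]; exact hz x hx
  have e2 : c k * (zp z a * (c k * c l)) = zp z a * c l := by
    rw [← mul_assoc, hza _ (K.c_mem k), mul_assoc, ← mul_assoc (c k) (c k), K.c_sq, one_mul]
  have e3 : zp z a * (c k * c l) * c k = zp z a * (z * c l) := by
    have : c k * c l * c k = z * c l := by
      rw [mul_assoc, K.c_anti l k hkl.symm, ← mul_assoc, hz _ (K.c_mem k), mul_assoc, ← mul_assoc (c k) (c k),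
        K.c_sq, one_mul]
    rw [mul_assoc, this]
  rw [e2, e3, mul_right_inj] at e1
  exact H.z_ne (mul_eq_right.1 e1.symm)

/-- the 3-cycle `(1 2 3)` -/
def s123 : alternatingGroup (Fin 5) :=
  ⟨Equiv.swap 1 2 * Equiv.swap 2 3, Equiv.Perm.mem_alternatingGroup.2 (by decide)⟩

/-- the 3-cycle `(0 1 2)` -/
def s012 : alternatingGroup (Fin 5) :=
  ⟨Equiv.swap 0 1 * Equiv.swap 1 2, Equiv.Perm.mem_alternatingGroup.2 (by decide)⟩

theorem s123_fix4 : (s123 : Equiv.Perm (Fin 5)) 4 = 4 := by decide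
theorem s012_fix4 : (s012 : Equiv.Perm (Fin 5)) 4 = 4 := by decide
theorem s123_fix0 : (s123 : Equiv.Perm (Fin 5)) 0 = 0 := by decide
theorem s012_0 : (s012 : Equiv.Perm (Fin 5)) 0 = 1 := by decide

include K in
theorem kap_c (σ : alternatingGroup (Fin 5)) (i : Fin 5) :
    κ σ * c i = c ((σ : Equiv.Perm (Fin 5)) i) * κ σ := by
  rw [← K.κ_conj σ i]; group

include K in
theorem kap_mem (σ : alternatingGroup (Fin 5)) : κ σ ∈ L := by
  rw [← K.κ_range]; exact ⟨σ, rfl⟩

include H K in
theorem kap_zp (σ : alternatingGroup (Fin 5)) (a : ZMod 2) : κ σ * zp z a = zp z a * κ σ := by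
  rcases zmod2_cases a with rfl | rfl
  · rw [zp_zero, mul_one, one_mul]
  · rw [zp_one]; exact H.Lz _ (kap_mem K σ)

include H K in
/-- Elements of `K0` commuting with `κ σ`. -/
theorem comm_K0 (σ : alternatingGroup (Fin 5)) {k : G} (hk : k ∈ Pre.K0 Q y t) (hc : k * κ σ = κ σ * k) :
    (∃ a, k = zp z a) ∨ (∃ a i, (σ : Equiv.Perm (Fin 5)) i = i ∧ k = zp z a * c i) ∨
      (∃ a i j, i < j ∧ (((σ : Equiv.Perm (Fin 5)) i = i ∨ (σ : Equiv.Perm (Fin 5)) i = j) ∧
        ((σ : Equiv.Perm (Fin 5)) j = i ∨ (σ : Equiv.Perm (Fin 5)) j = j)) ∧ k = zp z a * (c i * c j)) := by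
  obtain ⟨h1, h2, h3⟩ := Pre.mem_K0.1 hk
  rcases K.cover k h1 h2 h3 with h | ⟨a, i, h⟩ | ⟨a, i, j, hij, h⟩
  · exact Or.inl h
  · right; left
    refine ⟨a, i, ?_, h⟩
    rw [h, mul_assoc, ← mul_assoc (κ σ), kap_zp H K, mul_assoc, kap_c K, mul_right_inj, mul_left_inj] at hc
    have := K.c_inj 0 0 i ((σ : Equiv.Perm (Fin 5)) i) (by rw [zp_zero, one_mul, one_mul]; exact hc)
    exact this.2.symm
  · right; right
    refine ⟨a, i, j, hij, ?_, h⟩
    have hc' : c i * c j = c ((σ : Equiv.Perm (Fin 5)) i) * c ((σ : Equiv.Perm (Fin 5)) j) := by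
      have e1 : κ σ * (c i * c j) = (c ((σ : Equiv.Perm (Fin 5)) i) * c ((σ : Equiv.Perm (Fin 5)) j)) * κ σ := by
        rw [← mul_assoc, kap_c K, mul_assoc, kap_c K, ← mul_assoc]
      have e2 : zp z a * ((c i * c j) * κ σ) = zp z a * (κ σ * (c i * c j)) := by
        rw [h] at hc
        calc zp z a * ((c i * c j) * κ σ) = zp z a * (c i * c j) * κ σ := by group
          _ = (κ σ * zp z a) * (c i * c j) := by rw [hc]; group
          _ = _ := by rw [kap_zp H K]; group
      rw [mul_right_inj, e1, mul_left_inj] at e2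
      exact e2
    have hne : (σ : Equiv.Perm (Fin 5)) i ≠ (σ : Equiv.Perm (Fin 5)) j := fun h => hij.ne ((σ : Equiv.Perm (Fin 5)).injective h)
    constructor
    · exact pair_of_eq H K hij.ne hne (a := 0) (by rw [zp_zero, one_mul]; exact hc')
    · have hc'' : c i * c j = zp z 1 * (c ((σ : Equiv.Perm (Fin 5)) j) * c ((σ : Equiv.Perm (Fin 5)) i)) := by
        rw [hc', K.c_anti _ _ hne, zp_one]
      exact pair_of_eq H K hij.ne hne.symm hc''

include H K in
/-- Elements of `Q` commuting with `κ (1 2 3)`. -/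
theorem comm_s123 {q : G} (hq : q ∈ Q) (hc : q * κ s123 = κ s123 * q) :
    ∃ (s : ZMod 2) (γ δ α β : Bool), q = zp z s * bp (c 0) γ * bp (c 4) δ * bp y α * bp t β := by
  obtain ⟨k, hk, hx⟩ := H.decomp q hq
  have hd : ∃ α β : Bool, q = k * (bp y α * bp t β) := by
    rcases hx with h | h | h | h
    · exact ⟨false, false, by rw [h]; simp [bp]⟩
    · exact ⟨true, false, by rw [h]; simp [bp]⟩
    · exact ⟨false, true, by rw [h]; simp [bp]⟩
    · exact ⟨true, true, by rw [h]; simp [bp]⟩
  obtain ⟨α, β, hab⟩ := hd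
  have hcd : (bp y α * bp t β) * κ s123 = κ s123 * (bp y α * bp t β) := by
    have c1 : Commute (κ s123) y := H.Ly _ (kap_mem K _)
    have c2 : Commute (κ s123) t := H.Lt _ (kap_mem K _)
    have c3 : Commute (κ s123) (bp y α) := by cases α <;> simp [bp, c1]
    have c4 : Commute (κ s123) (bp t β) := by cases β <;> simp [bp, c2]
    exact (c3.mul_right c4).eq.symm
  have hck : k * κ s123 = κ s123 * k := by
    rw [hab, mul_assoc, hcd] at hc
    apply mul_right_cancel (b := bp y α * bp t β)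
    rw [mul_assoc, hc, mul_assoc]
  have key : ∃ (s : ZMod 2) (γ δ : Bool), k = zp z s * bp (c 0) γ * bp (c 4) δ := by
    rcases comm_K0 H K s123 hk hck with ⟨a, h⟩ | ⟨a, i, hi, h⟩ | ⟨a, i, j, hij, hh, h⟩
    · exact ⟨a, false, false, by simp [bp, h]⟩
    · have : i = 0 ∨ i = 4 := by
        clear h
        revert i
        decide
      rcases this with rfl | rfl
      · exact ⟨a, true, false, by simp [bp, h]⟩
      · exact ⟨a, false, true, by simp [bp, h]⟩
    · have : i = 0 ∧ j = 4 := by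
        clear h
        revert i j
        decide
      obtain ⟨rfl, rfl⟩ := this
      exact ⟨a, true, true, by simp [bp, h, mul_assoc]⟩
  obtain ⟨s, γ, δ, hk'⟩ := key
  refine ⟨s, γ, δ, α, β, ?_⟩
  rw [hab, hk']
  simp only [mul_assoc]

include H K in
/-- Elements of `Q` commuting with `A4`. -/
theorem comm_A4 {q : G} (hq : q ∈ Q) (hc : q * κ s123 = κ s123 * q) (hc' : q * κ s012 = κ s012 * q) :
    ∃ (s : ZMod 2) (δ α β : Bool), q = zp z s * bp (c 4) δ * bp y α * bp t β := by
  obtain ⟨k, hk, hx⟩ := H.decomp q hq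
  have hd : ∃ α β : Bool, q = k * (bp y α * bp t β) := by
    rcases hx with h | h | h | h
    · exact ⟨false, false, by rw [h]; simp [bp]⟩
    · exact ⟨true, false, by rw [h]; simp [bp]⟩
    · exact ⟨false, true, by rw [h]; simp [bp]⟩
    · exact ⟨true, true, by rw [h]; simp [bp]⟩
  obtain ⟨α, β, hab⟩ := hd
  have hcd : ∀ σ : alternatingGroup (Fin 5), (bp y α * bp t β) * κ σ = κ σ * (bp y α * bp t β) := by
    intro σ
    have c1 : Commute (κ σ) y := H.Ly _ (kap_mem K _)
    have c2 : Commute (κ σ) t := H.Lt _ (kap_mem K _)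
    have c3 : Commute (κ σ) (bp y α) := by cases α <;> simp [bp, c1]
    have c4 : Commute (κ σ) (bp t β) := by cases β <;> simp [bp, c2]
    exact (c3.mul_right c4).eq.symm
  have hck : ∀ σ : alternatingGroup (Fin 5), q * κ σ = κ σ * q → k * κ σ = κ σ * k := by
    intro σ hc
    rw [hab, mul_assoc, hcd] at hc
    apply mul_right_cancel (b := bp y α * bp t β)
    rw [mul_assoc, hc, mul_assoc]
  have h1 := comm_K0 H K s123 hk (hck _ hc)
  have h2 := comm_K0 H K s012 hk (hck _ hc')
  have key : ∃ (s : ZMod 2) (δ : Bool), k = zp z s * bp (c 4) δ := by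
    rcases h1 with ⟨a, h⟩ | ⟨a, i, hi, h⟩ | ⟨a, i, j, hij, hh, h⟩
    · exact ⟨a, false, by simp [bp, h]⟩
    · have : i = 0 ∨ i = 4 := by
        clear h
        revert i
        decide
      rcases this with rfl | rfl
      · exfalso
        rcases h2 with ⟨a', h'⟩ | ⟨a', i', hi', h'⟩ | ⟨a', i', j', hij', hh', h'⟩
        · apply c_ne_zp H K (a + a') 0
          rw [h] at h'
          have h3 := congrArg (fun w => zp z a * w) h'
          simp only [← mul_assoc, zp_self z H.zz, one_mul] at h3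
          rw [h3, zp_add z H.zz]
        · have := K.c_inj _ _ _ _ (h.symm.trans h')
          rw [← this.2] at hi'
          revert hi'; decide
        · -- an involution is not a product of two
          have e1 : k * k = 1 := by
            rw [h]
            have : zp z a * c 0 * (zp z a * c 0) = (zp z a * zp z a) * (c 0 * c 0) := by
              have : c 0 * zp z a = zp z a * c 0 := by
                rcases zmod2_cases a with rfl | rfl
                · rw [zp_zero, mul_one, one_mul]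
                · rw [zp_one]; exact H.D.com _ (K.c_mem 0)
              calc zp z a * c 0 * (zp z a * c 0) = zp z a * (c 0 * zp z a) * c 0 := by group
                _ = _ := by rw [this]; group
            rw [this, zp_self z H.zz, K.c_sq, one_mul]
          have e2 : k * k = z := by
            rw [h']
            have hcz : ∀ x ∈ Q, x * zp z a' = zp z a' * x := by
              intro x hx
              rcases zmod2_cases a' with h0 | h0
              · rw [h0, zp_zero, mul_one, one_mul]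
              · rw [h0, zp_one]; exact H.D.com _ hx
            have h3 := hcz (c i' * c j') (mul_mem (K.c_mem _) (K.c_mem _))
            calc zp z a' * (c i' * c j') * (zp z a' * (c i' * c j'))
                = zp z a' * ((c i' * c j') * zp z a') * (c i' * c j') := by group
              _ = (zp z a' * zp z a') * ((c i' * c j') * (c i' * c j')) := by rw [h3]; group
              _ = (c i' * c j') * (c i' * c j') := by rw [zp_self z H.zz, one_mul]
              _ = z * (c j' * c i') * (c i' * c j') := by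
                  rw [← K.c_anti _ _ hij'.ne]
              _ = z * (c j' * (c i' * c i') * c j') := by group
              _ = z := by rw [K.c_sq, mul_one, K.c_sq, mul_one]
          rw [e1] at e2
          exact H.z_ne e2.symm
      · exact ⟨a, true, by simp [bp, h]⟩
    · exfalso
      have : i = 0 ∧ j = 4 := by
        clear h
        revert i j
        decide
      obtain ⟨rfl, rfl⟩ := this
      have hzz : ∀ (a' : ZMod 2), ∀ x ∈ Q, x * zp z a' = zp z a' * x := by
        intro a' x hx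
        rcases zmod2_cases a' with h0 | h0
        · rw [h0, zp_zero, mul_one, one_mul]
        · rw [h0, zp_one]; exact H.D.com _ hx
      have e2 : k * k = z := by
        rw [h]
        have h3 := hzz a (c 0 * c 4) (mul_mem (K.c_mem _) (K.c_mem _))
        calc zp z a * (c 0 * c 4) * (zp z a * (c 0 * c 4))
            = zp z a * ((c 0 * c 4) * zp z a) * (c 0 * c 4) := by group
          _ = (zp z a * zp z a) * ((c 0 * c 4) * (c 0 * c 4)) := by rw [h3]; group
          _ = (c 0 * c 4) * (c 0 * c 4) := by rw [zp_self z H.zz, one_mul]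
          _ = z * (c 4 * c 0) * (c 0 * c 4) := by
              rw [← K.c_anti _ _ (by decide)]
          _ = z * (c 4 * (c 0 * c 0) * c 4) := by group
          _ = z := by rw [K.c_sq, mul_one, K.c_sq, mul_one]
      rcases h2 with ⟨a', h'⟩ | ⟨a', i', hi', h'⟩ | ⟨a', i', j', hij', hh', h'⟩
      · have e1 : k * k = 1 := by rw [h', zp_self z H.zz]
        rw [e1] at e2
        exact H.z_ne e2.symm
      · have e1 : k * k = 1 := by
          rw [h']
          calc zp z a' * c i' * (zp z a' * c i') = zp z a' * (c i' * zp z a') * c i' := by group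
            _ = (zp z a' * zp z a') * (c i' * c i') := by rw [hzz a' _ (K.c_mem i')]; group
            _ = 1 := by rw [zp_self z H.zz, K.c_sq, one_mul]
        rw [e1] at e2
        exact H.z_ne e2.symm
      · have hij3 : i' = 3 ∧ j' = 4 := by
          clear h'
          revert i' j'
          decide
        obtain ⟨rfl, rfl⟩ := hij3
        rw [h] at h'
        have h3 : c 0 * c 4 = zp z (a + a') * (c 3 * c 4) := by
          have h4 := congrArg (fun w => zp z a * w) h'
          simp only [← mul_assoc, zp_self z H.zz, one_mul] at h4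
          rw [h4, zp_add z H.zz]
          group
        rcases pair_of_eq H K (by decide) (by decide) h3 with h5 | h5
        · exact absurd h5 (by decide)
        · exact absurd h5 (by decide)
  obtain ⟨s, δ, hk'⟩ := key
  refine ⟨s, δ, α, β, ?_⟩
  rw [hab, hk']
  simp only [mul_assoc]

/-- the subgroup `T = ⟨y, t, r, a, b⟩` -/
def T (y t : G) (c : Fin 5 → G) (a b : G) : Subgroup G := Subgroup.closure {y, t, c 4, a, b}

theorem y_mem (y t : G) (c : Fin 5 → G) (a b : G) : y ∈ T y t c a b := Subgroup.subset_closure (by simp)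
theorem t_mem (y t : G) (c : Fin 5 → G) (a b : G) : t ∈ T y t c a b := Subgroup.subset_closure (by simp)
theorem r_mem (y t : G) (c : Fin 5 → G) (a b : G) : c 4 ∈ T y t c a b := Subgroup.subset_closure (by simp)
theorem a_mem (y t : G) (c : Fin 5 → G) (a b : G) : a ∈ T y t c a b := Subgroup.subset_closure (by simp)
theorem b_mem (y t : G) (c : Fin 5 → G) (a b : G) : b ∈ T y t c a b := Subgroup.subset_closure (by simp)

include H in
theorem z_mem (c : Fin 5 → G) (a b : G) : z ∈ T y t c a b := by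
  have h1 : z = y * t * y⁻¹ * t⁻¹ := by rw [H.yt]; group
  rw [h1]
  exact mul_mem (mul_mem (mul_mem (y_mem _ _ _ _ _) (t_mem _ _ _ _ _)) (inv_mem (y_mem _ _ _ _ _)))
    (inv_mem (t_mem _ _ _ _ _))

theorem bp_mem {S : Subgroup G} {x : G} (h : x ∈ S) (b : Bool) : bp x b ∈ S := by
  cases b
  · exact one_mem _
  · exact h

theorem bp_mul_self {x : G} (h : x * x = 1) (b : Bool) : bp x b * bp x b = 1 := by
  cases b
  · simp [bp]
  · simpa [bp] using h

theorem exists_stab (i : Fin 5) (hi : i ≠ 4) : ∃ σ : alternatingGroup (Fin 5),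
    (σ : Equiv.Perm (Fin 5)) 4 = 4 ∧ (σ : Equiv.Perm (Fin 5)) 0 = i := by
  fin_cases i
  · exact ⟨1, rfl, rfl⟩
  · exact ⟨s012, by decide, by decide⟩
  · exact ⟨s012 * s012, by decide, by decide⟩
  · exact ⟨⟨Equiv.swap 0 1 * Equiv.swap 0 3, Equiv.Perm.mem_alternatingGroup.2 (by decide)⟩, by decide, by decide⟩
  · exact absurd rfl hi

theorem zp_comm (x : G) (hx : x * z = z * x) (a : ZMod 2) : x * zp z a = zp z a * x := by
  rcases zmod2_cases a with rfl | rfl
  · rw [zp_zero, mul_one, one_mul]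
  · rw [zp_one]; exact hx

include H K in
theorem c_y_ne (i : Fin 5) (a : ZMod 2) : c i ≠ zp z a * y := by
  intro h
  have h1 := K.c_t i
  have h2 : t * zp z a = zp z a * t := zp_comm t H.zt.symm a
  rw [h, mul_assoc, ← mul_assoc t, h2, mul_assoc, mul_right_inj, H.yt] at h1
  exact H.z_ne (mul_eq_right.1 h1)

/-- The final step: elements of `C(z)` commuting with `A4` and sending `c 0` into `K0`. -/
theorem mem_of_fixed (H : Pre Q z y t L) (K : Canon Q z y t L c κ) {a b : G}
    (hno : ∀ g : G, g * z = z * g → (∀ i, g * c i * g⁻¹ = c i ∨ g * c i * g⁻¹ = z * c i) →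
      (g * y * g⁻¹ = t ∨ g * y * g⁻¹ = z * t) → (g * t * g⁻¹ = y ∨ g * t * g⁻¹ = z * y) → False)
    {g : G} (hgz : g * z = z * g)
    (hgA : ∀ σ : alternatingGroup (Fin 5), (σ : Equiv.Perm (Fin 5)) 4 = 4 → g * κ σ = κ σ * g)
    {s : ZMod 2} {δ : Bool} (h0 : g * c 0 * g⁻¹ = zp z s * c 0 * bp (c 4) δ) : g ∈ T y t c a b := by
  have hzQ : ∀ x ∈ Q, ∀ a, x * zp z a = zp z a * x := fun x hx a => zp_comm x (H.D.com x hx) a
  have hzc : ∀ i a, c i * zp z a = zp z a * c i := fun i a => hzQ _ (K.c_mem i) a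
  -- `δ = false`
  have hδ : δ = false := by
    cases δ
    · rfl
    · exfalso
      have e1 : (g * c 0 * g⁻¹) * (g * c 0 * g⁻¹) = 1 := by
        calc (g * c 0 * g⁻¹) * (g * c 0 * g⁻¹) = g * (c 0 * c 0) * g⁻¹ := by group
          _ = 1 := by rw [K.c_sq]; group
      rw [h0, bp_true] at e1
      have e2 : zp z s * c 0 * c 4 * (zp z s * c 0 * c 4) = z := by
        calc zp z s * c 0 * c 4 * (zp z s * c 0 * c 4) = zp z s * (c 0 * (c 4 * zp z s)) * (c 0 * c 4) := by group
          _ = zp z s * (c 0 * zp z s) * c 4 * (c 0 * c 4) := by rw [hzc]; group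
          _ = (zp z s * zp z s) * (c 0 * c 4) * (c 0 * c 4) := by rw [hzc]; group
          _ = (c 0 * c 4) * (c 0 * c 4) := by rw [zp_self z H.zz, one_mul]
          _ = z * (c 4 * c 0) * (c 0 * c 4) := by rw [← K.c_anti 0 4 (by decide)]
          _ = z * (c 4 * (c 0 * c 0) * c 4) := by group
          _ = z := by rw [K.c_sq, mul_one, K.c_sq, mul_one]
      rw [e2] at e1
      exact H.z_ne e1
  subst hδ
  rw [bp_false, mul_one] at h0
  -- the other involutions
  have hi : ∀ i, i ≠ 4 → g * c i * g⁻¹ = zp z s * c i := by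
    intro i hi
    obtain ⟨σ, h1, h2⟩ := exists_stab i hi
    have h3 := K.κ_conj σ 0
    rw [h2] at h3
    have h4 := hgA σ h1
    have h5 : g⁻¹ * κ σ = κ σ * g⁻¹ := by
      have c1 : Commute g (κ σ) := h4
      exact c1.inv_left.eq
    calc g * c i * g⁻¹ = g * (κ σ * c 0 * (κ σ)⁻¹) * g⁻¹ := by rw [h3]
      _ = (g * κ σ) * c 0 * (κ σ * 1 * (κ σ)⁻¹ * (κ σ)⁻¹ * g⁻¹) := by group
      _ = κ σ * g * c 0 * ((κ σ)⁻¹ * g⁻¹) := by rw [h4]; group
      _ = κ σ * (g * c 0 * g⁻¹) * (κ σ)⁻¹ := by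
          have h6 : (κ σ)⁻¹ * g⁻¹ = g⁻¹ * (κ σ)⁻¹ := by
            rw [← mul_inv_rev, ← mul_inv_rev, h4]
          rw [h6]; group
      _ = κ σ * zp z s * c 0 * (κ σ)⁻¹ := by rw [h0]; group
      _ = zp z s * (κ σ * c 0 * (κ σ)⁻¹) := by rw [kap_zp H K]; group
      _ = zp z s * c i := by rw [h3]
  have hpair : ∀ i j, (zp z s * c i) * (zp z s * c j) = c i * c j := by
    intro i j
    calc (zp z s * c i) * (zp z s * c j) = zp z s * (c i * zp z s) * c j := by group
      _ = (zp z s * zp z s) * (c i * c j) := by rw [hzc]; group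
      _ = _ := by rw [zp_self z H.zz, one_mul]
  have h4 : g * c 4 * g⁻¹ = c 4 := by
    have e0 : c 4 = (c 0 * c 1 * c 2 * c 3)⁻¹ := by
      rw [eq_inv_iff_mul_eq_one]
      have := K.c_prod
      have e : c 0 * c 1 * c 2 * c 3 = (c 4)⁻¹ := eq_inv_of_mul_eq_one_left this
      rw [e, mul_inv_cancel]
    have e1 : g * (c 0 * c 1 * c 2 * c 3) * g⁻¹ = c 0 * c 1 * c 2 * c 3 := by
      calc g * (c 0 * c 1 * c 2 * c 3) * g⁻¹ =
          (g * c 0 * g⁻¹) * (g * c 1 * g⁻¹) * (g * c 2 * g⁻¹) * (g * c 3 * g⁻¹) := by group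
        _ = (zp z s * c 0) * (zp z s * c 1) * (zp z s * c 2) * (zp z s * c 3) := by
            rw [h0, hi 1 (by decide), hi 2 (by decide), hi 3 (by decide)]
        _ = ((zp z s * c 0) * (zp z s * c 1)) * ((zp z s * c 2) * (zp z s * c 3)) := by group
        _ = _ := by rw [hpair, hpair]; group
    rw [e0]
    calc g * (c 0 * c 1 * c 2 * c 3)⁻¹ * g⁻¹ = (g * (c 0 * c 1 * c 2 * c 3) * g⁻¹)⁻¹ := by group
      _ = _ := by rw [e1]
  -- the images of `y`, `t`
  have himg : ∀ x ∈ Q, (∀ i, x * c i = c i * x) → (∀ σ : alternatingGroup (Fin 5), x * κ σ = κ σ * x) →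
      ∃ (s1 : ZMod 2) (α β : Bool), g * x * g⁻¹ = zp z s1 * bp y α * bp t β := by
    intro x hx hxc hxk
    have hk : ∀ σ : alternatingGroup (Fin 5), (σ : Equiv.Perm (Fin 5)) 4 = 4 →
        (g * x * g⁻¹) * κ σ = κ σ * (g * x * g⁻¹) := by
      intro σ hσ
      have c1 : Commute g (κ σ) := hgA σ hσ
      have c2 : Commute x (κ σ) := hxk σ
      exact ((c1.mul_left c2).mul_left c1.inv_left).eq
    obtain ⟨s1, δ, α, β, h⟩ := comm_A4 H K (H.D.norm g hgz x hx) (hk _ s123_fix4) (hk _ s012_fix4)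
    have e1 : (g * x * g⁻¹) * (g * c 0 * g⁻¹) = (g * c 0 * g⁻¹) * (g * x * g⁻¹) := by
      calc (g * x * g⁻¹) * (g * c 0 * g⁻¹) = g * (x * c 0) * g⁻¹ := by group
        _ = g * (c 0 * x) * g⁻¹ := by rw [hxc]
        _ = _ := by group
    refine ⟨s1, α, β, ?_⟩
    cases δ
    · rw [h, bp_false, mul_one]
    · exfalso
      rw [h, h0, bp_true] at e1
      have cy : Commute (c 0) y := K.c_y 0
      have ct : Commute (c 0) t := K.c_t 0
      have cya : Commute (c 0) (bp y α) := by cases α <;> simp [bp, cy]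
      have ctb : Commute (c 0) (bp t β) := by cases β <;> simp [bp, ct]
      have cd : Commute (c 0) (bp y α * bp t β) := cya.mul_right ctb
      have cz : ∀ w ∈ Q, Commute w (zp z s) := fun w hw => hzQ w hw s
      have cz1 : ∀ w ∈ Q, Commute w (zp z s1) := fun w hw => hzQ w hw s1
      have hyQ : bp y α ∈ Q := bp_mem H.yQ α
      have htQ : bp t β ∈ Q := bp_mem H.tQ β
      have hX : zp z s1 * c 4 * bp y α * bp t β ∈ Q := by
        refine mul_mem (mul_mem (mul_mem ?_ (K.c_mem 4)) hyQ) htQ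
        rcases zmod2_cases s1 with h9 | h9
        · rw [h9, zp_zero]; exact one_mem _
        · rw [h9, zp_one]; exact H.D.mem
      have e2 : zp z s1 * c 4 * bp y α * bp t β * c 0 = c 0 * (zp z s1 * c 4 * bp y α * bp t β) := by
        have e3 : zp z s * (zp z s1 * c 4 * bp y α * bp t β * c 0) =
            zp z s * (c 0 * (zp z s1 * c 4 * bp y α * bp t β)) := by
          rw [← mul_assoc, ← (cz _ hX).eq, mul_assoc, e1, mul_assoc]
        exact mul_left_cancel e3
      have e4 : c 4 * c 0 = c 0 * c 4 := by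
        have e5 : zp z s1 * (c 4 * c 0) * (bp y α * bp t β) = zp z s1 * (c 0 * c 4) * (bp y α * bp t β) := by
          calc zp z s1 * (c 4 * c 0) * (bp y α * bp t β) = zp z s1 * c 4 * (c 0 * (bp y α * bp t β)) := by group
            _ = zp z s1 * c 4 * ((bp y α * bp t β) * c 0) := by rw [cd.eq]
            _ = zp z s1 * c 4 * bp y α * bp t β * c 0 := by group
            _ = c 0 * (zp z s1 * c 4 * bp y α * bp t β) := e2
            _ = (c 0 * zp z s1) * c 4 * bp y α * bp t β := by group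
            _ = _ := by rw [(cz1 _ (K.c_mem 0)).eq]; group
        exact mul_left_cancel (mul_right_cancel e5)
      have e6 := K.c_anti 4 0 (by decide)
      rw [e4] at e6
      rw [← e4] at e6
      exact H.z_ne (mul_eq_right.1 e6.symm)
  have hyk : ∀ σ : alternatingGroup (Fin 5), y * κ σ = κ σ * y := fun σ => (H.Ly _ (kap_mem K σ)).symm
  have htk : ∀ σ : alternatingGroup (Fin 5), t * κ σ = κ σ * t := fun σ => (H.Lt _ (kap_mem K σ)).symm
  -- squares and centrality
  have hsel : ∀ x ∈ Q, x * x = 1 → (∀ a, x ≠ zp z a) → (∀ i, x * c i = c i * x) →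
      (∀ σ : alternatingGroup (Fin 5), x * κ σ = κ σ * x) →
      ∃ s1 : ZMod 2, g * x * g⁻¹ = zp z s1 * y ∨ g * x * g⁻¹ = zp z s1 * t := by
    intro x hx hxx hxz hxc hxk
    obtain ⟨s1, α, β, h⟩ := himg x hx hxc hxk
    refine ⟨s1, ?_⟩
    cases α <;> cases β
    · exfalso
      rw [bp_false, bp_false, mul_one, mul_one] at h
      apply hxz s1
      have c1 : Commute g (zp z s1) := zp_comm g hgz s1
      calc x = g⁻¹ * (g * x * g⁻¹) * g := by group
        _ = g⁻¹ * (zp z s1 * g) := by rw [h]; group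
        _ = zp z s1 := by rw [← c1.eq]; group
    · right; rw [h, bp_false, bp_true, mul_one]
    · left; rw [h, bp_false, bp_true, mul_one]
    · exfalso
      rw [bp_true, bp_true] at h
      have e1 : (g * x * g⁻¹) * (g * x * g⁻¹) = 1 := by
        calc (g * x * g⁻¹) * (g * x * g⁻¹) = g * (x * x) * g⁻¹ := by group
          _ = 1 := by rw [hxx]; group
      rw [h] at e1
      have e2 : zp z s1 * y * t * (zp z s1 * y * t) = z := by
        have h9 := hzQ (y * t) (mul_mem H.yQ H.tQ) s1
        calc zp z s1 * y * t * (zp z s1 * y * t) = zp z s1 * ((y * t) * zp z s1) * (y * t) := by group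
          _ = (zp z s1 * zp z s1) * ((y * t) * (y * t)) := by rw [h9]; group
          _ = y * t * (y * t) := by rw [zp_self z H.zz, one_mul]
          _ = z * (t * y) * (y * t) := by rw [← H.yt]
          _ = z * (t * (y * y) * t) := by group
          _ = z := by rw [H.y2, mul_one, H.t2, mul_one]
      rw [e2] at e1
      exact H.z_ne e1
  have hynz : ∀ a, y ≠ zp z a := by
    intro a h
    have h1 := H.yt
    rw [h, ← hzQ t H.tQ a] at h1
    exact H.z_ne (mul_eq_right.1 h1.symm)
  have htnz : ∀ a, t ≠ zp z a := by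
    intro a h
    have h1 := H.yt
    rw [h, hzQ y H.yQ a] at h1
    exact H.z_ne (mul_eq_right.1 h1.symm)
  obtain ⟨s1, hy⟩ := hsel y H.yQ H.y2 hynz (fun i => (K.c_y i).symm) hyk
  obtain ⟨s2, ht⟩ := hsel t H.tQ H.t2 htnz (fun i => (K.c_t i).symm) htk
  have hanti : (g * y * g⁻¹) * (g * t * g⁻¹) = z * ((g * t * g⁻¹) * (g * y * g⁻¹)) := by
    calc (g * y * g⁻¹) * (g * t * g⁻¹) = g * (y * t) * g⁻¹ := by group
      _ = (g * z) * (t * y) * g⁻¹ := by rw [H.yt]; group
      _ = z * (g * (t * y) * g⁻¹) := by rw [hgz]; group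
      _ = _ := by group
  have hzs : ∀ a, zp z a = 1 ∨ zp z a = z := by
    intro a
    rcases zmod2_cases a with h9 | h9
    · left; rw [h9, zp_zero]
    · right; rw [h9, zp_one]
  have hcall : ∀ i, g * c i * g⁻¹ = c i ∨ g * c i * g⁻¹ = z * c i := by
    intro i
    by_cases hi4 : i = 4
    · left; rw [hi4]; exact h4
    · rw [hi i hi4]
      rcases hzs s with h9 | h9
      · left; rw [h9, one_mul]
      · right; rw [h9]
  rcases hy with hy | hy <;> rcases ht with ht | ht
  · -- both `y`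
    exfalso
    rw [hy, ht] at hanti
    have e1 : zp z s1 * y * (zp z s2 * y) = zp z s2 * y * (zp z s1 * y) := by
      calc zp z s1 * y * (zp z s2 * y) = zp z s1 * (y * zp z s2) * y := by group
        _ = (zp z s1 * zp z s2) * (y * y) := by rw [hzQ y H.yQ]; group
        _ = (zp z s2 * zp z s1) * (y * y) := by rw [zp_comm _ (by
            rcases hzs s1 with h9 | h9 <;> simp [h9])]
        _ = zp z s2 * (zp z s1 * y) * y := by group
        _ = zp z s2 * (y * zp z s1) * y := by rw [hzQ y H.yQ]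
        _ = _ := by group
    rw [e1] at hanti
    exact H.z_ne (mul_eq_right.1 hanti.symm)
  · -- the good case
    have hyg : g * y * g⁻¹ = zp z s1 * y := hy
    have htg : g * t * g⁻¹ = zp z s2 * t := ht
    obtain ⟨w, hwT, hwz, hwc, hw4, hwy, hwt⟩ : ∃ w ∈ T y t c a b, w * z = z * w ∧
        (∀ i, i ≠ 4 → w * c i * w⁻¹ = zp z s * c i) ∧ w * c 4 * w⁻¹ = c 4 ∧
        w * y * w⁻¹ = zp z s1 * y ∧ w * t * w⁻¹ = zp z s2 * t := by
      have i4 : (c 4)⁻¹ = c 4 := inv_eq_of_mul_eq_one_left (K.c_sq 4)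
      have iy : y⁻¹ = y := inv_eq_of_mul_eq_one_left H.y2
      have it : t⁻¹ = t := inv_eq_of_mul_eq_one_left H.t2
      -- three elementary pieces
      have p1 : ∃ w ∈ T y t c a b, w ∈ Q ∧ (∀ i, i ≠ 4 → w * c i * w⁻¹ = zp z s * c i) ∧
          w * c 4 * w⁻¹ = c 4 ∧ w * y * w⁻¹ = y ∧ w * t * w⁻¹ = t := by
        rcases zmod2_cases s with h9 | h9
        · exact ⟨1, one_mem _, one_mem _, by intro i _; rw [h9, zp_zero]; group, by group, by group, by group⟩
        · refine ⟨c 4, r_mem _ _ _ _ _, K.c_mem 4, ?_, by group, ?_, ?_⟩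
          · intro i hi4
            rw [K.c_anti 4 i (Ne.symm hi4), h9, zp_one]; group
          · rw [K.c_y]; group
          · rw [K.c_t]; group
      have p2 : ∃ w ∈ T y t c a b, w ∈ Q ∧ (∀ i, w * c i * w⁻¹ = c i) ∧
          w * y * w⁻¹ = zp z s1 * y ∧ w * t * w⁻¹ = t := by
        rcases zmod2_cases s1 with h9 | h9
        · exact ⟨1, one_mem _, one_mem _, by intro i; group, by rw [h9, zp_zero]; group, by group⟩
        · refine ⟨t, t_mem _ _ _ _ _, H.tQ, ?_, ?_, by group⟩
          · intro i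
            rw [← K.c_t]; group
          · rw [H.ty, h9, zp_one]; group
      have p3 : ∃ w ∈ T y t c a b, w ∈ Q ∧ (∀ i, w * c i * w⁻¹ = c i) ∧
          w * y * w⁻¹ = y ∧ w * t * w⁻¹ = zp z s2 * t := by
        rcases zmod2_cases s2 with h9 | h9
        · exact ⟨1, one_mem _, one_mem _, by intro i; group, by group, by rw [h9, zp_zero]; group⟩
        · refine ⟨y, y_mem _ _ _ _ _, H.yQ, ?_, by group, ?_⟩
          · intro i
            rw [← K.c_y]; group
          · rw [H.yt, h9, zp_one]; group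
      obtain ⟨w1, m1, q1, c1, d1, y1, t1⟩ := p1
      obtain ⟨w2, m2, q2, c2, y2, t2⟩ := p2
      obtain ⟨w3, m3, q3, c3, y3, t3⟩ := p3
      have hcj : ∀ w ∈ Q, ∀ a x : _, w * (zp z a * x) * w⁻¹ = zp z a * (w * x * w⁻¹) := by
        intro w hw a x
        have := hzQ w hw a
        calc w * (zp z a * x) * w⁻¹ = (w * zp z a) * x * w⁻¹ := by group
          _ = _ := by rw [this]; group
      refine ⟨w1 * w2 * w3, mul_mem (mul_mem m1 m2) m3, ?_, ?_, ?_, ?_, ?_⟩
      · exact H.D.com _ (mul_mem (mul_mem q1 q2) q3)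
      · intro i hi4
        calc w1 * w2 * w3 * c i * (w1 * w2 * w3)⁻¹ = w1 * (w2 * (w3 * c i * w3⁻¹) * w2⁻¹) * w1⁻¹ := by group
          _ = _ := by rw [c3, c2, c1 i hi4]
      · calc w1 * w2 * w3 * c 4 * (w1 * w2 * w3)⁻¹ = w1 * (w2 * (w3 * c 4 * w3⁻¹) * w2⁻¹) * w1⁻¹ := by group
          _ = _ := by rw [c3, c2, d1]
      · calc w1 * w2 * w3 * y * (w1 * w2 * w3)⁻¹ = w1 * (w2 * (w3 * y * w3⁻¹) * w2⁻¹) * w1⁻¹ := by group
          _ = _ := by rw [y3, y2, hcj _ q1, y1]
      · calc w1 * w2 * w3 * t * (w1 * w2 * w3)⁻¹ = w1 * (w2 * (w3 * t * w3⁻¹) * w2⁻¹) * w1⁻¹ := by group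
          _ = _ := by rw [t3, hcj _ q2, hcj _ q1, t2, t1]
    -- `w⁻¹ g` centralizes `Q`
    have hfix : ∀ x : G, g * x * g⁻¹ = w * x * w⁻¹ → (w⁻¹ * g) * x = x * (w⁻¹ * g) := by
      intro x hx
      calc (w⁻¹ * g) * x = w⁻¹ * (g * x * g⁻¹) * g := by group
        _ = w⁻¹ * (w * x * w⁻¹) * g := by rw [hx]
        _ = _ := by group
    have hfc : ∀ i, (w⁻¹ * g) * c i = c i * (w⁻¹ * g) := by
      intro i
      apply hfix
      by_cases hi4 : i = 4
      · rw [hi4, h4, hw4]
      · rw [hi i hi4, hwc i hi4]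
    have hfz : (w⁻¹ * g) * z = z * (w⁻¹ * g) := by
      apply hfix
      rw [hgz, hwz]; group
    have hfy : (w⁻¹ * g) * y = y * (w⁻¹ * g) := hfix y (by rw [hyg, hwy])
    have hft : (w⁻¹ * g) * t = t * (w⁻¹ * g) := hfix t (by rw [htg, hwt])
    have hK : ∀ k ∈ Pre.K0 Q y t, (w⁻¹ * g) * k = k * (w⁻¹ * g) := by
      intro k hk
      obtain ⟨k1, k2, k3⟩ := Pre.mem_K0.1 hk
      have cz : ∀ a, Commute (w⁻¹ * g) (zp z a) := fun a => zp_comm _ hfz a
      have ccc : ∀ i, Commute (w⁻¹ * g) (c i) := hfc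
      rcases K.cover k k1 k2 k3 with ⟨a, h⟩ | ⟨a, i, h⟩ | ⟨a, i, j, -, h⟩
      · rw [h]; exact cz a
      · rw [h]; exact (cz a).mul_right (ccc i)
      · rw [h]; exact (cz a).mul_right ((ccc i).mul_right (ccc j))
    have hT : w⁻¹ * g ∈ T y t c a b := by
      rcases H.cent_Q _ hK hfy hft with h | h
      · rw [h]; exact one_mem _
      · rw [h]; exact z_mem H c a b
    have := mul_mem hwT hT
    rwa [mul_inv_cancel_left] at this
  · exfalso
    refine hno g hgz hcall ?_ ?_
    · rcases hzs s1 with h9 | h9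
      · left; rw [hy, h9, one_mul]
      · right; rw [hy, h9]
    · rcases hzs s2 with h9 | h9
      · left; rw [ht, h9, one_mul]
      · right; rw [ht, h9]
  · exfalso
    rw [hy, ht] at hanti
    have e1 : zp z s1 * t * (zp z s2 * t) = zp z s2 * t * (zp z s1 * t) := by
      calc zp z s1 * t * (zp z s2 * t) = zp z s1 * (t * zp z s2) * t := by group
        _ = (zp z s1 * zp z s2) * (t * t) := by rw [hzQ t H.tQ]; group
        _ = (zp z s2 * zp z s1) * (t * t) := by rw [zp_comm _ (by
            rcases hzs s1 with h9 | h9 <;> simp [h9])]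
        _ = zp z s2 * (zp z s1 * t) * t := by group
        _ = zp z s2 * (t * zp z s1) * t := by rw [hzQ t H.tQ]
        _ = _ := by group
    rw [e1] at hanti
    exact H.z_ne (mul_eq_right.1 hanti.symm)

/-- Commutation of `bp` factors. -/
theorem comm_bp {x w : G} (h : x * w = w * x) (b : Bool) : x * bp w b = bp w b * x := by
  cases b
  · simp [bp]
  · exact h

/-- The image of `c 0` under an element of `C(z)` commuting with `A4`. -/
theorem image_c0 (H : Pre Q z y t L) (K : Canon Q z y t L c κ) {g : G} (hgz : g * z = z * g)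
    (hgA : ∀ σ : alternatingGroup (Fin 5), (σ : Equiv.Perm (Fin 5)) 4 = 4 → g * κ σ = κ σ * g) :
    ∃ (s : ZMod 2) (δ α β : Bool), g * c 0 * g⁻¹ = zp z s * c 0 * bp (c 4) δ * bp y α * bp t β := by
  have hk0 : c 0 * κ s123 = κ s123 * c 0 := by
    rw [kap_c K, s123_fix0]
  have hk : (g * c 0 * g⁻¹) * κ s123 = κ s123 * (g * c 0 * g⁻¹) := by
    have c1 : Commute g (κ s123) := hgA _ s123_fix4
    have c2 : Commute (c 0) (κ s123) := hk0
    exact ((c1.mul_left c2).mul_left c1.inv_left).eq
  obtain ⟨s, γ, δ, α, β, h⟩ := comm_s123 H K (H.D.norm g hgz _ (K.c_mem 0)) hk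
  cases γ
  · exfalso
    rw [bp_false, mul_one] at h
    -- the image commutes with `κ s012`
    have h1 : (g * c 0 * g⁻¹) * κ s012 = κ s012 * (g * c 0 * g⁻¹) := by
      rw [h]
      have d1 : Commute (κ s012) (zp z s) := kap_zp H K s012 s
      have d2 : Commute (κ s012) (c 4) := by
        have := kap_c K s012 4
        rwa [s012_fix4] at this
      have d2' : Commute (κ s012) (bp (c 4) δ) := comm_bp d2 δ
      have d3 : Commute (κ s012) (bp y α) := comm_bp (H.Ly _ (kap_mem K _)) α
      have d4 : Commute (κ s012) (bp t β) := comm_bp (H.Lt _ (kap_mem K _)) β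
      exact (((d1.mul_right d2').mul_right d3).mul_right d4).eq.symm
    have h2 : g * (c 0 * κ s012) * g⁻¹ = g * (κ s012 * c 0) * g⁻¹ := by
      have e1 : g⁻¹ * κ s012 = κ s012 * g⁻¹ := by
        have c1 : Commute g (κ s012) := hgA _ s012_fix4
        exact c1.inv_left.eq
      calc g * (c 0 * κ s012) * g⁻¹ = g * c 0 * (κ s012 * g⁻¹) := by group
        _ = (g * c 0 * g⁻¹) * κ s012 := by rw [← e1]; group
        _ = κ s012 * g * c 0 * g⁻¹ := by rw [h1]; group
        _ = _ := by rw [← hgA _ s012_fix4]; group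
    have h3 : c 0 * κ s012 = κ s012 * c 0 := mul_left_cancel (mul_right_cancel h2)
    rw [kap_c K, s012_0, mul_left_inj] at h3
    have := K.c_inj 0 0 0 1 (by rw [zp_zero, one_mul, one_mul]; exact h3)
    exact absurd this.2 (by decide)
  · exact ⟨s, δ, α, β, by rw [h, bp_true]⟩

/-- **`C_{C(z)}(A4) = ⟨y, t, r, a, b⟩`.** -/
theorem mem_T (H : Pre Q z y t L) (K : Canon Q z y t L c κ) {a b : G}
    (A : Act z y t c κ a) (B : Act z t y c κ b)
    (hno : ∀ g : G, g * z = z * g → (∀ i, g * c i * g⁻¹ = c i ∨ g * c i * g⁻¹ = z * c i) →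
      (g * y * g⁻¹ = t ∨ g * y * g⁻¹ = z * t) → (g * t * g⁻¹ = y ∨ g * t * g⁻¹ = z * y) → False)
    {g : G} (hgz : g * z = z * g)
    (hgA : ∀ σ : alternatingGroup (Fin 5), (σ : Equiv.Perm (Fin 5)) 4 = 4 → g * κ σ = κ σ * g) :
    g ∈ T y t c a b := by
  have hzQ : ∀ x ∈ Q, ∀ a, x * zp z a = zp z a * x := fun x hx a => zp_comm x (H.D.com x hx) a
  have zp1 : ∀ s : ZMod 2, zp z s * z = zp z (s + 1) := by
    intro s
    rw [zp_add z H.zz, zp_one]
  -- multiplication by an element `w` of `T`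
  have red : ∀ w ∈ T y t c a b, w * g ∈ T y t c a b → g ∈ T y t c a b := by
    intro w hw h
    have := mul_mem (inv_mem hw) h
    rwa [inv_mul_cancel_left] at this
  -- the case `α = false`
  have caseB : ∀ g : G, g * z = z * g →
      (∀ σ : alternatingGroup (Fin 5), (σ : Equiv.Perm (Fin 5)) 4 = 4 → g * κ σ = κ σ * g) →
      ∀ (s : ZMod 2) (δ β : Bool), g * c 0 * g⁻¹ = zp z s * c 0 * bp (c 4) δ * bp t β → g ∈ T y t c a b := by
    intro g hgz hgA s δ β h
    cases β
    · rw [bp_false, mul_one] at h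
      exact mem_of_fixed H K hno hgz hgA h
    · rw [bp_true] at h
      have h1 : (b * g) * c 0 * (b * g)⁻¹ = zp z (s + 1) * c 0 * bp (c 4) δ := by
        have e4 : b * bp (c 4) δ * b⁻¹ = bp (c 4) δ := by
          rw [comm_bp B.a4]; group
        have et : b * t * b⁻¹ = t := by rw [B.ay]; group
        have ez : b * zp z s * b⁻¹ = zp z s := by rw [zp_comm b B.az s]; group
        have ct4 : t * bp (c 4) δ = bp (c 4) δ * t := comm_bp (K.c_t 4).symm δ
        calc (b * g) * c 0 * (b * g)⁻¹ = b * (g * c 0 * g⁻¹) * b⁻¹ := by group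
          _ = (b * zp z s * b⁻¹) * (b * c 0 * b⁻¹) * (b * bp (c 4) δ * b⁻¹) * (b * t * b⁻¹) := by rw [h]; group
          _ = zp z s * (z * t * c 0) * bp (c 4) δ * t := by rw [ez, B.ac 0 (by decide), e4, et]
          _ = zp z s * z * (t * c 0) * (bp (c 4) δ * t) := by group
          _ = zp z s * z * (c 0 * t) * (t * bp (c 4) δ) := by rw [← ct4, K.c_t 0]
          _ = zp z s * z * c 0 * (t * t) * bp (c 4) δ := by group
          _ = _ := by rw [H.t2, mul_one, zp1]
      have hbz : (b * g) * z = z * (b * g) := by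
        rw [mul_assoc, hgz, ← mul_assoc, B.az, mul_assoc]
      have hbA : ∀ σ : alternatingGroup (Fin 5), (σ : Equiv.Perm (Fin 5)) 4 = 4 →
          (b * g) * κ σ = κ σ * (b * g) := by
        intro σ hσ
        rw [mul_assoc, hgA σ hσ, ← mul_assoc, B.aA σ hσ, mul_assoc]
      have h2 := mem_of_fixed H K (a := a) (b := b) hno hbz hbA h1
      have := mul_mem (inv_mem (b_mem y t c a b)) h2
      rwa [inv_mul_cancel_left] at this
  obtain ⟨s, δ, α, β, h⟩ := image_c0 H K hgz hgA
  cases α
  · rw [bp_false, mul_one] at h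
    exact caseB g hgz hgA s δ β h
  · rw [bp_true] at h
    apply red a (a_mem y t c a b)
    have haz : (a * g) * z = z * (a * g) := by
      rw [mul_assoc, hgz, ← mul_assoc, A.az, mul_assoc]
    have haA : ∀ σ : alternatingGroup (Fin 5), (σ : Equiv.Perm (Fin 5)) 4 = 4 →
        (a * g) * κ σ = κ σ * (a * g) := by
      intro σ hσ
      rw [mul_assoc, hgA σ hσ, ← mul_assoc, A.aA σ hσ, mul_assoc]
    have e4 : a * bp (c 4) δ * a⁻¹ = bp (c 4) δ := by
      rw [comm_bp A.a4]; group
    have ey : a * y * a⁻¹ = y := by rw [A.ay]; group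
    have ez : a * zp z s * a⁻¹ = zp z s := by rw [zp_comm a A.az s]; group
    have cy4 : y * bp (c 4) δ = bp (c 4) δ * y := comm_bp (K.c_y 4).symm δ
    have hmain : (a * g) * c 0 * (a * g)⁻¹ =
        zp z (s + 1) * c 0 * bp (c 4) δ * (a * bp t β * a⁻¹) := by
      calc (a * g) * c 0 * (a * g)⁻¹ = a * (g * c 0 * g⁻¹) * a⁻¹ := by group
        _ = (a * zp z s * a⁻¹) * (a * c 0 * a⁻¹) * (a * bp (c 4) δ * a⁻¹) * (a * y * a⁻¹) *
            (a * bp t β * a⁻¹) := by rw [h]; group
        _ = zp z s * (z * y * c 0) * bp (c 4) δ * y * (a * bp t β * a⁻¹) := by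
            rw [ez, A.ac 0 (by decide), e4, ey]
        _ = zp z s * z * (y * c 0) * (bp (c 4) δ * y) * (a * bp t β * a⁻¹) := by group
        _ = zp z s * z * (c 0 * y) * (y * bp (c 4) δ) * (a * bp t β * a⁻¹) := by rw [← cy4, K.c_y 0]
        _ = zp z s * z * c 0 * (y * y) * bp (c 4) δ * (a * bp t β * a⁻¹) := by group
        _ = _ := by rw [H.y2, mul_one, zp1]
    cases β
    · apply caseB (a * g) haz haA (s + 1) δ false
      rw [hmain]
      simp [bp]
    · have hd : ∃ δ', bp (c 4) δ * c 4 = bp (c 4) δ' := by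
        cases δ
        · exact ⟨true, by simp [bp]⟩
        · exact ⟨false, by simp [bp, K.c_sq]⟩
      obtain ⟨δ', hd⟩ := hd
      apply caseB (a * g) haz haA (s + 1) δ' true
      rw [hmain, bp_true, A.at', ← hd]
      group

end basics

end Cfsg.Agent.SuzType.CentA4
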