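import Cfsg.Agent.SuzType.PlaneRel

/-!
# Groups of Suzuki type: `C_G(z)` is contained in every subgroup containing `Q`, `L`, `f`, `u`

`exists_local₂` : the local data together with the decomposition of `C_G(⟨z, y⟩)`.
`cent_le` : `C_G(z) ≤ K` if `Q ≤ K`, `L ≤ K`, `f, u ∈ K`.
-/

set_option autoImplicit false

namespace Cfsg.Agent.SuzType.CentIn

open Cfsg.Agent.J2Type.QStruct Cfsg.Agent.J2Type.Model
open Cfsg.Agent.ClassificationK.LargeSymplectic Cfsg.Agent.SuzType.CanonG Cfsg.Agent.SuzType.Swap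
  Cfsg.Agent.SuzType.RR Cfsg.Agent.SuzType.CentA4 Cfsg.Agent.SuzType.LocalRel
open Cfsg.Agent.LargeExtra Cfsg.Agent.LargeExtra.FourGroup

variable {G : Type*} [Group G]

/-- Existence of the local data, with the decomposition of the centralizer of `⟨z, y⟩`. -/
theorem exists_local₂ [Finite G] {Q : Subgroup G} {z y g₀ : G} (H : SuzHyp Q z)
    (hy : g₀ * z * g₀⁻¹ = y) (hyQ : y ∈ Q) (hne : y ≠ z) :
    ∃ (t f u g : G) (L : Subgroup G), Local Q z y t f u g L ∧
      ∀ c, c * z = z * c → c * y = y * c → ∃ a ∈ Q, ∃ b ∈ Q, ∃ l ∈ L, c = a * (f * b * f⁻¹) * l := by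
  have h := ctx_of_data H.data hy hne hyQ H.z_ne rfl
  obtain ⟨f, t, F, tQ, t2, tf, ty, tL, fL, LR, hCR, hT, -, hV, -, cardL, -⟩ := H.four h
  have hzz := h.zz
  have hyt : y * t = z * (t * y) := by
    have h1 : t * y = z * y * t := by rw [← ty]; group
    rw [h1, ← mul_assoc, ← mul_assoc, hzz, one_mul]
  have hpre : PreT Q z y t (h.L f) := {
    D := H.data
    z_ne := H.z_ne
    cardQ := H.card_Q
    cen := fun x hx hc => H.center hx (fun q hq => by rw [hc q hq]; group)
    yQ := hyQ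
    tQ := tQ
    y2 := h.yy
    t2 := t2
    yt := hyt
    cardL := cardL
    Ly := fun x hx => (mem_CV.1 (h.mem_L.1 hx).1).2
    Lt := fun x hx => (tL x hx).symm
    LQ := by
      intro x hx hxQ
      apply LR x hx
      apply h.A_le_R
      rw [h.mem_A_iff]
      exact ⟨hxQ, (mem_CV.1 (h.mem_L.1 hx).1).2⟩
    pairs := by
      intro y₁ w₁ y₂ w₂ m1 m2 m3 m4 s1 s2 s3 s4 c1 c2
      have key : ∀ a b : G, a * b = z * (b * a) → b * a ≠ a * b := by
        intro a b h1 h2
        rw [h2] at h1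
        exact H.z_ne (mul_eq_right.1 h1.symm)
      exact H.conj_pair m1 s1 m2 s2 (key _ _ c1) m3 s3 m4 s4 (key _ _ c2)
    cardC := by
      have hne' : t * y ≠ y * t := by
        intro h2
        rw [h2] at hyt
        exact H.z_ne (mul_eq_right.1 hyt.symm)
      rw [← H.card_CVw hyQ h.yy tQ t2 hne']
      congr 1
      have : Subgroup.centralizer ({y, t} : Set G) = CV z y ⊓ Subgroup.centralizer ({t} : Set G) := by
        ext x
        rw [mem_cent_pair, Subgroup.mem_inf, mem_CV, Subgroup.mem_centralizer_singleton_iff]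
        constructor
        · rintro ⟨h1, h2⟩
          refine ⟨⟨?_, h1⟩, h2⟩
          have e1 : z = y * t * y⁻¹ * t⁻¹ := by rw [hyt]; group
          have c1 : Commute x y := h1
          have c2 : Commute x t := h2
          rw [e1]
          exact (((c1.mul_right c2).mul_right c1.inv_right).mul_right c2.inv_right)
        · rintro ⟨⟨-, h1⟩, h2⟩
          exact ⟨h1, h2⟩
      rw [this] }
  obtain ⟨g, gz, gy, gt, gL⟩ := hpre.exists_swap
  have T1 : Tri Q z y t f := tri_of_four h hV F hT tf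
  have hQ : ∀ q, q ∈ Q ↔ g * q * g⁻¹ ∈ Q := by
    intro q
    constructor
    · exact fun hq => H.data.norm g gz q hq
    · intro hq
      have gz' : g⁻¹ * z = z * g⁻¹ := by
        have : Commute g z := gz
        exact this.inv_left.eq
      have := H.data.norm g⁻¹ gz' _ hq
      have e : g⁻¹ * (g * q * g⁻¹) * g⁻¹⁻¹ = q := by group
      rwa [e] at this
  have T2 := T1.conj g gz hQ
  rw [gy, gt] at T2
  refine ⟨t, f, g * f * g⁻¹, g, h.L f, ?_, ?_⟩
  · exact {
      toPreT := hpre
      T1 := T1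
      T2 := T2
      f3 := F.f3
      u3 := by
        have : (g * f * g⁻¹) ^ 3 = g * f ^ 3 * g⁻¹ := by
          simp only [pow_succ, pow_zero, one_mul]; group
        rw [this, F.f3]; group
      fL := fL
      uL := by
        intro l hl
        have h1 : g⁻¹ * l * g ∈ h.L f := by
          rw [gL]
          have : g * (g⁻¹ * l * g) * g⁻¹ = l := by group
          rw [this]; exact hl
        have h2 := fL _ h1
        calc l * (g * f * g⁻¹) = g * ((g⁻¹ * l * g) * f) * g⁻¹ := by group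
          _ = g * (f * (g⁻¹ * l * g)) * g⁻¹ := by rw [h2]
          _ = _ := by group
      gz := gz
      gy := gy
      gt := gt
      gL := gL
      gf := rfl }
  · intro c c1 c2
    obtain ⟨x, hx, l, hl, e⟩ := hCR c (mem_CV.2 ⟨c1, c2⟩)
    obtain ⟨a, ha, b, hb, e'⟩ := h.mem_R.1 hx
    refine ⟨a, (h.mem_A_iff.1 ha).1, f⁻¹ * b * f, ?_, l, hl, ?_⟩
    · rw [h.cj f T1.gz]
      have : f * (f⁻¹ * b * f) * f⁻¹ = b := by group
      rw [this]
      exact (h.mem_B_iff.1 hb).1
    · rw [e, e']; group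

section

variable {Q L K : Subgroup G} {z y t f u g : G}

/-- `x` commutes with `w` and `c x = x c`-type conjugation. -/
theorem comm_conj {k c w v : G} (hk : k * w * k⁻¹ = v) (hc : c * v = v * c) :
    (k⁻¹ * c * k) * w = w * (k⁻¹ * c * k) := by
  have e : w = k⁻¹ * v * k := by rw [← hk]; group
  rw [e]
  calc k⁻¹ * c * k * (k⁻¹ * v * k) = k⁻¹ * (c * v) * k := by group
    _ = k⁻¹ * (v * c) * k := by rw [hc]
    _ = _ := by group

theorem comm_z_mul {z a b : G} (ha : a * z = z * a) (hb : b * z = z * b) : a * b * z = z * (a * b) := by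
  rw [mul_assoc, hb, ← mul_assoc, ha, mul_assoc]

theorem comm_z_inv {z a : G} (ha : a * z = z * a) : a⁻¹ * z = z * a⁻¹ := by
  have : Commute a z := ha
  exact this.inv_left.eq

/-- `w` is a conjugate of `y` under `K ∩ C(z)`. -/
def Orb (K : Subgroup G) (z y w : G) : Prop := ∃ k ∈ K, k * z = z * k ∧ k * y * k⁻¹ = w

theorem orb_cent (hN : ∀ c, c * z = z * c → c * y = y * c → c ∈ K) {w : G} (hw : Orb K z y w) :
    ∀ c, c * z = z * c → c * w = w * c → c ∈ K := by
  obtain ⟨k, hk, kz, kw⟩ := hw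
  intro c c1 c2
  have h1 := comm_conj kw c2
  have h2 : (k⁻¹ * c * k) * z = z * (k⁻¹ * c * k) :=
    comm_z_mul (comm_z_mul (comm_z_inv kz) c1) kz
  have h3 := hN _ h2 h1
  have e : c = k * (k⁻¹ * c * k) * k⁻¹ := by group
  rw [e]
  exact mul_mem (mul_mem hk h3) (inv_mem hk)

theorem orb_step {Q L : Subgroup G} {t : G} (H : PreT Q z y t L)
    (hN : ∀ c, c * z = z * c → c * y = y * c → c ∈ K) {w w' x : G} (hw : Orb K z y w)
    (hw' : Orb K z y w') (wQ : w ∈ Q) (w'Q : w' ∈ Q) (xQ : x ∈ Q) (ww : w * w = 1) (ww' : w' * w' = 1)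
    (xx : x * x = 1) (h1 : w * w' = z * (w' * w)) (h2 : w * x = z * (x * w)) : Orb K z y x := by
  obtain ⟨c, cz, cw, cw'⟩ := H.pairs w w' w x wQ w'Q wQ xQ ww ww' ww xx h1 h2
  have hc : c ∈ K := orb_cent hN hw c cz (by rw [mul_inv_eq_iff_eq_mul] at cw; exact cw)
  obtain ⟨k, hk, kz, kw⟩ := hw'
  refine ⟨c * k, mul_mem hc hk, comm_z_mul cz kz, ?_⟩
  calc c * k * y * (c * k)⁻¹ = c * (k * y * k⁻¹) * c⁻¹ := by group
    _ = x := by rw [kw, cw']

end

/-- **`C_G(z) ≤ K`** for every subgroup `K` containing `C_G(⟨z, y⟩)` and `C_G(⟨z, t⟩)`. -/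
theorem cent_le_aux {Q L K : Subgroup G} {z y t : G} (H : PreT Q z y t L) {c : Fin 5 → G}
    {κ : alternatingGroup (Fin 5) →* G} (C : Canon Q z y t L c κ)
    (hN : ∀ c, c * z = z * c → c * y = y * c → c ∈ K)
    (hN' : ∀ c, c * z = z * c → c * t = t * c → c ∈ K) :
    ∀ x, x * z = z * x → x ∈ K := by
  have P := H.toPre
  have zz := P.zz
  have zy := P.zy
  have zt := P.zt
  have yQ := P.yQ
  have tQ := P.tQ
  have y2 := P.y2
  have t2 := P.t2
  have yt := P.yt
  have ty := P.ty
  have sym : ∀ {a b : G}, a * b = z * (b * a) → b * a = z * (a * b) := by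
    intro a b h
    rw [h, ← mul_assoc, zz, one_mul]
  have Oy : Orb K z y y := ⟨1, one_mem _, by rw [one_mul, mul_one], by group⟩
  -- a noncommuting partner
  have hyt2 : (y * t) * (y * t) = z := by
    calc (y * t) * (y * t) = (y * t) * y * t := by group
      _ = z * (t * y) * y * t := by rw [yt]
      _ = z * (t * (y * y) * t) := by group
      _ = z := by rw [y2, mul_one, t2, mul_one]
  obtain ⟨q, hq, qy, qt, qq⟩ : ∃ q ∈ Q, q * y = y * q ∧ q * t = t * q ∧ q * q = z := by
    refine ⟨c 0 * c 1, mul_mem (C.c_mem 0) (C.c_mem 1), ?_, ?_, ?_⟩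
    · have a1 : Commute (c 0) y := C.c_y 0
      have a2 : Commute (c 1) y := C.c_y 1
      exact (a1.mul_left a2).eq
    · have a1 : Commute (c 0) t := C.c_t 0
      have a2 : Commute (c 1) t := C.c_t 1
      exact (a1.mul_left a2).eq
    · have h01 := C.c_anti 0 1 (by decide)
      calc c 0 * c 1 * (c 0 * c 1) = c 0 * c 1 * c 0 * c 1 := by group
        _ = z * (c 1 * c 0) * c 0 * c 1 := by rw [h01]
        _ = z * (c 1 * (c 0 * c 0) * c 1) := by group
        _ = z := by rw [C.c_sq 0, mul_one, C.c_sq 1, mul_one]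
  have cqyt : Commute q (y * t) := by
    have a1 : Commute q y := qy
    have a2 : Commute q t := qt
    exact a1.mul_right a2
  have w1Q : q * (y * t) ∈ Q := mul_mem hq (mul_mem yQ tQ)
  have w1w1 : q * (y * t) * (q * (y * t)) = 1 := by
    calc q * (y * t) * (q * (y * t)) = q * ((y * t) * q) * (y * t) := by group
      _ = q * (q * (y * t)) * (y * t) := by rw [cqyt.eq]
      _ = (q * q) * ((y * t) * (y * t)) := by group
      _ = 1 := by rw [qq, hyt2, zz]
  have qz : q * z = z * q := P.D.com q hq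
  have w1t : t * (q * (y * t)) = z * (q * (y * t) * t) := by
    calc t * (q * (y * t)) = (t * q) * y * t := by group
      _ = q * (t * y) * t := by rw [← qt]; group
      _ = (q * z) * (y * t) * t := by rw [ty]; group
      _ = _ := by rw [qz]; group
  have w1y : y * (q * (y * t)) = z * (q * (y * t) * y) := by
    calc y * (q * (y * t)) = (y * q) * (y * t) := by group
      _ = q * y * (y * t) := by rw [qy]
      _ = q * y * (z * (t * y)) := by rw [yt]
      _ = q * (y * z) * (t * y) := by group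
      _ = (q * z) * (y * t * y) := by rw [← zy]; group
      _ = _ := by rw [qz]; group
  have O1 : Orb K z y (q * (y * t)) := by
    obtain ⟨d, dz, dt, dy⟩ := H.pairs t y t (q * (y * t)) tQ yQ tQ w1Q t2 y2 t2 w1w1 ty w1t
    refine ⟨d, hN' d dz ?_, dz, dy⟩
    rw [mul_inv_eq_iff_eq_mul] at dt
    exact dt
  have Hy : ∀ x ∈ Q, x * x = 1 → y * x = z * (x * y) → Orb K z y x := by
    intro x xQ xx hx
    exact orb_step H hN Oy O1 yQ w1Q xQ y2 w1w1 xx w1y hx
  have Ot : Orb K z y t := Hy t tQ t2 yt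
  have Ht : ∀ x ∈ Q, x * x = 1 → t * x = z * (x * t) → Orb K z y x := by
    intro x xQ xx hx
    exact orb_step H hN Ot Oy tQ yQ xQ t2 y2 xx ty hx
  have Hall : ∀ x ∈ Q, x * x = 1 → x ≠ 1 → x ≠ z → Orb K z y x := by
    intro x xQ xx x1 xz
    by_cases h1 : x * y = y * x
    · by_cases h2 : x * t = t * x
      · -- `x` commutes with `y` and `t`
        have : ∃ k ∈ Pre.K0 Q y t, ¬ (x * k = k * x) := by
          by_contra hcon
          push Not at hcon
          rcases P.cent_Q x hcon h1 h2 with h | h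
          · exact x1 h
          · exact xz h
        obtain ⟨k, hk, hkx⟩ := this
        obtain ⟨kQ, ky, kt⟩ := Pre.mem_K0.1 hk
        have hkx' : x * k = z * (k * x) := (P.anti_iff x xQ k kQ).1 hkx
        have kz : k * z = z * k := P.D.com k kQ
        have xzc : x * z = z * x := P.D.com x xQ
        rcases P.D.sq k kQ with hk2 | hk2
        · -- `k² = 1`: use `k y`
          have v2 : k * y * (k * y) = 1 := by
            calc k * y * (k * y) = k * (y * k) * y := by group
              _ = (k * k) * (y * y) := by rw [← ky]; group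
              _ = 1 := by rw [hk2, y2, one_mul]
          have vQ : k * y ∈ Q := mul_mem kQ yQ
          have vt : t * (k * y) = z * (k * y * t) := by
            calc t * (k * y) = (t * k) * y := by group
              _ = k * (t * y) := by rw [← kt]; group
              _ = (k * z) * (y * t) := by rw [ty]; group
              _ = _ := by rw [kz]; group
          have Ov := Ht _ vQ v2 vt
          refine orb_step H hN Ov Ot vQ tQ xQ v2 t2 xx (sym vt) ?_
          apply sym
          calc x * (k * y) = (x * k) * y := by group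
            _ = z * (k * (x * y)) := by rw [hkx']; group
            _ = _ := by rw [h1]; group
        · -- `k² = z`: use `k y t`
          have ckyt : Commute k (y * t) := by
            have a1 : Commute k y := ky
            have a2 : Commute k t := kt
            exact a1.mul_right a2
          have v2 : k * (y * t) * (k * (y * t)) = 1 := by
            calc k * (y * t) * (k * (y * t)) = k * ((y * t) * k) * (y * t) := by group
              _ = k * (k * (y * t)) * (y * t) := by rw [ckyt.eq]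
              _ = (k * k) * ((y * t) * (y * t)) := by group
              _ = 1 := by rw [hk2, hyt2, zz]
          have vQ : k * (y * t) ∈ Q := mul_mem kQ (mul_mem yQ tQ)
          have vy : y * (k * (y * t)) = z * (k * (y * t) * y) := by
            calc y * (k * (y * t)) = (y * k) * (y * t) := by group
              _ = k * y * (y * t) := by rw [ky]
              _ = k * y * (z * (t * y)) := by rw [yt]
              _ = k * (y * z) * (t * y) := by group
              _ = (k * z) * (y * t * y) := by rw [← zy]; group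
              _ = _ := by rw [kz]; group
          have Ov := Hy _ vQ v2 vy
          refine orb_step H hN Ov Oy vQ yQ xQ v2 y2 xx (sym vy) ?_
          apply sym
          calc x * (k * (y * t)) = (x * k) * (y * t) := by group
            _ = z * (k * (x * y) * t) := by rw [hkx']; group
            _ = z * (k * y * (x * t)) := by rw [h1]; group
            _ = _ := by rw [h2]; group
      · exact Ht x xQ xx (sym ((P.anti_iff x xQ t tQ).1 h2))
    · exact Hy x xQ xx (sym ((P.anti_iff x xQ y yQ).1 h1))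
  intro x hx
  have x1 : x * y * x⁻¹ ≠ 1 := by
    intro h
    rw [mul_inv_eq_iff_eq_mul, one_mul] at h
    have : y = 1 := mul_eq_left.1 h
    rw [this] at yt
    apply P.z_ne
    rw [one_mul, mul_one] at yt
    exact mul_eq_right.1 yt.symm
  have x2 : x * y * x⁻¹ ≠ z := by
    intro h
    rw [mul_inv_eq_iff_eq_mul, ← hx] at h
    have : y = z := mul_left_cancel h
    rw [this, zt] at yt
    apply P.z_ne
    exact mul_eq_right.1 yt.symm
  obtain ⟨k, hk, kz, ky⟩ := Hall (x * y * x⁻¹) (P.D.norm x hx y yQ) (by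
    calc x * y * x⁻¹ * (x * y * x⁻¹) = x * (y * y) * x⁻¹ := by group
      _ = 1 := by rw [y2]; group) x1 x2
  have h1 : (k⁻¹ * x) * y = y * (k⁻¹ * x) := by
    have e : x * y = k * y * k⁻¹ * x := by rw [ky]; group
    calc k⁻¹ * x * y = k⁻¹ * (x * y) := by group
      _ = _ := by rw [e]; group
  have h2 := hN _ (comm_z_mul (comm_z_inv kz) hx) h1
  have e : x = k * (k⁻¹ * x) := by group
  rw [e]
  exact mul_mem hk h2

/-- **`C_G(z) ≤ K`** if `K` contains `Q`, `L`, `f`, `u`. -/
theorem cent_le {Q L K : Subgroup G} {z y t f u g : G} (Λ : Local Q z y t f u g L) {c : Fin 5 → G}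
    {κ : alternatingGroup (Fin 5) →* G} (C : Canon Q z y t L c κ)
    (hc : ∀ c, c * z = z * c → c * y = y * c → ∃ a ∈ Q, ∃ b ∈ Q, ∃ l ∈ L, c = a * (f * b * f⁻¹) * l)
    (hQ : Q ≤ K) (hL : L ≤ K) (hf : f ∈ K) (hu : u ∈ K) : Subgroup.centralizer ({z} : Set G) ≤ K := by
  intro x hx
  rw [Subgroup.mem_centralizer_singleton_iff] at hx
  refine cent_le_aux Λ.toPreT C ?_ ?_ x hx
  · intro d d1 d2
    obtain ⟨a, ha, b, hb, l, hl, e⟩ := hc d d1 d2
    rw [e]
    exact mul_mem (mul_mem (hQ ha) (mul_mem (mul_mem hf (hQ hb)) (inv_mem hf))) (hL hl)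
  · intro d d1 d2
    have gz : g * z * g⁻¹ = z := by rw [Λ.gz]; group
    obtain ⟨a, ha, b, hb, l, hl, e⟩ := hc (g⁻¹ * d * g) (comm_conj gz d1) (comm_conj Λ.gy d2)
    have e2 : d = (g * a * g⁻¹) * (u * (g * b * g⁻¹) * u⁻¹) * (g * l * g⁻¹) := by
      calc d = g * (g⁻¹ * d * g) * g⁻¹ := by group
        _ = g * (a * (f * b * f⁻¹) * l) * g⁻¹ := by rw [e]
        _ = _ := by rw [← Λ.gf]; group
    rw [e2]
    have n := fun q hq => Λ.D.norm g Λ.gz q hq
    exact mul_mem (mul_mem (hQ (n a ha)) (mul_mem (mul_mem hu (hQ (n b hb))) (inv_mem hu)))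
      (hL ((Λ.gL l).1 hl))

/-- `Q` is generated by `y`, `t`, the `c i` and `z`. -/
theorem Q_le {Q L K : Subgroup G} {z y t : G} (H : Pre Q z y t L) {c : Fin 5 → G}
    {κ : alternatingGroup (Fin 5) →* G} (C : Canon Q z y t L c κ) (hy : y ∈ K) (ht : t ∈ K)
    (hc : ∀ i, c i ∈ K) : Q ≤ K := by
  have hz : z ∈ K := by
    have e : z = c 0 * c 1 * (c 0 * c 1) := by
      have h01 := C.c_anti 0 1 (by decide)
      symm
      calc c 0 * c 1 * (c 0 * c 1) = c 0 * c 1 * c 0 * c 1 := by group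
        _ = z * (c 1 * c 0) * c 0 * c 1 := by rw [h01]
        _ = z * (c 1 * (c 0 * c 0) * c 1) := by group
        _ = z := by rw [C.c_sq 0, mul_one, C.c_sq 1, mul_one]
    rw [e]
    exact mul_mem (mul_mem (hc 0) (hc 1)) (mul_mem (hc 0) (hc 1))
  have hzp : ∀ a, zp z a ∈ K := by
    intro a
    rcases (show ∀ a : ZMod 2, a = 0 ∨ a = 1 by decide) a with rfl | rfl
    · have : zp z (0 : ZMod 2) = 1 := zp_zero z
      rw [this]; exact one_mem _
    · have : zp z (1 : ZMod 2) = z := zp_one z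
      rw [this]; exact hz
  intro x hx
  obtain ⟨k, hk, hx'⟩ := H.decomp x hx
  have hkK : k ∈ K := by
    obtain ⟨kQ, ky, kt⟩ := Pre.mem_K0.1 hk
    rcases C.cover k kQ ky kt with ⟨a, rfl⟩ | ⟨a, i, rfl⟩ | ⟨a, i, j, -, rfl⟩
    · exact hzp a
    · exact mul_mem (hzp a) (hc i)
    · exact mul_mem (hzp a) (mul_mem (hc i) (hc j))
  rcases hx' with rfl | rfl | rfl | rfl
  · exact hkK
  · exact mul_mem hkK hy
  · exact mul_mem hkK ht
  · exact mul_mem hkK (mul_mem hy ht)

/-- The `c i` are the conjugates of `c 4` under `L`. -/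
theorem c_mem_of {Q L K : Subgroup G} {z y t : G} {c : Fin 5 → G}
    {κ : alternatingGroup (Fin 5) →* G} (C : Canon Q z y t L c κ) (hL : L ≤ K) (h4 : c 4 ∈ K) :
    ∀ i, c i ∈ K := by
  intro i
  obtain ⟨σ, hσ⟩ : ∃ σ : alternatingGroup (Fin 5), (σ : Equiv.Perm (Fin 5)) 4 = i := by
    revert i; decide
  have h := C.κ_conj σ 4
  rw [hσ] at h
  have hσL : κ σ ∈ K := hL (by rw [← C.κ_range]; exact ⟨σ, rfl⟩)
  rw [← h]
  exact mul_mem (mul_mem hσL h4) (inv_mem hσL)

open Cfsg.Agent.SuzType.Words in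
/-- `A5` is generated by the three 3-cycles `sp`, `sq`, `sw`. -/
theorem alt_words : ∀ σ : alternatingGroup (Fin 5), ∃ a b c d e : Fin 3,
    σ = sp ^ (a : ℕ) * sq ^ (b : ℕ) * sw ^ (c : ℕ) * sp ^ (d : ℕ) * sq ^ (e : ℕ) := by
  decide +kernel

open Cfsg.Agent.SuzType.Words in
theorem L_le {Q L K : Subgroup G} {z y t : G} {c : Fin 5 → G}
    {κ : alternatingGroup (Fin 5) →* G} (C : Canon Q z y t L c κ) (hp : κ sp ∈ K) (hq : κ sq ∈ K)
    (hw : κ sw ∈ K) : L ≤ K := by
  rw [← C.κ_range]
  rintro _ ⟨σ, rfl⟩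
  obtain ⟨a, b, c, d, e, h⟩ := alt_words σ
  rw [h]
  simp only [map_mul, map_pow]
  exact mul_mem (mul_mem (mul_mem (mul_mem (pow_mem hp _) (pow_mem hq _)) (pow_mem hw _)) (pow_mem hp _))
    (pow_mem hq _)

open Cfsg.Agent.SuzType.Words in
/-- **Main statement.**  `C_G(z) ≤ K` for every subgroup `K` containing the eight elements. -/
theorem cent_le_eight {Q L K : Subgroup G} {z y t f u g : G} (Λ : Local Q z y t f u g L) {c : Fin 5 → G}
    {κ : alternatingGroup (Fin 5) →* G} (C : Canon Q z y t L c κ)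
    (hc : ∀ c, c * z = z * c → c * y = y * c → ∃ a ∈ Q, ∃ b ∈ Q, ∃ l ∈ L, c = a * (f * b * f⁻¹) * l)
    (hy : y ∈ K) (ht : t ∈ K) (h4 : c 4 ∈ K) (hf : f⁻¹ ∈ K) (hu : u⁻¹ ∈ K)
    (hp : κ sp ∈ K) (hq : κ sq ∈ K) (hw : κ sw ∈ K) : Subgroup.centralizer ({z} : Set G) ≤ K := by
  have hL := L_le C hp hq hw
  refine cent_le Λ C hc (Q_le Λ.toPreT.toPre C hy ht (c_mem_of C hL h4)) hL ?_ ?_
  · exact (inv_mem_iff).1 hf
  · exact (inv_mem_iff).1 hu

end Cfsg.Agent.SuzType.CentIn

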