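import Cfsg.Agent.SuzType.PresRel
import Cfsg.Agent.SuzType.AltFive
import Cfsg.Agent.S1694
import Cfsg.Agent.Lib.PermNetOrbit

/-!
# A copy of the presented `Suz` inside a group with the local relations (node N6)
-/

set_option autoImplicit false

namespace Cfsg.Agent.SuzType.SuzPres

open Cfsg.Agent.SporadicRecognition.CosetCert
open Cfsg.Agent.LargeExtra.SuzPlane Cfsg.Agent.SuzType.PresRel Cfsg.Agent.SuzType.AltFive

variable {G : Type*} [Group G]

/-- The input of node N6. -/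
structure Dat (x y r t u : G) (c : Fin 5 → G) (κ : alternatingGroup (Fin 5) →* G) : Prop
    extends RelsL x y r t u where
  z_ne : (x * y) ^ 2 ≠ 1
  c_zero : c 0 = r
  c_sq : ∀ i, c i * c i = 1
  c_anti : ∀ i j, i ≠ j → c i * c j = (x * y) ^ 2 * (c j * c i)
  κ_conj : ∀ (σ : alternatingGroup (Fin 5)) i, κ σ * c i * (κ σ)⁻¹ = c ((σ : Equiv.Perm (Fin 5)) i)
  κx : ∀ σ, κ σ * x = x * κ σ
  κy : ∀ σ, κ σ * y = y * κ σ
  κt : ∀ σ, κ σ * t = t * κ σ
  κu : ∀ σ, κ σ * u = u * κ σ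
  syl : ∀ s : G, s ^ 3 = 1 → s * c 0 = c 0 * s → s * c 1 = c 1 * s → s * κ τ = κ τ * s →
    s ∈ Subgroup.zpowers (κ τ)

theorem sq_inv {s : G} (h : s * s = 1) : s⁻¹ = s := inv_eq_of_mul_eq_one_right h

/-- if `(d c b)^5 s (b c d)^5 s = 1` for involutions, then `(b c d)^5` commutes with `s` -/
theorem comm_of_word {b c d s : G} (hb : b * b = 1) (hc : c * c = 1) (hd : d * d = 1) (hs : s * s = 1)
    (h : (d * c * b) ^ 5 * s * (b * c * d) ^ 5 * s = 1) :
    (b * c * d) ^ 5 * s = s * (b * c * d) ^ 5 := by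
  have e1 : d * c * b = (b * c * d)⁻¹ := by
    rw [mul_inv_rev, mul_inv_rev, sq_inv hb, sq_inv hc, sq_inv hd, mul_assoc]
  rw [e1, inv_pow] at h
  have h2 : ((b * c * d) ^ 5)⁻¹ * s * (b * c * d) ^ 5 = s := by
    rw [mul_eq_one_iff_eq_inv, sq_inv hs] at h
    exact h
  calc (b * c * d) ^ 5 * s = (b * c * d) ^ 5 * (((b * c * d) ^ 5)⁻¹ * s * (b * c * d) ^ 5) := by rw [h2]
    _ = s * (b * c * d) ^ 5 := by group

/-- The relators of `PresZe`: `ζ = (b c d)^5` satisfies `ζ^3 = 1`, and commutes with `c` and `d`. -/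
theorem zeta_rels {a b c d : G} (ha : a * a = 1) (hb : b * b = 1) (hc : c * c = 1) (hd : d * d = 1)
    (hac : a * c = c * a) (had : a * d = d * a) (hcd : (c * d) ^ 2 = a) (hbc : (b * c) ^ 3 = 1)
    (hbd : (b * d) ^ 3 = 1) (hab : (a * b) ^ 5 = 1) :
    ((b * c * d) ^ 5) ^ 3 = 1 ∧ (b * c * d) ^ 5 * c = c * (b * c * d) ^ 5 ∧
      (b * c * d) ^ 5 * d = d * (b * c * d) ^ 5 := by
  have hinv : ∀ i, i < 4 → gZ a b c d i * gZ a b c d (PresZeData.C.inv i) = 1 := by
    intro i hi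
    interval_cases i
    · exact ha
    · exact hb
    · exact hc
    · exact hd
  have e1 : a * (c * (a * c)) = 1 := by
    rw [hac, ← mul_assoc c c, hc, one_mul, ha]
  have e2 : a * (d * (a * d)) = 1 := by
    rw [had, ← mul_assoc d d, hd, one_mul, ha]
  have e3 : c * (d * (c * (d * a))) = 1 := by
    have : (c * d) ^ 2 * a = 1 := by rw [hcd, ha]
    simpa only [pow_two, mul_assoc] using this
  have hrel : ∀ w ∈ PresZeData.rels, ev (gZ a b c d) w = 1 := by
    intro w hw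
    simp only [PresZeData.rels, List.mem_cons, List.not_mem_nil, or_false] at hw
    rcases hw with rfl | rfl | rfl | rfl | rfl | rfl <;> simp only [ev_cons, ev_nil, gZ, mul_one]
    · exact e1
    · exact e2
    · exact e3
    · exact eq_one_trans (by simp only [pow_succ, pow_zero, one_mul, mul_assoc]) hbc
    · exact eq_one_trans (by simp only [pow_succ, pow_zero, one_mul, mul_assoc]) hbd
    · exact eq_one_trans (by simp only [pow_succ, pow_zero, one_mul, mul_assoc]) hab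
  have key := PresZe.eq_one (gZ a b c d) hinv hrel
  refine ⟨?_, ?_, ?_⟩
  · have := key [1,2,3,1,2,3,1,2,3,1,2,3,1,2,3,1,2,3,1,2,3,1,2,3,1,2,3,1,2,3,1,2,3,1,2,3,1,2,3,1,2,3,1,2,3]
      (by simp [PresZeData.targets])
    simp only [ev_cons, ev_nil, gZ, mul_one] at this
    rw [← pow_mul]
    simpa only [pow_succ, pow_zero, one_mul, mul_assoc] using this
  · refine comm_of_word hb hc hd hc ?_
    have := key [3,2,1,3,2,1,3,2,1,3,2,1,3,2,1,2,1,2,3,1,2,3,1,2,3,1,2,3,1,2,3,2]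
      (by simp [PresZeData.targets])
    simp only [ev_cons, ev_nil, gZ, mul_one] at this
    simpa only [pow_succ, pow_zero, one_mul, mul_assoc] using this
  · refine comm_of_word hb hc hd hd ?_
    have := key [3,2,1,3,2,1,3,2,1,3,2,1,3,2,1,3,1,2,3,1,2,3,1,2,3,1,2,3,1,2]
      (by simp [PresZeData.targets])
    simp only [ev_cons, ev_nil, gZ, mul_one] at this
    refine eq_one_trans ?_ this
    simp only [pow_succ, pow_zero, one_mul, mul_assoc, hd, mul_one]

namespace Dat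

variable {x y r t u : G} {c : Fin 5 → G} {κ : alternatingGroup (Fin 5) →* G} (h : Dat x y r t u c κ)
include h

theorem κz (σ : alternatingGroup (Fin 5)) : κ σ * (x * y) ^ 2 = (x * y) ^ 2 * κ σ := by
  have h1 : Commute (κ σ) x := h.κx σ
  have h2 : Commute (κ σ) y := h.κy σ
  exact ((h1.mul_right h2).pow_right 2).eq

theorem κb (σ : alternatingGroup (Fin 5)) : κ σ * be y t u = be y t u * κ σ := by
  have h2 : Commute (κ σ) y := h.κy σ
  have h3 : Commute (κ σ) t := h.κt σ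
  have h4 : Commute (κ σ) u := h.κu σ
  exact ((((h3.mul_right h4).mul_right h2).mul_right h3).mul_right h4.inv_right).eq

theorem conj_c (σ : alternatingGroup (Fin 5)) (i : Fin 5) :
    κ σ * c i = c ((σ : Equiv.Perm (Fin 5)) i) * κ σ := by
  rw [← h.κ_conj σ i]; group

theorem conj_b (σ : alternatingGroup (Fin 5)) : κ σ * be y t u * (κ σ)⁻¹ = be y t u := by
  rw [h.κb σ]; group

theorem conj_z (σ : alternatingGroup (Fin 5)) : κ σ * (x * y) ^ 2 * (κ σ)⁻¹ = (x * y) ^ 2 := by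
  rw [h.κz σ]; group

theorem zc (i : Fin 5) : (x * y) ^ 2 * c i = c i * (x * y) ^ 2 := by
  obtain ⟨σ, hσ⟩ := exists_alt_zero i
  have e1 : c i = κ σ * r * (κ σ)⁻¹ := by rw [← h.c_zero, h.κ_conj, hσ]
  calc (x * y) ^ 2 * c i = (κ σ * (x * y) ^ 2 * (κ σ)⁻¹) * (κ σ * r * (κ σ)⁻¹) := by rw [h.conj_z, e1]
    _ = κ σ * ((x * y) ^ 2 * r) * (κ σ)⁻¹ := by group
    _ = κ σ * (r * (x * y) ^ 2) * (κ σ)⁻¹ := by rw [h.zr]
    _ = (κ σ * r * (κ σ)⁻¹) * (κ σ * (x * y) ^ 2 * (κ σ)⁻¹) := by group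
    _ = c i * (x * y) ^ 2 := by rw [h.conj_z, e1]

theorem bc (i : Fin 5) : (be y t u * c i) ^ 3 = 1 := by
  obtain ⟨σ, hσ⟩ := exists_alt_zero i
  have e1 : c i = κ σ * r * (κ σ)⁻¹ := by rw [← h.c_zero, h.κ_conj, hσ]
  have e2 : be y t u * c i = κ σ * (be y t u * r) * (κ σ)⁻¹ := by
    calc be y t u * c i = (κ σ * be y t u * (κ σ)⁻¹) * (κ σ * r * (κ σ)⁻¹) := by rw [h.conj_b, e1]
      _ = _ := by group
  rw [e2, conj_pow, h.be_r]; group

theorem cc (i j : Fin 5) (hij : i ≠ j) : (c i * c j) ^ 2 = (x * y) ^ 2 := by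
  rw [pow_two]
  calc c i * c j * (c i * c j) = c i * c j * c i * c j := by group
    _ = (x * y) ^ 2 * (c j * c i) * c i * c j := by rw [h.c_anti i j hij]
    _ = (x * y) ^ 2 * (c j * (c i * c i) * c j) := by group
    _ = _ := by rw [h.c_sq, mul_one, h.c_sq, mul_one]

theorem zb : ((x * y) ^ 2 * be y t u) ^ 5 = 1 := by
  have e : (x * y) ^ 2 * be y t u = (x * y) ^ 2 * (be y t u * (x * y) ^ 2) * ((x * y) ^ 2)⁻¹ := by group
  rw [e, conj_pow, h.be_z]; group

/-- the element `ζ` -/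
def zet (_ : Dat x y r t u c κ) : G := (be y t u * c 0 * c 1) ^ 5

theorem z_rels : h.zet ^ 3 = 1 ∧ h.zet * c 0 = c 0 * h.zet ∧ h.zet * c 1 = c 1 * h.zet :=
  zeta_rels h.z2 h.be_sq (h.c_sq 0) (h.c_sq 1) (h.zc 0) (h.zc 1) (h.cc 0 1 (by decide)) (h.bc 0) (h.bc 1) h.zb

theorem z_tau : h.zet * κ τ = κ τ * h.zet := by
  have h1 : Commute (κ τ) (be y t u) := h.κb τ
  have h2 : Commute (κ τ) (c 0) := by
    have := h.conj_c τ 0
    rw [τ_zero] at this
    exact this
  have h3 : Commute (κ τ) (c 1) := by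
    have := h.conj_c τ 1
    rw [τ_one] at this
    exact this
  exact (((h1.mul_right h2).mul_right h3).pow_right 5).eq.symm

/-- `ζ = 1` implies `(b c_i c_j)^5 = 1` for all `i ≠ j` -/
theorem all_five (h1 : h.zet = 1) (i j : Fin 5) (hij : i ≠ j) : (be y t u * c i * c j) ^ 5 = 1 := by
  obtain ⟨σ, h0, h2⟩ := exists_alt i j hij
  have e : be y t u * c i * c j = κ σ * (be y t u * c 0 * c 1) * (κ σ)⁻¹ := by
    calc be y t u * c i * c j = (κ σ * be y t u * (κ σ)⁻¹) * (κ σ * c 0 * (κ σ)⁻¹) * (κ σ * c 1 * (κ σ)⁻¹) := by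
          rw [h.conj_b, h.κ_conj, h.κ_conj, h0, h2]
      _ = _ := by group
  have h3 : (be y t u * c 0 * c 1) ^ 5 = 1 := h1
  rw [e, conj_pow, h3]; group

theorem zet_ne : h.zet ≠ 1 := by
  intro h1
  have h5 := h.all_five h1
  have hz2 := h.z2
  have hb := h.be_sq
  have hzb := h.zb
  have hbc := h.bc
  have hcc := h.cc
  have hzc := h.zc
  have hcs := h.c_sq
  set b := be y t u with hbd
  set z := (x * y) ^ 2 with hzd
  have hinv : ∀ i, i < 6 → gC z b (c 0) (c 1) (c 2) (c 3) i *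
      gC z b (c 0) (c 1) (c 2) (c 3) (PresColData.C.inv i) = 1 := by
    intro i hi
    interval_cases i
    · exact hz2
    · exact hb
    · exact hcs 0
    · exact hcs 1
    · exact hcs 2
    · exact hcs 3
  have e1 : ∀ i, z * (c i * (z * c i)) = 1 := by
    intro i
    rw [hzc i, ← mul_assoc (c i) (c i), hcs, one_mul, hz2]
  have e3 : ∀ i j, i ≠ j → c i * (c j * (c i * (c j * z))) = 1 := by
    intro i j hij
    have : (c i * c j) ^ 2 * z = 1 := by rw [hcc i j hij, hz2]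
    simpa only [pow_two, mul_assoc] using this
  have hrel : ∀ w ∈ PresColData.rels, ev (gC z b (c 0) (c 1) (c 2) (c 3)) w = 1 := by
    intro w hw
    simp only [PresColData.rels, List.mem_cons, List.not_mem_nil, or_false] at hw
    rcases hw with rfl | rfl | rfl | rfl | rfl | rfl | rfl | rfl | rfl | rfl | rfl | rfl | rfl | rfl | rfl |
      rfl | rfl | rfl | rfl | rfl | rfl | rfl | rfl | rfl | rfl | rfl | rfl <;>
      simp only [ev_cons, ev_nil, gC, mul_one]
    · exact e1 0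
    · exact e1 1
    · exact e1 2
    · exact e1 3
    · exact e3 0 1 (by decide)
    · exact e3 0 2 (by decide)
    · exact e3 0 3 (by decide)
    · exact e3 1 2 (by decide)
    · exact e3 1 3 (by decide)
    · exact e3 2 3 (by decide)
    · exact eq_one_trans (by simp only [pow_succ, pow_zero, one_mul, mul_assoc]) (hbc 0)
    · exact eq_one_trans (by simp only [pow_succ, pow_zero, one_mul, mul_assoc]) (hbc 1)
    · exact eq_one_trans (by simp only [pow_succ, pow_zero, one_mul, mul_assoc]) (hbc 2)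
    · exact eq_one_trans (by simp only [pow_succ, pow_zero, one_mul, mul_assoc]) (hbc 3)
    · exact eq_one_trans (by simp only [pow_succ, pow_zero, one_mul, mul_assoc]) hzb
    · exact eq_one_trans (by simp only [pow_succ, pow_zero, one_mul, mul_assoc]) (h5 0 1 (by decide))
    · exact eq_one_trans (by simp only [pow_succ, pow_zero, one_mul, mul_assoc]) (h5 0 2 (by decide))
    · exact eq_one_trans (by simp only [pow_succ, pow_zero, one_mul, mul_assoc]) (h5 0 3 (by decide))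
    · exact eq_one_trans (by simp only [pow_succ, pow_zero, one_mul, mul_assoc]) (h5 1 0 (by decide))
    · exact eq_one_trans (by simp only [pow_succ, pow_zero, one_mul, mul_assoc]) (h5 1 2 (by decide))
    · exact eq_one_trans (by simp only [pow_succ, pow_zero, one_mul, mul_assoc]) (h5 1 3 (by decide))
    · exact eq_one_trans (by simp only [pow_succ, pow_zero, one_mul, mul_assoc]) (h5 2 0 (by decide))
    · exact eq_one_trans (by simp only [pow_succ, pow_zero, one_mul, mul_assoc]) (h5 2 1 (by decide))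
    · exact eq_one_trans (by simp only [pow_succ, pow_zero, one_mul, mul_assoc]) (h5 2 3 (by decide))
    · exact eq_one_trans (by simp only [pow_succ, pow_zero, one_mul, mul_assoc]) (h5 3 0 (by decide))
    · exact eq_one_trans (by simp only [pow_succ, pow_zero, one_mul, mul_assoc]) (h5 3 1 (by decide))
    · exact eq_one_trans (by simp only [pow_succ, pow_zero, one_mul, mul_assoc]) (h5 3 2 (by decide))
  -- the centralizer of `κ τ` contains `b, c 0, c 1`, hence `c 2`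
  have hmem : c 2 ∈ Subgroup.centralizer ({κ τ} : Set G) := by
    have hb' : b ∈ Subgroup.centralizer ({κ τ} : Set G) := by
      rw [Subgroup.mem_centralizer_singleton_iff]
      exact (h.κb τ).symm
    have h0 : c 0 ∈ Subgroup.centralizer ({κ τ} : Set G) := by
      rw [Subgroup.mem_centralizer_singleton_iff]
      have := h.conj_c τ 0
      rw [τ_zero] at this
      exact this.symm
    have h1 : c 1 ∈ Subgroup.centralizer ({κ τ} : Set G) := by
      rw [Subgroup.mem_centralizer_singleton_iff]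
      have := h.conj_c τ 1
      rw [τ_one] at this
      exact this.symm
    have := PresCol.mem (Subgroup.centralizer ({κ τ} : Set G)) (gC z b (c 0) (c 1) (c 2) (c 3)) hinv hrel
      (by
        intro s hs
        simp only [PresColData.subw, List.mem_cons, List.not_mem_nil, or_false] at hs
        rcases hs with rfl | rfl | rfl <;> simp only [ev_cons, ev_nil, gC, mul_one]
        · exact hb'
        · exact h0
        · exact h1) [4] (by simp [PresColData.targets])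
    simpa only [ev_cons, ev_nil, gC, mul_one] using this
  rw [Subgroup.mem_centralizer_singleton_iff] at hmem
  have h2 := h.conj_c τ 2
  rw [τ_two] at h2
  -- `c 2 = c 3`
  have h3 : c 3 = c 2 := by
    have : c 3 * κ τ = c 2 * κ τ := by rw [← h2, ← hmem]
    exact mul_right_cancel this
  have h4 := h.c_anti 2 3 (by decide)
  rw [h3, h.c_sq, mul_one] at h4
  exact h.z_ne h4.symm

theorem zet_mem : h.zet ∈ Subgroup.zpowers (κ τ) :=
  h.syl _ h.z_rels.1 h.z_rels.2.1 h.z_rels.2.2 h.z_tau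

theorem zet_eq : h.zet = κ τ ∨ h.zet = κ (τ * τ) := by
  obtain ⟨k, hk⟩ := Subgroup.mem_zpowers_iff.mp h.zet_mem
  have h3 : (κ τ) ^ 3 = 1 := by rw [← map_pow, τ_cube, map_one]
  have hk2 : h.zet = (κ τ) ^ (k % 3) := by
    rw [← hk]
    conv_lhs => rw [← Int.emod_add_mul_ediv k 3]
    rw [zpow_add, zpow_mul]
    rw [show (κ τ) ^ (3 : ℤ) = 1 from by exact_mod_cast h3, one_zpow, mul_one]
  have h0 : 0 ≤ k % 3 := Int.emod_nonneg k (by norm_num)
  have h1 : k % 3 < 3 := Int.emod_lt_of_pos k (by norm_num)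
  have h5 : k % 3 = 0 ∨ k % 3 = 1 ∨ k % 3 = 2 := by omega
  rcases h5 with h5 | h5 | h5
  · rw [h5, zpow_zero] at hk2
    exact absurd hk2 h.zet_ne
  · left
    rw [h5, zpow_one] at hk2
    exact hk2
  · right
    rw [h5] at hk2
    rw [hk2, map_mul, ← pow_two]
    exact_mod_cast rfl

theorem tau_mem_of {K : Subgroup G} (hz : h.zet ∈ K) : κ τ ∈ K := by
  rcases h.zet_eq with h1 | h1
  · rw [← h1]; exact hz
  · have : κ τ = h.zet * h.zet := by
      rw [h1, ← map_mul]
      congr 1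
      have : τ * τ * (τ * τ) = τ ^ 3 * τ := by simp only [pow_succ, pow_zero, one_mul, mul_assoc]
      rw [this, τ_cube, one_mul]
    rw [this]
    exact K.mul_mem hz hz

theorem zeta_e : (h.zet * κ ε) ^ 3 = 1 := by
  rcases h.zet_eq with h1 | h1
  · rw [h1, ← map_mul, ← map_pow, τε, map_one]
  · rw [h1, ← map_mul, ← map_pow, ττε, map_one]

end Dat

/-! ### The homomorphism -/

open Cfsg.Spor (Suz)
open Cfsg.Spor.Suz (Gen)

/-- images of the generators of `Suz` -/
def gp (x y r t u : G) (κ : alternatingGroup (Fin 5) →* G) : Gen → G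
  | .a => (x * y) ^ 2
  | .b => be y t u
  | .c => r
  | .d => κ δ
  | .e => κ ε
  | .f => x
  | .g => y

theorem comm_sq {p q : G} (hp : p * p = 1) (hq : q * q = 1) (h : p * q = q * p) : (p * q) ^ 2 = 1 := by
  rw [pow_two]
  calc p * q * (p * q) = (p * q) * p * q := by group
    _ = (q * p) * p * q := by rw [h]
    _ = q * (p * p) * q := by group
    _ = 1 := by rw [hp, mul_one, hq]

theorem flip {p q : G} (hp : p * p = 1) (hq : q * q = 1) {m : ℕ} (h : (p * q) ^ m = 1) : (q * p) ^ m = 1 := by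
  have h1 : q * p = (p * q)⁻¹ := by rw [mul_inv_rev, sq_inv hp, sq_inv hq]
  rw [h1, inv_pow, h, inv_one]

namespace Dat

variable {x y r t u : G} {c : Fin 5 → G} {κ : alternatingGroup (Fin 5) →* G} (h : Dat x y r t u c κ)
include h

theorem gp_sq (i : Gen) : gp x y r t u κ i * gp x y r t u κ i = 1 := by
  cases i
  · exact h.z2
  · exact h.be_sq
  · exact h.r2
  · show κ δ * κ δ = 1
    rw [← map_mul, δ_sq, map_one]
  · show κ ε * κ ε = 1
    rw [← map_mul, ε_sq, map_one]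
  · exact h.x2
  · exact h.y2

theorem eps_r : κ ε * r = r * κ ε := by
  have := h.conj_c ε 0
  rw [ε_zero, h.c_zero] at this
  exact this

theorem del_r : κ δ * r = c 1 * κ δ := by
  have := h.conj_c δ 0
  rw [δ_zero, h.c_zero] at this
  exact this

/-- `(c d)^2 = c 0 c 1` -/
theorem cd_sq : (r * κ δ) ^ 2 = r * c 1 := by
  rw [pow_two]
  calc r * κ δ * (r * κ δ) = r * (κ δ * r) * κ δ := by group
    _ = r * (c 1 * κ δ) * κ δ := by rw [h.del_r]
    _ = r * c 1 * (κ δ * κ δ) := by group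
    _ = r * c 1 := by rw [← map_mul, δ_sq, map_one, mul_one]

theorem cd_four : (r * κ δ) ^ 4 = (x * y) ^ 2 := by
  rw [show (r * κ δ) ^ 4 = ((r * κ δ) ^ 2) ^ 2 by rw [← pow_mul], h.cd_sq]
  have := h.cc 0 1 (by decide)
  rw [h.c_zero] at this
  exact this

theorem bcdcd : be y t u * r * κ δ * r * κ δ = be y t u * c 0 * c 1 := by
  calc be y t u * r * κ δ * r * κ δ = be y t u * (r * κ δ * (r * κ δ)) := by group
    _ = be y t u * (r * κ δ) ^ 2 := by rw [pow_two]
    _ = _ := by rw [h.cd_sq, ← h.c_zero, mul_assoc]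

theorem p_ab : (gp x y r t u κ .a * gp x y r t u κ .b) ^ 5 = 1 := h.zb
theorem p_ac : (gp x y r t u κ .a * gp x y r t u κ .c) ^ 2 = 1 := comm_sq h.z2 h.r2 h.zr
theorem p_ad : (gp x y r t u κ .a * gp x y r t u κ .d) ^ 2 = 1 :=
  comm_sq h.z2 (h.gp_sq .d) (h.κz δ).symm
theorem p_ae : (gp x y r t u κ .a * gp x y r t u κ .e) ^ 2 = 1 :=
  comm_sq h.z2 (h.gp_sq .e) (h.κz ε).symm
theorem p_af : (gp x y r t u κ .a * gp x y r t u κ .f) ^ 2 = 1 := comm_sq h.z2 h.x2 h.zx
theorem p_ag : (gp x y r t u κ .a * gp x y r t u κ .g) ^ 2 = 1 := comm_sq h.z2 h.y2 h.zy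
theorem p_bc : (gp x y r t u κ .b * gp x y r t u κ .c) ^ 3 = 1 := h.be_r
theorem p_bd : (gp x y r t u κ .b * gp x y r t u κ .d) ^ 2 = 1 :=
  comm_sq h.be_sq (h.gp_sq .d) (h.κb δ).symm
theorem p_be : (gp x y r t u κ .b * gp x y r t u κ .e) ^ 2 = 1 :=
  comm_sq h.be_sq (h.gp_sq .e) (h.κb ε).symm
theorem p_bf : (gp x y r t u κ .b * gp x y r t u κ .f) ^ 3 = 1 := h.be_x
theorem p_bg : (gp x y r t u κ .b * gp x y r t u κ .g) ^ 3 = 1 := h.be_y
theorem p_cd : (gp x y r t u κ .c * gp x y r t u κ .d) ^ 8 = 1 := by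
  show (r * κ δ) ^ 8 = 1
  rw [show (r * κ δ) ^ 8 = (r * κ δ) ^ 4 * (r * κ δ) ^ 4 by rw [← pow_add], h.cd_four, h.z2]
theorem p_ce : (gp x y r t u κ .c * gp x y r t u κ .e) ^ 2 = 1 :=
  comm_sq h.r2 (h.gp_sq .e) h.eps_r.symm
theorem p_cf : (gp x y r t u κ .c * gp x y r t u κ .f) ^ 2 = 1 := comm_sq h.r2 h.x2 h.rx
theorem p_cg : (gp x y r t u κ .c * gp x y r t u κ .g) ^ 2 = 1 := comm_sq h.r2 h.y2 h.ry
theorem p_de : (gp x y r t u κ .d * gp x y r t u κ .e) ^ 3 = 1 := by
  show (κ δ * κ ε) ^ 3 = 1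
  rw [← map_mul, ← map_pow, δε, map_one]
theorem p_df : (gp x y r t u κ .d * gp x y r t u κ .f) ^ 2 = 1 := comm_sq (h.gp_sq .d) h.x2 (h.κx δ)
theorem p_dg : (gp x y r t u κ .d * gp x y r t u κ .g) ^ 2 = 1 := comm_sq (h.gp_sq .d) h.y2 (h.κy δ)
theorem p_ef : (gp x y r t u κ .e * gp x y r t u κ .f) ^ 2 = 1 := comm_sq (h.gp_sq .e) h.x2 (h.κx ε)
theorem p_eg : (gp x y r t u κ .e * gp x y r t u κ .g) ^ 2 = 1 := comm_sq (h.gp_sq .e) h.y2 (h.κy ε)
theorem p_fg : (gp x y r t u κ .f * gp x y r t u κ .g) ^ 4 = 1 := h.xy4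

theorem fl {i j : Gen} {m : ℕ} (h1 : (gp x y r t u κ i * gp x y r t u κ j) ^ m = 1) :
    (gp x y r t u κ j * gp x y r t u κ i) ^ m = 1 := flip (h.gp_sq i) (h.gp_sq j) h1

theorem cox (i j : Gen) :
    (gp x y r t u κ i * gp x y r t u κ j) ^ Cfsg.Spor.coxLabel Cfsg.Spor.Suz.edges i j = 1 := by
  cases i <;> cases j
  · exact (pow_one _).trans (h.gp_sq _)
  · exact h.p_ab
  · exact h.p_ac
  · exact h.p_ad
  · exact h.p_ae
  · exact h.p_af
  · exact h.p_ag
  · exact h.fl h.p_ab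
  · exact (pow_one _).trans (h.gp_sq _)
  · exact h.p_bc
  · exact h.p_bd
  · exact h.p_be
  · exact h.p_bf
  · exact h.p_bg
  · exact h.fl h.p_ac
  · exact h.fl h.p_bc
  · exact (pow_one _).trans (h.gp_sq _)
  · exact h.p_cd
  · exact h.p_ce
  · exact h.p_cf
  · exact h.p_cg
  · exact h.fl h.p_ad
  · exact h.fl h.p_bd
  · exact h.fl h.p_cd
  · exact (pow_one _).trans (h.gp_sq _)
  · exact h.p_de
  · exact h.p_df
  · exact h.p_dg
  · exact h.fl h.p_ae
  · exact h.fl h.p_be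
  · exact h.fl h.p_ce
  · exact h.fl h.p_de
  · exact (pow_one _).trans (h.gp_sq _)
  · exact h.p_ef
  · exact h.p_eg
  · exact h.fl h.p_af
  · exact h.fl h.p_bf
  · exact h.fl h.p_cf
  · exact h.fl h.p_df
  · exact h.fl h.p_ef
  · exact (pow_one _).trans (h.gp_sq _)
  · exact h.p_fg
  · exact h.fl h.p_ag
  · exact h.fl h.p_bg
  · exact h.fl h.p_cg
  · exact h.fl h.p_dg
  · exact h.fl h.p_eg
  · exact h.fl h.p_fg
  · exact (pow_one _).trans (h.gp_sq _)

theorem rels_hold : ∀ w ∈ (Cfsg.Spor.coxRelators Cfsg.Spor.Suz.edges ∪ {w | w ∈ Cfsg.Spor.Suz.extra} :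
    Set (FreeGroup Gen)), FreeGroup.lift (gp x y r t u κ) w = 1 := by
  refine Cfsg.Agent.Lib.PermNetOrbit.cox_lift_eq_one (gp x y r t u κ) Cfsg.Spor.Suz.edges Cfsg.Spor.Suz.extra
    (fun i _ j _ => h.cox i j) ?_
  intro w hw
  rw [Cfsg.Spor.Suz.extra, List.mem_cons, List.mem_cons, List.mem_cons, List.mem_cons,
    List.mem_singleton] at hw
  rcases hw with rfl | rfl | rfl | rfl | rfl
  · simp only [map_mul, map_inv, map_pow, FreeGroup.lift_apply_of]
    show (x * y) ^ 2 * ((r * κ δ) ^ 4)⁻¹ = 1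
    rw [h.cd_four, mul_inv_cancel]
  · simp only [map_mul, map_inv, map_pow, FreeGroup.lift_apply_of]
    show (x * y) ^ 2 * ((x * y) ^ 2)⁻¹ = 1
    rw [mul_inv_cancel]
  · simp only [map_mul, map_inv, map_pow, FreeGroup.lift_apply_of]
    exact h.zbrx
  · simp only [map_mul, map_inv, map_pow, FreeGroup.lift_apply_of]
    exact h.be_xy
  · simp only [map_mul, map_inv, map_pow, FreeGroup.lift_apply_of]
    show ((be y t u * r * κ δ * r * κ δ) ^ 5 * κ ε) ^ 3 = 1
    rw [h.bcdcd]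
    exact h.zeta_e

/-- The homomorphism from the presented Suzuki group. -/
def φ : Suz →* G := PresentedGroup.toGroup h.rels_hold

theorem φ_of (i : Gen) : h.φ (PresentedGroup.of i) = gp x y r t u κ i := PresentedGroup.toGroup.of h.rels_hold

theorem φ_a : h.φ (PresentedGroup.of .a) = (x * y) ^ 2 := h.φ_of .a
theorem φ_b : h.φ (PresentedGroup.of .b) = be y t u := h.φ_of .b
theorem φ_c : h.φ (PresentedGroup.of .c) = r := h.φ_of .c
theorem φ_d : h.φ (PresentedGroup.of .d) = κ δ := h.φ_of .d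
theorem φ_e : h.φ (PresentedGroup.of .e) = κ ε := h.φ_of .e
theorem φ_f : h.φ (PresentedGroup.of .f) = x := h.φ_of .f
theorem φ_g : h.φ (PresentedGroup.of .g) = y := h.φ_of .g

theorem φ_injective : Function.Injective h.φ := by
  have hs : IsSimpleGroup Suz := Cfsg.Agent.S1694.result.1
  rw [← MonoidHom.ker_eq_bot_iff]
  rcases IsSimpleGroup.eq_bot_or_eq_top_of_normal h.φ.ker inferInstance with hk | hk
  · exact hk
  · exfalso
    apply h.z_ne
    rw [← h.φ_a]
    have : (PresentedGroup.of Gen.a : Suz) ∈ h.φ.ker := by rw [hk]; exact Subgroup.mem_top _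
    exact this

theorem x_mem : x ∈ h.φ.range := ⟨_, h.φ_f⟩
theorem y_mem : y ∈ h.φ.range := ⟨_, h.φ_g⟩
theorem r_mem : r ∈ h.φ.range := ⟨_, h.φ_c⟩
theorem z_mem : (x * y) ^ 2 ∈ h.φ.range := ⟨_, h.φ_a⟩
theorem b_mem : be y t u ∈ h.φ.range := ⟨_, h.φ_b⟩

theorem t_mem : t ∈ h.φ.range := by
  have hx := h.x_mem
  have hy := h.y_mem
  have hb := h.b_mem
  have e := h.t_eq
  generalize h.φ.range = K at *
  generalize be y t u = b at *
  rw [e]
  exact mul_mem (mul_mem (mul_mem (mul_mem (mul_mem (mul_mem (mul_mem (mul_mem (mul_mem (mul_mem (mul_mem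
    hx hb) hx) hy) hx) hy) hb) hy) hx) hy) hb) hx

theorem u_mem : u ∈ h.φ.range := by
  have hx := h.x_mem
  have hy := h.y_mem
  have hb := h.b_mem
  have e := h.u_eq
  generalize h.φ.range = K at *
  generalize be y t u = b at *
  rw [e]
  exact mul_mem (mul_mem (mul_mem (mul_mem (mul_mem (mul_mem (mul_mem (mul_mem (mul_mem (mul_mem
    hb hx) hy) hx) hy) hb) hx) hy) hx) hb) hy

theorem c_one_mem : c 1 ∈ h.φ.range := by
  have h1 := h.κ_conj δ 0
  rw [δ_zero, h.c_zero] at h1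
  rw [← h1]
  exact mul_mem (mul_mem ⟨_, h.φ_d⟩ h.r_mem) (inv_mem ⟨_, h.φ_d⟩)

theorem zet_range : h.zet ∈ h.φ.range := by
  unfold zet
  refine pow_mem (mul_mem (mul_mem h.b_mem ?_) h.c_one_mem) 5
  rw [h.c_zero]
  exact h.r_mem

theorem κ_range : κ.range ≤ h.φ.range := by
  have h1 : h.φ.range.comap κ = ⊤ := gen _ (h.tau_mem_of h.zet_range) ⟨_, h.φ_d⟩ ⟨_, h.φ_e⟩
  rintro _ ⟨σ, rfl⟩
  have : σ ∈ h.φ.range.comap κ := by rw [h1]; exact Subgroup.mem_top _
  exact this

theorem c_mem (i : Fin 5) : c i ∈ h.φ.range := by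
  obtain ⟨σ, hσ⟩ := exists_alt_zero i
  rw [← hσ, ← h.κ_conj σ 0, h.c_zero]
  have h1 : κ σ ∈ h.φ.range := h.κ_range ⟨σ, rfl⟩
  exact mul_mem (mul_mem h1 h.r_mem) (inv_mem h1)

end Dat

/-- **Node N6.** From the local data we obtain a monomorphism from the presented Suzuki group whose image
contains `x, y, r, t, u` and the image of `κ`. -/
theorem main {x y r t u : G} {c : Fin 5 → G} {κ : alternatingGroup (Fin 5) →* G} (h : Dat x y r t u c κ) :
    ∃ φ : Suz →* G, Function.Injective φ ∧ φ (PresentedGroup.of Gen.a) = (x * y) ^ 2 ∧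
      φ (PresentedGroup.of Gen.c) = r ∧ φ (PresentedGroup.of Gen.f) = x ∧ φ (PresentedGroup.of Gen.g) = y ∧
      t ∈ φ.range ∧ u ∈ φ.range ∧ (∀ i, c i ∈ φ.range) ∧ κ.range ≤ φ.range :=
  ⟨h.φ, h.φ_injective, h.φ_a, h.φ_c, h.φ_f, h.φ_g, h.t_mem, h.u_mem, h.c_mem, h.κ_range⟩

end Cfsg.Agent.SuzType.SuzPres
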