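import Cfsg.Agent.SuzType.PlaneRel
import Cfsg.Agent.SuzType.SuzPres

/-!
# Groups of Suzuki type: the input of node N6 from the local data
-/

set_option autoImplicit false

namespace Cfsg.Agent.SuzType.DatMk

open Cfsg.Agent.J2Type.QStruct Cfsg.Agent.J2Type.Model
open Cfsg.Agent.ClassificationK.LargeSymplectic Cfsg.Agent.SuzType.CanonG Cfsg.Agent.SuzType.Swap
  Cfsg.Agent.SuzType.RR Cfsg.Agent.SuzType.CentA4 Cfsg.Agent.SuzType.LocalRel Cfsg.Agent.SuzType.Words
  Cfsg.Agent.SuzType.PlaneRel Cfsg.Agent.SuzType.PresRel Cfsg.Agent.SuzType.SuzPres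
open Cfsg.Agent.LargeExtra

/-- A homomorphism maps the relations of the plane group to themselves. -/
theorem rels_map {M N : Type*} [Group M] [Group N] (φ : M →* N) {x y r t u : M} (h : SuzPlane.Rels x y r t u) :
    SuzPlane.Rels (φ x) (φ y) (φ r) (φ t) (φ u) where
  x2 := by simpa using congrArg φ h.x2
  y2 := by simpa using congrArg φ h.y2
  r2 := by simpa using congrArg φ h.r2
  xy4 := by simpa using congrArg φ h.xy4
  t3 := by simpa using congrArg φ h.t3
  u3 := by simpa using congrArg φ h.u3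
  tz := by simpa using congrArg φ h.tz
  tx := by simpa using congrArg φ h.tx
  ty := by simpa using congrArg φ h.ty
  uz := by simpa using congrArg φ h.uz
  uy := by simpa using congrArg φ h.uy
  ux := by simpa using congrArg φ h.ux
  rx := by simpa using congrArg φ h.rx
  ry := by simpa using congrArg φ h.ry
  rt := by simpa using congrArg φ h.rt
  ru := by simpa using congrArg φ h.ru
  ab := by simpa using congrArg φ h.ab

theorem relsL_map {M N : Type*} [Group M] [Group N] (φ : M →* N) {x y r t u : M} (h : RelsL x y r t u) :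
    RelsL (φ x) (φ y) (φ r) (φ t) (φ u) where
  toRels := rels_map φ h.toRels
  j1 := by simpa using congrArg φ h.j1
  j2 := by simpa using congrArg φ h.j2
  l1 := by simpa using congrArg φ h.l1
  l2 := by simpa using congrArg φ h.l2

variable {G : Type*} [Group G] {Q L : Subgroup G} {z y t f u g : G} {c : Fin 5 → G}
  {κ : alternatingGroup (Fin 5) →* G}

/-- The relations for one `c i` imply the relations for every `c j`. -/
theorem relsL_conj (Λ : Local Q z y t f u g L) (K : Canon Q z y t L c κ) (i j : Fin 5)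
    (h : RelsL y t (c i) f⁻¹ u⁻¹) : RelsL y t (c j) f⁻¹ u⁻¹ := by
  obtain ⟨σ₁, h1⟩ := AltFive.exists_alt_zero i
  obtain ⟨σ₂, h2⟩ := AltFive.exists_alt_zero j
  set σ := σ₂ * σ₁⁻¹ with hσ
  have hi : (σ : Equiv.Perm (Fin 5)) i = j := by
    rw [hσ]
    have h3 : ((σ₁ : Equiv.Perm (Fin 5))⁻¹ : Equiv.Perm (Fin 5)) i = 0 := by
      rw [← h1]; exact Equiv.symm_apply_apply _ _
    show (σ₂ : Equiv.Perm (Fin 5)) ((σ₁ : Equiv.Perm (Fin 5))⁻¹ i) = j
    rw [h3, h2]
  have hL : ∀ σ, κ σ ∈ L := fun σ => by rw [← K.κ_range]; exact ⟨σ, rfl⟩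
  have key := relsL_map (MulAut.conj (κ σ)).toMonoidHom h
  have com : ∀ v : G, κ σ * v = v * κ σ → (MulAut.conj (κ σ)).toMonoidHom v = v := by
    intro v hv
    show κ σ * v * (κ σ)⁻¹ = v
    rw [hv]; group
  have com' : ∀ v : G, κ σ * v = v * κ σ → (MulAut.conj (κ σ)).toMonoidHom v⁻¹ = v⁻¹ := by
    intro v hv
    rw [map_inv, com v hv]
  have ec : (MulAut.conj (κ σ)).toMonoidHom (c i) = c j := by
    show κ σ * c i * (κ σ)⁻¹ = c j
    rw [K.κ_conj, hi]
  rw [com _ (Λ.Ly _ (hL σ)), com _ (Λ.Lt _ (hL σ)), com' _ (Λ.fL _ (hL σ)), com' _ (Λ.uL _ (hL σ)), ec] at key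
  exact key

/-- The input of node N6. -/
theorem exists_dat [Finite G] (Λ : Local Q z y t f u g L) (K : Canon Q z y t L c κ)
    (j1 : (f⁻¹ * u⁻¹) ^ 5 = 1) (j2 : (f⁻¹ * u) ^ 4 = 1)
    (syl : ∀ (c : Fin 5 → G) (κ : alternatingGroup (Fin 5) →* G), Canon Q z y t L c κ →
      ∀ s : G, s ^ 3 = 1 → s * c 0 = c 0 * s → s * c 1 = c 1 * s → s * κ AltFive.τ = κ AltFive.τ * s →
        s ∈ Subgroup.zpowers (κ AltFive.τ)) :
    ∃ (c' : Fin 5 → G) (κ' : alternatingGroup (Fin 5) →* G), Canon Q z y t L c' κ' ∧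
      Dat y t (c' 0) f⁻¹ u⁻¹ c' κ' := by
  obtain ⟨c', κ', K', l1, l2⟩ := exists_canon Λ K j1 j2
  have hL : ∀ σ, κ' σ ∈ L := fun σ => by rw [← K'.κ_range]; exact ⟨σ, rfl⟩
  have R4 : RelsL y t (c' 4) f⁻¹ u⁻¹ :=
    { toRels := plane_rels Λ K'
      j1 := j1
      j2 := by rw [inv_inv]; exact j2
      l1 := l1
      l2 := by rw [inv_inv]; exact l2 }
  have R0 := relsL_conj Λ K' 4 0 R4
  have hzz := z_eq Λ
  have comm_inv : ∀ (σ : alternatingGroup (Fin 5)) (v : G), κ' σ * v = v * κ' σ → κ' σ * v⁻¹ = v⁻¹ * κ' σ := by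
    intro σ v hv
    have : Commute (κ' σ) v := hv
    exact this.inv_right.eq
  exact ⟨c', κ', K',
    { toRelsL := R0
      z_ne := by rw [hzz]; exact Λ.z_ne
      c_zero := rfl
      c_sq := K'.c_sq
      c_anti := by rw [hzz]; exact K'.c_anti
      κ_conj := K'.κ_conj
      κx := fun σ => Λ.Ly _ (hL σ)
      κy := fun σ => Λ.Lt _ (hL σ)
      κt := fun σ => comm_inv _ _ (Λ.fL _ (hL σ))
      κu := fun σ => comm_inv _ _ (Λ.uL _ (hL σ))
      syl := syl c' κ' K' }⟩

end Cfsg.Agent.SuzType.DatMk
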