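import Cfsg.Agent.SuzType.E2J2Data

set_option autoImplicit false
set_option maxRecDepth 100000

namespace Cfsg.Agent.SuzType.E2J2Chk0

open Cfsg.Agent.SporadicRecognition.CosetCert Cfsg.Agent.Lib.CosetPartial Cfsg.Agent.SuzType.E2J2Data

theorem c0 : PartP C 0 64 := runP_sound C (by decide +kernel : runP C 10 1023 0x238c000000000400000010000000002000000000100002000020000200000004000000200000008000040000000000000040200002000000000200401a0c0000000000000080000000000010005300800000010016300000000020095300402001430000000402000000040000800008530000000001000000040000000000020000000001000003cc0200400001030cc00000b300800004000000000063000010000200000008020000110c00000d30000128cc308c020000000001000000000200400000000080000000004020080004c000000200001000000000100093000000080000000004000001300002000000048300000000021cc020040018c00000010080200400000000000300000004000000000802000020000000400000000000000002004000000200000000020040018c000000100802000000000000801000000000000000008010000000000004000080000000000020040200000000000000200400000000000100802000000000000801000000000200000008010080000000004000080000000000020040000000000020000200400000000040000002000000000200000004000000000002004020000000000004020000000002008020000100000000000080100800000000000100800000000000000800004000000000000004020000000000004020080000000000020000100000000000080100800000000000100800000020000000800004004cc0000000004020000200000004020000068c000000200000 10 1023 0 0 64 = true)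

theorem c1 : PartP C 64 126 := runP_sound C (by decide +kernel : runP C 10 1023 0x10000220c000000000000004000000044c0200001000010000040c020000098c000040000000000000040260c008cc0200000000005cc010000000400008008cdc300123008010000000000005e300000000000080000653000000000000000004000000290c020000000001000000000000400008230000000000000010000000000008018cc0000203008000000100000008000040000000004007cc000000000223005e384c00000000000000000000000040000001008000080000000000010000200002000020000000400000020000000800004000080000801000020000000800000010000000002008000000100001000020000200800000010000200800000000000200400000000080000000008010000044c0200001000000040260c0000000000000000000001000010000040db30000000000004000000074c0000002008730080100000000000040000802004000000000000001a3000000040058c00000e300002008010000044c0200001000010000040c0200000000000040000000008000040260c00001c300000000005cc0100000008020000254c010013300000000010080000000004000080000002000000040200800000020000000801000000000000400009930000200002000010000238c0000000004020011300800004000000100800000000000048c01000000080000133008000000000400000000000100000000000000000001000b3000000040000000 10 1023 0x276000000000000000000000000000000000000000000000000000000000000000000000000000000000000000000000000000000000 64 62 = true)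

theorem all : PartP C 0 126 := (c0).append C c1

end Cfsg.Agent.SuzType.E2J2Chk0
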