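import Cfsg.Agent.LargeExtra.FourGroup

/-!
# The relations (RR) and `(a b)² = z r` of the Suzuki type

`Tri Q z e e' g` : `g` is an element of order three with `z → e → z e → z` (`g z g⁻¹ = e`), inverted by
`e'`, `n n^g n^(g²) = 1` and (RR) for `n, m ∈ C_Q(e)`.
-/

set_option autoImplicit false

namespace Cfsg.Agent.SuzType.RR

variable {G : Type*} [Group G]

/-- **(RR)**, general form: in a group `R` of class two with `x x^f x^(f²) = 1`. -/
theorem rr (R : Subgroup G) (f : G) (hfR : ∀ x ∈ R, f * x * f⁻¹ ∈ R)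
    (hT : ∀ x ∈ R, x * (f * x * f⁻¹) * (f⁻¹ * x * f) = 1)
    (hcen : ∀ x ∈ R, ∀ w ∈ R, ∀ v ∈ R, (x * w * x⁻¹ * w⁻¹) * v = v * (x * w * x⁻¹ * w⁻¹))
    (n m : G) (hn : n ∈ R) (hm : m ∈ R) :
    n * (f * m * f⁻¹) * n⁻¹ * (f * m * f⁻¹)⁻¹ =
      (n * m * n⁻¹ * m⁻¹ * (f * (n * m * n⁻¹ * m⁻¹) * f⁻¹))⁻¹ := by
  have hN := hfR n hn
  have hM := hfR m hm
  have t1 := hT n hn
  have t2 := hT m hm
  have t3 := hT (n * m) (R.mul_mem hn hm)
  have e2 : f * (n * m * n⁻¹ * m⁻¹) * f⁻¹ =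
      (f * n * f⁻¹) * (f * m * f⁻¹) * (f * n * f⁻¹)⁻¹ * (f * m * f⁻¹)⁻¹ := by group
  have e3 : f * (n * m) * f⁻¹ = (f * n * f⁻¹) * (f * m * f⁻¹) := by group
  have e4 : f⁻¹ * (n * m) * f = (f⁻¹ * n * f) * (f⁻¹ * m * f) := by group
  rw [e3, e4] at t3
  rw [e2]
  generalize f * n * f⁻¹ = N at *
  generalize f * m * f⁻¹ = M at *
  have h1 : f⁻¹ * n * f = N⁻¹ * n⁻¹ := by
    rw [mul_eq_one_iff_inv_eq] at t1
    rw [← t1, mul_inv_rev]
  have h2 : f⁻¹ * m * f = M⁻¹ * m⁻¹ := by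
    rw [mul_eq_one_iff_inv_eq] at t2
    rw [← t2, mul_inv_rev]
  rw [h1, h2] at t3
  have c2 := hcen N hN M hM
  have c3 := hcen n hn M hM
  rw [eq_inv_iff_mul_eq_one, ← t3]
  have k2 := c3 (n * m * n⁻¹) (R.mul_mem (R.mul_mem hn hm) (R.inv_mem hn))
  calc n * M * n⁻¹ * M⁻¹ * (n * m * n⁻¹ * m⁻¹ * (N * M * N⁻¹ * M⁻¹))
      = (n * M * n⁻¹ * M⁻¹) * (n * m * n⁻¹) * m⁻¹ * (N * M * N⁻¹ * M⁻¹) := by group
    _ = n * m * n⁻¹ * (n * M * n⁻¹ * M⁻¹) * (m⁻¹ * (N * M * N⁻¹ * M⁻¹)) := by rw [k2]; group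
    _ = n * m * n⁻¹ * (n * M * n⁻¹ * M⁻¹) * ((N * M * N⁻¹ * M⁻¹) * m⁻¹) := by
        rw [c2 m⁻¹ (R.inv_mem hm)]
    _ = n * m * (M * n⁻¹ * M⁻¹ * (N * M * N⁻¹ * M⁻¹)) * m⁻¹ := by group
    _ = n * m * ((N * M * N⁻¹ * M⁻¹) * (M * n⁻¹ * M⁻¹)) * m⁻¹ := by
        rw [c2 (M * n⁻¹ * M⁻¹) (R.mul_mem (R.mul_mem hM (R.inv_mem hn)) (R.inv_mem hM))]
    _ = n * m * (N * M) * (N⁻¹ * n⁻¹ * (M⁻¹ * m⁻¹)) := by group

/-- (RR) with the commutators in `⟨z⟩`. -/
theorem rr' (R : Subgroup G) (f z y : G) (hz : z * z = 1) (hy : y * y = 1) (hzy : z * y = y * z)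
    (hfz : f * z * f⁻¹ = y)
    (hfR : ∀ x ∈ R, f * x * f⁻¹ ∈ R)
    (hT : ∀ x ∈ R, x * (f * x * f⁻¹) * (f⁻¹ * x * f) = 1)
    (hcen : ∀ x ∈ R, ∀ w ∈ R, ∀ v ∈ R, (x * w * x⁻¹ * w⁻¹) * v = v * (x * w * x⁻¹ * w⁻¹))
    (n m : G) (hn : n ∈ R) (hm : m ∈ R) :
    (n * m = m * n → n * (f * m * f⁻¹) = (f * m * f⁻¹) * n) ∧
    (n * m = z * (m * n) → n * (f * m * f⁻¹) = z * y * ((f * m * f⁻¹) * n)) := by
  have h := rr R f hfR hT hcen n m hn hm
  constructor
  · intro h1
    have h2 : n * m * n⁻¹ * m⁻¹ = 1 := by rw [h1]; group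
    rw [h2] at h
    have h3 : n * (f * m * f⁻¹) * n⁻¹ * (f * m * f⁻¹)⁻¹ = 1 := by rw [h]; group
    rw [mul_inv_eq_one, mul_inv_eq_iff_eq_mul] at h3
    exact h3
  · intro h1
    have h2 : n * m * n⁻¹ * m⁻¹ = z := by rw [h1]; group
    rw [h2, hfz] at h
    have h3 : (z * y)⁻¹ = z * y := by
      rw [inv_eq_iff_mul_eq_one]
      calc z * y * (z * y) = z * (y * z) * y := by group
        _ = (z * z) * (y * y) := by rw [← hzy]; group
        _ = 1 := by rw [hz, hy, one_mul]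
    rw [h3, mul_inv_eq_iff_eq_mul, mul_inv_eq_iff_eq_mul] at h
    rw [h, mul_assoc]

/-- The relations of an element of order three permuting `z → e → z e`. -/
structure Tri (Q : Subgroup G) (z e e' g : G) : Prop where
  gz : g * z * g⁻¹ = e
  ge : g * e * g⁻¹ = z * e
  inv : e' * g * e'⁻¹ = g⁻¹
  hT : ∀ n ∈ Q, n * e = e * n → n * (g * n * g⁻¹) * (g⁻¹ * n * g) = 1
  rr : ∀ n ∈ Q, ∀ m ∈ Q, n * e = e * n → m * e = e * m →
      (n * m = m * n → n * (g * m * g⁻¹) = (g * m * g⁻¹) * n) ∧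
      (n * m = z * (m * n) → n * (g * m * g⁻¹) = z * e * ((g * m * g⁻¹) * n))

theorem Tri.conj {Q : Subgroup G} {z e e' g : G} (h : Tri Q z e e' g) (c : G)
    (hc : c * z = z * c) (hQ : ∀ q, q ∈ Q ↔ c * q * c⁻¹ ∈ Q) :
    Tri Q z (c * e * c⁻¹) (c * e' * c⁻¹) (c * g * c⁻¹) := by
  have cz : c * z * c⁻¹ = z := by rw [hc, mul_inv_cancel_right]
  have cz' : c⁻¹ * z * c = z := by
    calc c⁻¹ * z * c = c⁻¹ * (z * c) := by group
      _ = c⁻¹ * (c * z) := by rw [hc]
      _ = z := by group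
  have hQ' : ∀ q ∈ Q, c⁻¹ * q * c ∈ Q := by
    intro q hq
    rw [hQ]
    have : c * (c⁻¹ * q * c) * c⁻¹ = q := by group
    rw [this]; exact hq
  have hcomm : ∀ q e0 : G, q * (c * e0 * c⁻¹) = (c * e0 * c⁻¹) * q →
      (c⁻¹ * q * c) * e0 = e0 * (c⁻¹ * q * c) := by
    intro q e0 h1
    calc (c⁻¹ * q * c) * e0 = c⁻¹ * (q * (c * e0 * c⁻¹)) * c := by group
      _ = c⁻¹ * ((c * e0 * c⁻¹) * q) * c := by rw [h1]
      _ = _ := by group
  refine ⟨?_, ?_, ?_, ?_, ?_⟩
  · calc c * g * c⁻¹ * z * (c * g * c⁻¹)⁻¹ = c * g * (c⁻¹ * z * c) * g⁻¹ * c⁻¹ := by group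
      _ = c * (g * z * g⁻¹) * c⁻¹ := by rw [cz']; group
      _ = _ := by rw [h.gz]
  · calc c * g * c⁻¹ * (c * e * c⁻¹) * (c * g * c⁻¹)⁻¹ = c * (g * e * g⁻¹) * c⁻¹ := by group
      _ = c * (z * e) * c⁻¹ := by rw [h.ge]
      _ = (c * z * c⁻¹) * (c * e * c⁻¹) := by group
      _ = _ := by rw [cz]
  · calc c * e' * c⁻¹ * (c * g * c⁻¹) * (c * e' * c⁻¹)⁻¹ = c * (e' * g * e'⁻¹) * c⁻¹ := by group
      _ = c * g⁻¹ * c⁻¹ := by rw [h.inv]
      _ = _ := by group
  · intro n hn hne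
    have h1 := h.hT (c⁻¹ * n * c) (hQ' n hn) (hcomm n e hne)
    calc n * (c * g * c⁻¹ * n * (c * g * c⁻¹)⁻¹) * ((c * g * c⁻¹)⁻¹ * n * (c * g * c⁻¹))
        = c * ((c⁻¹ * n * c) * (g * (c⁻¹ * n * c) * g⁻¹) * (g⁻¹ * (c⁻¹ * n * c) * g)) * c⁻¹ := by
          group
      _ = 1 := by rw [h1]; group
  · intro n hn m hm hne hme
    obtain ⟨h1, h2⟩ := h.rr (c⁻¹ * n * c) (hQ' n hn) (c⁻¹ * m * c) (hQ' m hm)
      (hcomm n e hne) (hcomm m e hme)
    constructor
    · intro h3
      have h4 := h1 (by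
        calc c⁻¹ * n * c * (c⁻¹ * m * c) = c⁻¹ * (n * m) * c := by group
          _ = c⁻¹ * (m * n) * c := by rw [h3]
          _ = _ := by group)
      calc n * (c * g * c⁻¹ * m * (c * g * c⁻¹)⁻¹)
          = c * ((c⁻¹ * n * c) * (g * (c⁻¹ * m * c) * g⁻¹)) * c⁻¹ := by group
        _ = c * (g * (c⁻¹ * m * c) * g⁻¹ * (c⁻¹ * n * c)) * c⁻¹ := by rw [h4]
        _ = _ := by group
    · intro h3
      have h4 := h2 (by
        calc c⁻¹ * n * c * (c⁻¹ * m * c) = c⁻¹ * (n * m) * c := by group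
          _ = c⁻¹ * (z * (m * n)) * c := by rw [h3]
          _ = (c⁻¹ * z * c) * (c⁻¹ * m * c * (c⁻¹ * n * c)) := by group
          _ = _ := by rw [cz'])
      calc n * (c * g * c⁻¹ * m * (c * g * c⁻¹)⁻¹)
          = c * ((c⁻¹ * n * c) * (g * (c⁻¹ * m * c) * g⁻¹)) * c⁻¹ := by group
        _ = c * (z * e * (g * (c⁻¹ * m * c) * g⁻¹ * (c⁻¹ * n * c))) * c⁻¹ := by rw [h4]
        _ = (c * z * c⁻¹) * (c * e * c⁻¹) * ((c * g * c⁻¹ * m * (c * g * c⁻¹)⁻¹) * n) := by group
        _ = _ := by rw [cz]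

/-- `Tri` from the conclusions of `FourGroup.main_four`. -/
theorem tri_of_four {Q P : Subgroup G} {z y f t : G} (h : LargeExtra.FourGroup.Ctx Q P z y)
    (hV : ∀ x ∈ Q, x ∈ P → x ∈ h.V) (F : h.IsF f)
    (hT : ∀ x ∈ h.R, x * (f * x * f⁻¹) * (f⁻¹ * x * f) = 1) (ht : t * f * t⁻¹ = f⁻¹) :
    Tri Q z y t f := by
  have hcen : ∀ x ∈ h.R, ∀ w ∈ h.R, ∀ v ∈ h.R,
      (x * w * x⁻¹ * w⁻¹) * v = v * (x * w * x⁻¹ * w⁻¹) := by
    intro x hx w hw v hv
    exact (h.V_comm_CV (h.comm_R hV hx hw) (h.R_le_CV hv)).symm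
  have hA : ∀ n ∈ Q, n * y = y * n → n ∈ h.R := fun n hn hny =>
    h.A_le_R (h.mem_A_iff.2 ⟨hn, hny⟩)
  refine ⟨F.fz, F.fy, ht, fun n hn hny => hT n (hA n hn hny), ?_⟩
  intro n hn m hm hny hmy
  exact rr' h.R f z y h.zz h.yy h.yz.symm F.fz (fun x hx => F.conj_R hx) hT hcen n m
    (hA n hn hny) (hA m hm hmy)

section
variable {Q : Subgroup G} {z : G}

/-- first lemma: the elements `b = F⁻¹ e F` over `r`. -/
theorem bpart {e r r' F : G} (hz : z * z = 1) (hzQ : ∀ q ∈ Q, q * z = z * q)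
    (T : Tri Q z r r' F) (rQ : r ∈ Q) (hr : r * r = 1)
    (eQ : e ∈ Q) (he : e * e = 1) (her : e * r = r * e) :
    (F⁻¹ * e * F) * (F⁻¹ * e * F) = 1 ∧ (F⁻¹ * e * F) * z = z * (F⁻¹ * e * F) ∧
    (F⁻¹ * e * F) * r = r * (F⁻¹ * e * F) ∧
    ∀ n ∈ Q, n * r = r * n →
      (n * e = e * n → n * (F⁻¹ * e * F) = (F⁻¹ * e * F) * n) ∧
      (n * e = z * (e * n) → n * (F⁻¹ * e * F) = r * ((F⁻¹ * e * F) * n)) := by
  have hzr : r * z = z * r := hzQ r rQ
  have hze : e * z = z * e := hzQ e eQ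
  have F1 : F * z = r * F := by rw [← T.gz]; group
  have F2 : F * r = z * r * F := by rw [← T.ge]; group
  set b := F⁻¹ * e * F with hb
  have hbb : b * b = 1 := by
    calc b * b = F⁻¹ * (e * e) * F := by rw [hb]; group
      _ = 1 := by rw [he]; group
  have hbz : b * z = z * b := by
    calc b * z = F⁻¹ * e * (F * z) := by rw [hb]; group
      _ = F⁻¹ * (e * r) * F := by rw [F1]; group
      _ = F⁻¹ * (r * F) * F⁻¹ * e * F := by rw [her]; group
      _ = F⁻¹ * (F * z) * F⁻¹ * e * F := by rw [F1]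
      _ = z * b := by rw [hb]; group
  have hbr : b * r = r * b := by
    calc b * r = F⁻¹ * e * (F * r) := by rw [hb]; group
      _ = F⁻¹ * ((e * z) * r) * F := by rw [F2]; group
      _ = F⁻¹ * (z * (e * r)) * F := by rw [hze]; group
      _ = F⁻¹ * (z * r * F) * F⁻¹ * e * F := by rw [her]; group
      _ = F⁻¹ * (F * r) * F⁻¹ * e * F := by rw [F2]
      _ = r * b := by rw [hb]; group
  have hb' : b = (F * e * F⁻¹) * e := by
    have h1 := T.hT e eQ her
    rw [← hb] at h1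
    have h2 : b = (e * (F * e * F⁻¹))⁻¹ := eq_inv_of_mul_eq_one_right h1
    have hei : e⁻¹ = e := inv_eq_of_mul_eq_one_left he
    rw [h2]
    calc (e * (F * e * F⁻¹))⁻¹ = F * e⁻¹ * F⁻¹ * e⁻¹ := by group
      _ = _ := by rw [hei]
  refine ⟨hbb, hbz, hbr, ?_⟩
  intro n hn hnr
  obtain ⟨h1, h2⟩ := T.rr n hn e eQ hnr her
  constructor
  · intro h3
    have h4 := h1 h3
    calc n * b = (n * (F * e * F⁻¹)) * e := by rw [hb']; group
      _ = (F * e * F⁻¹) * (n * e) := by rw [h4]; group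
      _ = b * n := by rw [h3, hb']; group
  · intro h3
    have h4 := h2 h3
    calc n * b = (n * (F * e * F⁻¹)) * e := by rw [hb']; group
      _ = z * r * (F * e * F⁻¹) * (n * e) := by rw [h4]; group
      _ = z * r * ((F * e * F⁻¹) * z) * e * n := by rw [h3]; group
      _ = z * r * (z * (F * e * F⁻¹)) * e * n := by
          congr 3
          -- `F e F⁻¹ = b e` commutes with `z`
          have h5 : F * e * F⁻¹ = b * e := by rw [hb', mul_assoc _ e e, he, mul_one]
          rw [h5]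
          calc b * e * z = b * (z * e) := by rw [mul_assoc, hze]
            _ = (b * z) * e := by group
            _ = z * (b * e) := by rw [hbz]; group
      _ = (z * (r * z)) * (F * e * F⁻¹) * e * n := by group
      _ = (z * z) * r * ((F * e * F⁻¹) * e) * n := by rw [hzr]; group
      _ = r * (b * n) := by rw [hz, hb']; group

/-- second lemma: the elements `a = g r g⁻¹`. -/
theorem apart {e e' r g : G} (hz : z * z = 1) (hzQ : ∀ q ∈ Q, q * z = z * q)
    (T : Tri Q z e e' g) (rQ : r ∈ Q) (hr : r * r = 1) (eQ : e ∈ Q)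
    (her : e * r = r * e) (he'r : e' * r = r * e') :
    (g * r * g⁻¹) * (g * r * g⁻¹) = 1 ∧ (g * r * g⁻¹) * z = z * (g * r * g⁻¹) ∧
    (g * r * g⁻¹) * r = r * (g * r * g⁻¹) ∧ (g * r * g⁻¹) * e = e * (g * r * g⁻¹) ∧
    e' * (g * r * g⁻¹) = r * ((g * r * g⁻¹) * e') ∧
    ∀ n ∈ Q, n * e = e * n → n * r = r * n → n * (g * r * g⁻¹) = (g * r * g⁻¹) * n := by
  have hzr : r * z = z * r := hzQ r rQ
  have hze : e * z = z * e := hzQ e eQ
  have g1 : g * z = e * g := by rw [← T.gz]; group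
  have g2 : g * e = z * e * g := by rw [← T.ge]; group
  have hri : r⁻¹ = r := inv_eq_of_mul_eq_one_left hr
  set a := g * r * g⁻¹ with ha
  have haa : a * a = 1 := by
    calc a * a = g * (r * r) * g⁻¹ := by rw [ha]; group
      _ = 1 := by rw [hr]; group
  have hae : a * e = e * a := by
    have h1 : e = g * z * g⁻¹ := T.gz.symm
    calc a * e = g * (r * z) * g⁻¹ := by rw [ha]; nth_rewrite 1 [h1]; group
      _ = (g * z * g⁻¹) * (g * r * g⁻¹) := by rw [hzr]; group
      _ = e * a := by rw [T.gz]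
  have hz' : z = g * (z * e) * g⁻¹ := by
    calc z = e * (z * e) := by
            have he : e * e = 1 := by
              rw [← T.gz]
              calc g * z * g⁻¹ * (g * z * g⁻¹) = g * (z * z) * g⁻¹ := by group
                _ = 1 := by rw [hz]; group
            rw [← mul_assoc, hze, mul_assoc, he, mul_one]
      _ = (g * z * g⁻¹) * (g * e * g⁻¹) := by rw [T.gz, T.ge]
      _ = _ := by group
  have haz : a * z = z * a := by
    calc a * z = g * (r * z * e) * g⁻¹ := by rw [ha]; nth_rewrite 1 [hz']; group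
      _ = g * (z * e * r) * g⁻¹ := by
        rw [show r * z * e = z * e * r from by rw [hzr, mul_assoc, ← her, ← mul_assoc]]
      _ = (g * (z * e) * g⁻¹) * (g * r * g⁻¹) := by group
      _ = z * a := by rw [← hz']
  have hn : ∀ n ∈ Q, n * e = e * n → n * r = r * n → n * a = a * n := by
    intro n hn hne hnr
    exact (T.rr n hn r rQ hne her.symm).1 hnr
  have har : a * r = r * a := (hn r rQ her.symm rfl).symm
  have h3 : g⁻¹ * r * g = r * a := by
    have h1 := T.hT r rQ her.symm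
    rw [← ha] at h1
    have h2 : g⁻¹ * r * g = (r * a)⁻¹ := eq_inv_of_mul_eq_one_right h1
    rw [h2, mul_inv_rev, hri, inv_eq_of_mul_eq_one_left haa, har]
  refine ⟨haa, haz, har, hae, ?_, hn⟩
  have i1 : e' * g = g⁻¹ * e' := by rw [← T.inv]; group
  have i2 : e' * g⁻¹ = g * e' := by
    have : e' * g⁻¹ * e'⁻¹ = g := by
      calc e' * g⁻¹ * e'⁻¹ = (e' * g * e'⁻¹)⁻¹ := by group
        _ = g := by rw [T.inv, inv_inv]
    rw [mul_inv_eq_iff_eq_mul] at this
    exact this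
  calc e' * a = (e' * g) * r * g⁻¹ := by rw [ha]; group
    _ = g⁻¹ * (e' * r) * g⁻¹ := by rw [i1]; group
    _ = g⁻¹ * r * (e' * g⁻¹) := by rw [he'r]; group
    _ = (g⁻¹ * r * g) * e' := by rw [i2]; group
    _ = r * (a * e') := by rw [h3]; group

/-- combination: `g r g⁻¹ = (F⁻¹ e F) w`, `w ∈ ⟨z, r⟩`. -/
theorem combine {e e' r r' g F : G} (hz : z * z = 1) (hzQ : ∀ q ∈ Q, q * z = z * q)
    (hQ : ∀ a ∈ Q, ∀ b ∈ Q, a * b = b * a ∨ a * b = z * (b * a))
    (T : Tri Q z e e' g) (T' : Tri Q z r r' F)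
    (eQ : e ∈ Q) (he : e * e = 1) (eQ' : e' ∈ Q) (he' : e' * e' = 1)
    (hee' : e * e' = z * (e' * e)) (rQ : r ∈ Q) (hr : r * r = 1)
    (her : e * r = r * e) (he'r : e' * r = r * e')
    (hcen : ∀ v : G, v * z = z * v → (∀ n ∈ Q, n * r = r * n → n * v = v * n) →
      v = 1 ∨ v = z ∨ v = r ∨ v = z * r) :
    ∃ w : G, (w = 1 ∨ w = z ∨ w = r ∨ w = z * r) ∧ g * r * g⁻¹ = (F⁻¹ * e * F) * w := by
  obtain ⟨bb, bz, br, bn⟩ := bpart hz hzQ T' rQ hr eQ he her
  obtain ⟨aa, az, ar, ae, ae', an⟩ := apart hz hzQ T rQ hr eQ her he'r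
  have hri : r⁻¹ = r := inv_eq_of_mul_eq_one_left hr
  set b := F⁻¹ * e * F
  set a := g * r * g⁻¹
  have hbi : b⁻¹ = b := inv_eq_of_mul_eq_one_left bb
  have he'e : e' * e = z * (e * e') := by
    rw [hee', ← mul_assoc z z, hz, one_mul]
  have be : e * b = b * e := (bn e eQ her).1 rfl
  have be' : e' * b = r * (b * e') := (bn e' eQ' he'r).2 he'e
  have we : e * (b * a) = (b * a) * e := by
    calc e * (b * a) = (e * b) * a := by group
      _ = b * (e * a) := by rw [be]; group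
      _ = _ := by rw [← ae]; group
  have we' : e' * (b * a) = (b * a) * e' := by
    calc e' * (b * a) = (e' * b) * a := by group
      _ = r * b * (e' * a) := by rw [be']; group
      _ = r * (b * r) * (a * e') := by rw [ae']; group
      _ = (r * r) * b * (a * e') := by rw [br]; group
      _ = _ := by rw [hr]; group
  have w0 : ∀ n ∈ Q, n * r = r * n → n * e = e * n → n * e' = e' * n →
      n * (b * a) = (b * a) * n := by
    intro n hn hnr hne hne'
    calc n * (b * a) = (n * b) * a := by group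
      _ = b * (n * a) := by rw [(bn n hn hnr).1 hne]; group
      _ = _ := by rw [an n hn hne hnr]; group
  refine ⟨b * a, hcen (b * a) ?_ ?_, ?_⟩
  · rw [mul_assoc, az, ← mul_assoc, bz, mul_assoc]
  · intro n hn hnr
    -- decomposition of `n`
    have hne := hQ n hn e eQ
    have hne' := hQ n hn e' eQ'
    have hnz := hzQ n hn
    have hez := hzQ e eQ
    have he'z := hzQ e' eQ'
    rcases hne with h1 | h1 <;> rcases hne' with h2 | h2
    · exact w0 n hn hnr h1 h2
    · -- n * e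
      have k := w0 (n * e) (Q.mul_mem hn eQ) (by rw [mul_assoc, her, ← mul_assoc, hnr, mul_assoc])
        (by rw [h1, mul_assoc, h1]) (by
          calc n * e * e' = n * (z * (e' * e)) := by rw [mul_assoc, hee']
            _ = (n * z) * e' * e := by group
            _ = z * (n * e') * e := by rw [hnz]; group
            _ = (z * z) * (e' * n * e) := by rw [h2]; group
            _ = _ := by rw [hz]; group)
      have : n = (n * e) * e := by rw [mul_assoc, he, mul_one]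
      calc n * (b * a) = (n * e) * (e * (b * a)) := by
            rw [← mul_assoc (n * e), ← this]
        _ = ((n * e) * (b * a)) * e := by rw [we]; group
        _ = (b * a) * ((n * e) * e) := by rw [k]; group
        _ = _ := by rw [← this]
    · -- n * e'
      have k := w0 (n * e') (Q.mul_mem hn eQ') (by
          rw [mul_assoc, he'r, ← mul_assoc, hnr, mul_assoc])
        (by
          calc n * e' * e = n * (z * (e * e')) := by rw [mul_assoc, he'e]
            _ = (n * z) * e * e' := by group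
            _ = z * (n * e) * e' := by rw [hnz]; group
            _ = (z * z) * (e * n * e') := by rw [h1]; group
            _ = _ := by rw [hz]; group) (by rw [h2, mul_assoc, h2])
      have : n = (n * e') * e' := by rw [mul_assoc, he', mul_one]
      calc n * (b * a) = (n * e') * (e' * (b * a)) := by
            rw [← mul_assoc (n * e'), ← this]
        _ = ((n * e') * (b * a)) * e' := by rw [we']; group
        _ = (b * a) * ((n * e') * e') := by rw [k]; group
        _ = _ := by rw [← this]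
    · -- n * (e * e')
      have k := w0 (n * (e * e')) (Q.mul_mem hn (Q.mul_mem eQ eQ')) (by
          calc n * (e * e') * r = n * e * (e' * r) := by group
            _ = n * (e * r) * e' := by rw [he'r]; group
            _ = (n * r) * e * e' := by rw [her]; group
            _ = _ := by rw [hnr]; group)
        (by
          calc n * (e * e') * e = n * e * (e' * e) := by group
            _ = n * e * (z * (e * e')) := by rw [he'e]
            _ = n * (e * z) * e * e' := by group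
            _ = n * z * (e * e) * e' := by rw [hez]; group
            _ = z * n * e' := by rw [he, hnz, mul_one]
            _ = z * n * (e * e) * e' := by rw [he, mul_one]
            _ = z * (n * e) * e * e' := by group
            _ = (z * z) * e * n * (e * e') := by rw [h1]; group
            _ = _ := by rw [hz]; group)
        (by
          calc n * (e * e') * e' = n * e * (e' * e') := by group
            _ = n * e := by rw [he', mul_one]
            _ = (z * z) * (n * e) := by rw [hz, one_mul]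
            _ = z * (e' * e') * (n * z) * e := by rw [he', hnz]; group
            _ = z * e' * (e' * n) * z * e := by group
            _ = z * e' * (e' * n) * (e * z) := by rw [hez]; group
            _ = z * e' * ((z * z) * (e' * n)) * (e * z) := by rw [hz, one_mul]
            _ = z * e' * z * (n * e') * (e * z) := by rw [h2]; group
            _ = z * (e' * z) * n * (e' * e) * z := by group
            _ = z * (z * e') * n * (z * (e * e')) * z := by rw [he'z, he'e]
            _ = (z * z) * e' * (n * z) * e * (e' * z) := by group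
            _ = e' * (z * n) * e * (z * e') := by rw [hz, hnz, he'z, one_mul]
            _ = e' * (z * n * (e * z)) * e' := by group
            _ = e' * (z * (n * z) * e) * e' := by rw [hez]; group
            _ = e' * ((z * z) * n * e) * e' := by rw [hnz]; group
            _ = _ := by rw [hz]; group)
      have h5 : (e * e') * (e' * e) = 1 := by
        calc (e * e') * (e' * e) = e * (e' * e') * e := by group
          _ = 1 := by rw [he', mul_one, he]
      have : n = (n * (e * e')) * (e' * e) := by rw [mul_assoc, h5, mul_one]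
      calc n * (b * a) = (n * (e * e')) * (e' * e) * (b * a) := by rw [← this]
        _ = (n * (e * e')) * e' * (e * (b * a)) := by group
        _ = (n * (e * e')) * (e' * (b * a)) * e := by rw [we]; group
        _ = ((n * (e * e')) * (b * a)) * e' * e := by rw [we']; group
        _ = (b * a) * ((n * (e * e')) * (e' * e)) := by rw [k]; group
        _ = _ := by rw [← this]
  · rw [← mul_assoc, bb, one_mul]

end

/-- **the relation `(a b)² = z r`**: `y, t` generate a `D8`, `T1`, `T2` the two elements of order three,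
`c` conjugates `y` to `r`. -/
theorem ab_sq {Q : Subgroup G} {z y t r f g c : G}
    (hz : z * z = 1) (hzQ : ∀ q ∈ Q, q * z = z * q)
    (hQ : ∀ a ∈ Q, ∀ b ∈ Q, a * b = b * a ∨ a * b = z * (b * a))
    (yQ : y ∈ Q) (hy : y * y = 1) (tQ : t ∈ Q) (ht : t * t = 1) (hyt : y * t = z * (t * y))
    (T1 : Tri Q z y t f) (T2 : Tri Q z t y g)
    (rQ : r ∈ Q) (hr : r * r = 1) (hry : r * y = y * r) (hrt : r * t = t * r)
    (hc : c * z = z * c) (hcQ : ∀ q, q ∈ Q ↔ c * q * c⁻¹ ∈ Q) (hcy : c * y * c⁻¹ = r)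
    (hcen : ∀ v : G, v * z = z * v → (∀ n ∈ Q, n * r = r * n → n * v = v * n) →
      v = 1 ∨ v = z ∨ v = r ∨ v = z * r) :
    (f * r * f⁻¹ * (g * r * g⁻¹)) * (f * r * f⁻¹ * (g * r * g⁻¹)) = z * r := by
  have T' := T1.conj c hc hcQ
  rw [hcy] at T'
  have hty : t * y = z * (y * t) := by rw [hyt, ← mul_assoc z z, hz, one_mul]
  obtain ⟨w1, hw1, e1⟩ := combine hz hzQ hQ T1 T' yQ hy tQ ht hyt rQ hr hry.symm hrt.symm hcen
  obtain ⟨w2, hw2, e2⟩ := combine hz hzQ hQ T2 T' tQ ht yQ hy hty rQ hr hrt.symm hry.symm hcen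
  obtain ⟨b1, b1z, b1r, -⟩ := bpart hz hzQ T' rQ hr yQ hy hry.symm
  obtain ⟨b2, b2z, b2r, -⟩ := bpart hz hzQ T' rQ hr tQ ht hrt.symm
  set F := c * f * c⁻¹ with hF
  have hzr : r * z = z * r := hzQ r rQ
  have hcomm : ∀ b w : G, b * z = z * b → b * r = r * b → (w = 1 ∨ w = z ∨ w = r ∨ w = z * r) →
      b * w = w * b := by
    intro b w h1 h2 hw
    rcases hw with rfl | rfl | rfl | rfl
    · rw [mul_one, one_mul]
    · exact h1
    · exact h2
    · rw [← mul_assoc, h1, mul_assoc, h2, ← mul_assoc]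
  have hwz : ∀ w : G, (w = 1 ∨ w = z ∨ w = r ∨ w = z * r) → w * z = z * w ∧ w * r = r * w ∧
      w * w = 1 := by
    intro w hw
    rcases hw with rfl | rfl | rfl | rfl
    · simp
    · exact ⟨rfl, hzr.symm, hz⟩
    · exact ⟨hzr, rfl, hr⟩
    · refine ⟨by rw [mul_assoc, hzr], by
        calc z * r * r = z * (r * r) := by group
          _ = (r * r) * z := by rw [hr, mul_one, one_mul]
          _ = r * (z * r) := by rw [← hzr]; group, ?_⟩
      calc z * r * (z * r) = z * (r * z) * r := by group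
        _ = (z * z) * (r * r) := by rw [hzr]; group
        _ = 1 := by rw [hz, hr, one_mul]
  set B1 := F⁻¹ * y * F with hB1
  set B2 := F⁻¹ * t * F with hB2
  have k12 := hcomm B2 w1 b2z b2r hw1
  have k11 := hcomm B1 w1 b1z b1r hw1
  have k22 := hcomm B2 w2 b2z b2r hw2
  have k21 := hcomm B1 w2 b1z b1r hw2
  have kw := hcomm w1 w2 (hwz w1 hw1).1 (hwz w1 hw1).2.1 hw2
  have q1 := (hwz w1 hw1).2.2
  have q2 := (hwz w2 hw2).2.2
  have hFz : F⁻¹ * z * F = z * r := by
    have g1 : F * z * F⁻¹ = r := T'.gz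
    have g2 : F * r * F⁻¹ = z * r := T'.ge
    have : F * (z * r) * F⁻¹ = z := by
      calc F * (z * r) * F⁻¹ = (F * z * F⁻¹) * (F * r * F⁻¹) := by group
        _ = r * (z * r) := by rw [g1, g2]
        _ = z * (r * r) := by rw [← mul_assoc, hzr]; group
        _ = z := by rw [hr, mul_one]
    calc F⁻¹ * z * F = F⁻¹ * (F * (z * r) * F⁻¹) * F := by rw [this]
      _ = z * r := by group
  rw [e1, e2]
  calc B1 * w1 * (B2 * w2) * (B1 * w1 * (B2 * w2))
      = B1 * (w1 * B2) * w2 * B1 * (w1 * B2) * w2 := by group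
    _ = B1 * (B2 * w1) * w2 * B1 * (B2 * w1) * w2 := by rw [k12]
    _ = B1 * B2 * w1 * (w2 * B1) * B2 * w1 * w2 := by group
    _ = B1 * B2 * (w1 * B1) * w2 * B2 * w1 * w2 := by rw [← k21]; group
    _ = B1 * B2 * B1 * w1 * (w2 * B2) * w1 * w2 := by rw [← k11]; group
    _ = B1 * B2 * B1 * (w1 * B2) * w2 * w1 * w2 := by rw [← k22]; group
    _ = B1 * B2 * B1 * B2 * w1 * w2 * (w1 * w2) := by rw [← k12]; group
    _ = B1 * B2 * B1 * B2 * w1 * (w2 * w2) * w1 := by rw [kw]; group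
    _ = B1 * B2 * B1 * B2 * (w1 * w1) := by rw [q2]; group
    _ = B1 * B2 * B1 * B2 := by rw [q1, mul_one]
    _ = F⁻¹ * (y * t * (y * t)) * F := by rw [hB1, hB2]; group
    _ = F⁻¹ * (z * (t * y) * (y * t)) * F := by nth_rewrite 1 [hyt]; rfl
    _ = F⁻¹ * (z * (t * (y * y) * t)) * F := by group
    _ = F⁻¹ * z * F := by rw [hy, mul_one, ht, mul_one]
    _ = z * r := hFz

end Cfsg.Agent.SuzType.RR
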