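import Mathlib
import Cfsg.Agent.SuzType.CanonG

/-!
# The element swapping the two four-groups, no reflections, `C_C(L)` (node N4)
-/

set_option autoImplicit false

namespace Cfsg.Agent.SuzType.Swap

open Cfsg.Agent.J2Type.Model
open Cfsg.Agent.ClassificationK.LargeSymplectic
open Cfsg.Agent.SuzType.CanonG Cfsg.Agent.SuzType.CanonG.Pre

variable {G : Type*} [Group G]

/-- The hypotheses of node N4: node N3 plus the transitivity of `C(z)` on hyperbolic pairs and the
order of the stabiliser. -/
structure PreT (Q : Subgroup G) (z y t : G) (L : Subgroup G) : Prop extends Pre Q z y t L where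
  pairs : ∀ y₁ w₁ y₂ w₂ : G, y₁ ∈ Q → w₁ ∈ Q → y₂ ∈ Q → w₂ ∈ Q → y₁ * y₁ = 1 → w₁ * w₁ = 1 →
    y₂ * y₂ = 1 → w₂ * w₂ = 1 → y₁ * w₁ = z * (w₁ * y₁) → y₂ * w₂ = z * (w₂ * y₂) →
    ∃ c, c * z = z * c ∧ c * y₁ * c⁻¹ = y₂ ∧ c * w₁ * c⁻¹ = w₂
  cardC : Nat.card (Subgroup.centralizer ({y, t} : Set G)) = 1920

theorem mem_cent_pair {y t x : G} : x ∈ Subgroup.centralizer ({y, t} : Set G) ↔
    x * y = y * x ∧ x * t = t * x := by
  rw [Subgroup.mem_centralizer_iff]
  constructor
  · intro h
    exact ⟨(h y (by simp)).symm, (h t (by simp)).symm⟩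
  · rintro ⟨h2, h3⟩ w hw
    rcases hw with rfl | hw
    · exact h2.symm
    · rw [Set.mem_singleton_iff] at hw
      subst hw
      exact h3.symm

namespace PreT

variable [Finite G] {Q L : Subgroup G} {z y t : G} (H : PreT Q z y t L)
include H

theorem cent_eq : Subgroup.centralizer ({y, t} : Set G) = H.toPre.CC := by
  symm
  apply Subgroup.eq_of_le_of_card_ge
  · intro x hx
    obtain ⟨n, hn, l, hl, rfl⟩ := (mem_CC H.toPre).1 hx
    obtain ⟨-, h2, h3⟩ := mem_K0.1 hn
    rw [mem_cent_pair]
    have a1 : Commute n y := h2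
    have a2 : Commute n t := h3
    have b1 : Commute l y := H.Ly l hl
    have b2 : Commute l t := H.Lt l hl
    exact ⟨a1.mul_left b1, a2.mul_left b2⟩
  · rw [H.cardC]
    have h1 := H.toPre.isComplement.card_mul_card
    have hcard : Nat.card ((K0 Q y t).subgroupOf H.toPre.CC) = 32 := by
      rw [← H.toPre.card_K0]
      exact Nat.card_congr (Subgroup.subgroupOfEquivOfLe H.toPre.K0_le).toEquiv
    have hcardL : Nat.card (L.subgroupOf H.toPre.CC) = 60 := by
      rw [← H.cardL]
      exact Nat.card_congr (Subgroup.subgroupOfEquivOfLe H.toPre.L_le).toEquiv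
    rw [hcard, hcardL] at h1
    omega

/-- Every element centralising `y` and `t` is `k l`. -/
theorem exists_mul {x : G} (h1 : x * y = y * x) (h2 : x * t = t * x) :
    ∃ n ∈ K0 Q y t, ∃ l ∈ L, x = n * l := by
  have : x ∈ H.toPre.CC := by rw [← H.cent_eq]; exact mem_cent_pair.2 ⟨h1, h2⟩
  exact this

/-- All complements of `K0` in `K0 L` are conjugate. -/
theorem conj_compl (L' : Subgroup G) (hL' : Nat.card L' = 60) (hy : ∀ x ∈ L', x * y = y * x)
    (ht : ∀ x ∈ L', x * t = t * x) (hQ : ∀ x ∈ L', x ∈ Q → x = 1) :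
    ∃ k ∈ K0 Q y t, ∀ x, x ∈ L' ↔ k⁻¹ * x * k ∈ L := by
  have hnorm := K0_normal H.toPre
  have hcard : Nat.card ((K0 Q y t).subgroupOf H.toPre.CC) = 32 := by
    rw [← H.toPre.card_K0]
    exact Nat.card_congr (Subgroup.subgroupOfEquivOfLe H.toPre.K0_le).toEquiv
  have hcardL : Nat.card (L.subgroupOf H.toPre.CC) = 60 := by
    rw [← H.cardL]
    exact Nat.card_congr (Subgroup.subgroupOfEquivOfLe H.toPre.L_le).toEquiv
  have hle : L' ≤ H.toPre.CC := by
    intro x hx
    rw [← H.cent_eq]
    exact mem_cent_pair.2 ⟨hy x hx, ht x hx⟩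
  have hcardL' : Nat.card (L'.subgroupOf H.toPre.CC) = 60 := by
    rw [← hL']
    exact Nat.card_congr (Subgroup.subgroupOfEquivOfLe hle).toEquiv
  have h60 : Nat.card (H.toPre.CC ⧸ (K0 Q y t).subgroupOf H.toPre.CC) = 60 := by
    have h1 := H.toPre.isComplement.card_mul_card
    have h2 := Subgroup.card_eq_card_quotient_mul_card_subgroup ((K0 Q y t).subgroupOf H.toPre.CC)
    rw [hcard] at h1 h2
    rw [hcardL] at h1
    omega
  obtain ⟨v, ρ, M⟩ := Canon.exists_model_of_hyp H.toPre.hyp hcard h60
  obtain ⟨q, hq, h⟩ := Canon.conj_compl M (L.subgroupOf H.toPre.CC) (L'.subgroupOf H.toPre.CC) hcardL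
    (fun x hx hx' => Subtype.ext (H.LQ _ hx (mem_K0.1 hx').1)) hcardL'
    (fun x hx hx' => Subtype.ext (hQ _ hx (mem_K0.1 hx').1))
  refine ⟨q, hq, ?_⟩
  intro x
  constructor
  · intro hx
    exact (h ⟨x, hle hx⟩).1 hx
  · intro hx
    have hxC : x ∈ H.toPre.CC := by
      have h1 : (q : G) * ((q : G)⁻¹ * x * q) * (q : G)⁻¹ ∈ H.toPre.CC :=
        mul_mem (mul_mem q.2 (H.toPre.L_le hx)) (inv_mem q.2)
      have h2 : (q : G) * ((q : G)⁻¹ * x * q) * (q : G)⁻¹ = x := by group
      rwa [h2] at h1
    exact (h ⟨x, hxC⟩).2 hx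

/-- **The swapping element.** -/
theorem exists_swap : ∃ g, g * z = z * g ∧ g * y * g⁻¹ = t ∧ g * t * g⁻¹ = y ∧
    ∀ x, x ∈ L ↔ g * x * g⁻¹ ∈ L := by
  obtain ⟨c, hcz, hcy, hct⟩ := H.pairs y t t y H.yQ H.tQ H.tQ H.yQ H.y2 H.t2 H.t2 H.y2 H.yt H.toPre.ty
  have hcy' : c⁻¹ * t * c = y := by rw [← hcy]; group
  have hct' : c⁻¹ * y * c = t := by rw [← hct]; group
  have hcz' : c⁻¹ * z = z * c⁻¹ := by
    have : Commute c z := hcz
    exact this.inv_left
  let L' : Subgroup G := L.map (MulAut.conj c).toMonoidHom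
  have mL' : ∀ x, x ∈ L' ↔ c⁻¹ * x * c ∈ L := by
    intro x
    constructor
    · rintro ⟨l, hl, rfl⟩
      have : c⁻¹ * ((MulAut.conj c).toMonoidHom l) * c = l := by
        show c⁻¹ * (c * l * c⁻¹) * c = l
        group
      rw [this]; exact hl
    · intro hx
      refine ⟨_, hx, ?_⟩
      show c * (c⁻¹ * x * c) * c⁻¹ = x
      group
  have hconj : ∀ x w w' : G, c⁻¹ * w * c = w' → (c⁻¹ * x * c) * w' = w' * (c⁻¹ * x * c) →
      x * w = w * x := by
    intro x w w' h1 h2
    rw [← h1] at h2
    have h3 : c⁻¹ * x * c * (c⁻¹ * w * c) = c⁻¹ * (x * w) * c := by group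
    have h4 : c⁻¹ * w * c * (c⁻¹ * x * c) = c⁻¹ * (w * x) * c := by group
    rw [h3, h4] at h2
    exact mul_left_cancel (mul_right_cancel h2)
  obtain ⟨k, hk, hkL⟩ := H.conj_compl L'
    (by
      rw [← H.cardL]
      exact Nat.card_congr (L.equivMapOfInjective _ (MulAut.conj c).injective).toEquiv.symm)
    (fun x hx => hconj x y t hct' (H.Lt _ ((mL' x).1 hx)))
    (fun x hx => hconj x t y hcy' (H.Ly _ ((mL' x).1 hx)))
    (fun x hx hxQ => by
      have h1 : c⁻¹ * x * c ∈ Q := by
        have := H.D.norm c⁻¹ hcz' x hxQ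
        simpa using this
      have h2 := H.LQ _ ((mL' x).1 hx) h1
      have h3 : x = c * (c⁻¹ * x * c) * c⁻¹ := by group
      rw [h3, h2]; group)
  obtain ⟨hkQ, hky, hkt⟩ := mem_K0.1 hk
  have aky : Commute k y := hky
  have akt : Commute k t := hkt
  have akz : Commute k z := H.D.com k hkQ
  have acz : Commute c z := hcz
  refine ⟨k⁻¹ * c, akz.inv_left.mul_left acz, ?_, ?_, ?_⟩
  · have h1 : k⁻¹ * c * y * (k⁻¹ * c)⁻¹ = k⁻¹ * (c * y * c⁻¹) * k := by group
    rw [h1, hcy, akt.inv_left.eq]; group
  · have h1 : k⁻¹ * c * t * (k⁻¹ * c)⁻¹ = k⁻¹ * (c * t * c⁻¹) * k := by group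
    rw [h1, hct, aky.inv_left.eq]; group
  · intro x
    have h1 := hkL (c * x * c⁻¹)
    have h2 := mL' (c * x * c⁻¹)
    have h3 : c⁻¹ * (c * x * c⁻¹) * c = x := by group
    have h4 : k⁻¹ * (c * x * c⁻¹) * k = k⁻¹ * c * x * (k⁻¹ * c)⁻¹ := by group
    rw [h3] at h2
    rw [h4] at h1
    rw [← h2, h1]

omit [Finite G] in
/-- conjugation by `t` and `y` -/
theorem conj_ty : t * y * t⁻¹ = z * y := by rw [H.toPre.ty]; group
omit [Finite G] in
theorem conj_yt : y * t * y⁻¹ = z * t := by rw [H.yt]; group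

omit [Finite G] in
/-- Adjustment by `⟨y, t⟩`. -/
theorem adjust {c : G} (h1 : c * y * c⁻¹ = y ∨ c * y * c⁻¹ = z * y)
    (h2 : c * t * c⁻¹ = t ∨ c * t * c⁻¹ = z * t) :
    ∃ e, (e = 1 ∨ e = y ∨ e = t ∨ e = y * t) ∧ (e * c) * y = y * (e * c) ∧
      (e * c) * t = t * (e * c) := by
  have key : ∀ (e w : G), e * (c * w * c⁻¹) * e⁻¹ = w → (e * c) * w = w * (e * c) := by
    intro e w h
    have : e * (c * w * c⁻¹) * e⁻¹ = (e * c) * w * (e * c)⁻¹ := by group
    rw [this, mul_inv_eq_iff_eq_mul] at h
    exact h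
  have zyc : Commute z y := H.toPre.zy
  have ztc : Commute z t := H.toPre.zt
  have czz : z * z = 1 := H.toPre.zz
  have yy : y * y * y⁻¹ = y := by group
  have tt : t * t * t⁻¹ = t := by group
  have yz : y * z * y⁻¹ = z := by rw [← H.toPre.zy]; group
  have tz : t * z * t⁻¹ = z := by rw [← H.toPre.zt]; group
  have mz : ∀ (e a b : G), e * (a * b) * e⁻¹ = (e * a * e⁻¹) * (e * b * e⁻¹) := by
    intro e a b; group
  rcases h1 with h1 | h1 <;> rcases h2 with h2 | h2
  · refine ⟨1, Or.inl rfl, key _ _ ?_, key _ _ ?_⟩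
    · rw [h1]; group
    · rw [h2]; group
  · refine ⟨y, Or.inr (Or.inl rfl), key _ _ ?_, key _ _ ?_⟩
    · rw [h1]; exact yy
    · rw [h2, mz, yz, H.conj_yt, ← mul_assoc, czz, one_mul]
  · refine ⟨t, Or.inr (Or.inr (Or.inl rfl)), key _ _ ?_, key _ _ ?_⟩
    · rw [h1, mz, tz, H.conj_ty, ← mul_assoc, czz, one_mul]
    · rw [h2]; exact tt
  · refine ⟨y * t, Or.inr (Or.inr (Or.inr rfl)), key _ _ ?_, key _ _ ?_⟩
    · rw [h1]
      have : y * t * (z * y) * (y * t)⁻¹ = y * (t * (z * y) * t⁻¹) * y⁻¹ := by group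
      have h3 : t * (z * y) * t⁻¹ = y := by rw [mz t, tz, H.conj_ty, ← mul_assoc, czz, one_mul]
      rw [this, h3, yy]
    · rw [h2]
      have : y * t * (z * t) * (y * t)⁻¹ = y * (t * (z * t) * t⁻¹) * y⁻¹ := by group
      rw [this, mz t, tz, tt, mz y, yz, H.conj_yt, ← mul_assoc, czz, one_mul]

section Canonical

variable {c : Fin 5 → G} {κ : alternatingGroup (Fin 5) →* G} (K : Canon Q z y t L c κ)
include K

omit [Finite G] H in
theorem zc (D : Data Q z) (i : Fin 5) : z * c i = c i * z := (D.com _ (K.c_mem i)).symm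

omit [Finite G] in
theorem c_ne (i : Fin 5) : c i ≠ 1 ∧ c i ≠ z := by
  have hz := H.z_ne
  have h2 : ∃ j, i ≠ j := ⟨i + 1, by revert i; decide⟩
  obtain ⟨j, hj⟩ := h2
  have h3 := K.c_anti i j hj
  constructor
  · intro h
    rw [h, one_mul, mul_one] at h3
    exact hz (mul_eq_right.1 h3.symm)
  · intro h
    rw [h] at h3
    have h4 : z * c j = c j * z := zc K H.D j
    rw [← h4, ← mul_assoc, H.toPre.zz, one_mul] at h3
    exact hz (mul_eq_right.1 h3)

omit [Finite G] in
/-- An element commuting with `y`, `t` and all `c i` is central in `Q`. -/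
theorem eq_of_comm_c (x : G) (h1 : x * y = y * x) (h2 : x * t = t * x) (h3 : ∀ i, x * c i = c i * x) :
    x = 1 ∨ x = z := by
  apply H.toPre.cent_Q x _ h1 h2
  have hz : Commute x z := by
    have e1 : z = y * t * y⁻¹ * t⁻¹ := by rw [H.yt]; group
    have c1 : Commute x y := h1
    have c2 : Commute x t := h2
    rw [e1]
    exact (((c1.mul_right c2).mul_right c1.inv_right).mul_right c2.inv_right)
  have hzp : ∀ a, Commute x (zp z a) := by
    intro a
    rcases zmod2_cases a with rfl | rfl
    · rw [zp_zero]; exact Commute.one_right x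
    · rw [zp_one]; exact hz
  have h4 : ∀ i, Commute x (c i) := h3
  intro k hk
  obtain ⟨hkQ, hky, hkt⟩ := mem_K0.1 hk
  rcases K.cover k hkQ hky hkt with ⟨a, rfl⟩ | ⟨a, i, rfl⟩ | ⟨a, i, j, -, rfl⟩
  · exact hzp a
  · exact (hzp a).mul_right (h4 i)
  · exact (hzp a).mul_right ((h4 i).mul_right (h4 j))

omit H K [Finite G] [Group G] in
theorem perm_facts : ∀ σ : Equiv.Perm (Fin 5), Equiv.Perm.sign σ = 1 → σ 0 = 1 → σ 1 = 0 →
    σ 2 = 2 → σ 3 = 3 → False := by decide +kernel

/-- Conjugates of `c i` by elements centralising `y` and `t`. -/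
theorem exists_even (x : G) (h1 : x * y = y * x) (h2 : x * t = t * x) :
    ∃ σ : alternatingGroup (Fin 5), ∀ i, x * c i * x⁻¹ = c ((σ : Equiv.Perm (Fin 5)) i) ∨
      x * c i * x⁻¹ = z * c ((σ : Equiv.Perm (Fin 5)) i) := by
  obtain ⟨n, hn, l, hl, rfl⟩ := H.exists_mul h1 h2
  rw [← K.κ_range] at hl
  obtain ⟨σ, rfl⟩ := hl
  refine ⟨σ, ?_⟩
  intro i
  have h3 : n * κ σ * c i * (n * κ σ)⁻¹ = n * (κ σ * c i * (κ σ)⁻¹) * n⁻¹ := by group
  rw [h3, K.κ_conj]
  exact H.D.comm n (mem_K0.1 hn).1 _ (K.c_mem _)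

omit [Finite G] H in
theorem cls_eq {u : G} {i j : Fin 5} (h1 : u = c i ∨ u = z * c i) (h2 : u = c j ∨ u = z * c j) :
    i = j := by
  have e : ∀ i, u = c i ∨ u = z * c i → ∃ a, u = zp z a * c i := by
    intro i h
    rcases h with h | h
    · exact ⟨0, by rw [zp_zero, one_mul]; exact h⟩
    · exact ⟨1, by rw [zp_one]; exact h⟩
  obtain ⟨a, ha⟩ := e i h1
  obtain ⟨b, hb⟩ := e j h2
  exact (K.c_inj a b i j (ha.symm.trans hb)).2

omit [Finite G] in
theorem c_comm_mul (i j k : Fin 5) (h1 : k ≠ i) (h2 : k ≠ j) :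
    c k * (c i * c j) = (c i * c j) * c k := by
  have a1 := K.c_anti k i h1
  have a2 := K.c_anti k j h2
  have hz : z * c i = c i * z := zc K H.D i
  calc c k * (c i * c j) = (c k * c i) * c j := by group
    _ = z * c i * (c k * c j) := by rw [a1]; group
    _ = (z * c i * z) * (c j * c k) := by rw [a2]; group
    _ = (z * z) * c i * (c j * c k) := by rw [mul_assoc z (c i) z, ← hz]; group
    _ = _ := by rw [H.toPre.zz]; group

omit [Finite G] H in
theorem c_mul_self (i j : Fin 5) : c i * (c i * c j) = c j := by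
  rw [← mul_assoc, K.c_sq, one_mul]

omit [Finite G] in
theorem c_mul_sq (i j : Fin 5) (h : i ≠ j) : (c i * c j) * (c i * c j) = z := by
  have hz : z * c i = c i * z := zc K H.D i
  calc c i * c j * (c i * c j) = c i * (c j * c i) * c j := by group
    _ = c i * (z * (c i * c j)) * c j := by rw [K.c_anti j i h.symm]
    _ = (c i * z) * c i * (c j * c j) := by group
    _ = z * (c i * c i) * (c j * c j) := by rw [← hz]; group
    _ = z := by rw [K.c_sq, K.c_sq, mul_one, mul_one]

omit [Finite G] K in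
/-- conjugation by an element centralising `z` preserves `Q` -/
theorem conj_mem {d : G} (hd : d * z = z * d) {x : G} (hx : x ∈ Q) : d * x * d⁻¹ ∈ Q :=
  H.D.norm d hd x hx

/-- **No reflections** (`K` is only used to name a nonsingular vector). -/
theorem no_reflection (a : G) (ha : a ∈ Q) (haa : a * a = z) (g : G) (hg : g * z = z * g)
    (h1 : ∀ x ∈ Q, x * a = a * x → g * x * g⁻¹ = x ∨ g * x * g⁻¹ = z * x)
    (h2 : ∀ x ∈ Q, ¬ (x * a = a * x) → g * x * g⁻¹ = x * a ∨ g * x * g⁻¹ = z * (x * a)) :
    False := by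
  have hzz := H.toPre.zz
  -- an involution not commuting with `a`
  obtain ⟨w, hwQ, hw2, hwa⟩ : ∃ w ∈ Q, w * w = 1 ∧ ¬ (a * w = w * a) := by
    by_contra hcon
    push Not at hcon
    have e1 := hcon y H.yQ H.y2
    have e2 := hcon t H.tQ H.t2
    have e3 := fun i => hcon (c i) (K.c_mem i) (K.c_sq i)
    rcases H.eq_of_comm_c K a e1 e2 e3 with h | h
    · rw [h, one_mul] at haa; exact H.z_ne haa.symm
    · rw [h, hzz] at haa; exact H.z_ne haa.symm
  have hwa' : w * a = z * (a * w) := by
    rw [← H.toPre.anti_iff w hwQ a ha]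
    intro h; exact hwa h.symm
  have hza : z * a = a * z := (H.D.com a ha).symm
  have hw2' : (w * a) * (w * a) = 1 := by
    calc (w * a) * (w * a) = z * (a * w) * (w * a) := by rw [← hwa']
      _ = z * a * (w * w) * a := by group
      _ = z * (a * a) := by rw [hw2]; group
      _ = 1 := by rw [haa, hzz]
  have hww : w * (w * a) = z * ((w * a) * w) := by
    calc w * (w * a) = (w * w) * a := by group
      _ = a := by rw [hw2, one_mul]
      _ = (z * z) * a * (w * w) := by rw [hzz, hw2, one_mul, mul_one]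
      _ = z * (z * (a * w) * w) := by group
      _ = _ := by rw [← hwa']
  obtain ⟨d, hdz, hd1, hd2⟩ := H.pairs w (w * a) (c 0) (c 1) hwQ (mul_mem hwQ ha) (K.c_mem 0)
    (K.c_mem 1) hw2 hw2' (K.c_sq 0) (K.c_sq 1) hww (K.c_anti 0 1 (by decide))
  have hdz' : d⁻¹ * z = z * d⁻¹ := by
    have : Commute d z := hdz
    exact this.inv_left
  have hda : d * a * d⁻¹ = c 0 * c 1 := by
    have e1 : w * (w * a) = a := by rw [← mul_assoc, hw2, one_mul]
    calc d * a * d⁻¹ = d * (w * (w * a)) * d⁻¹ := by rw [e1]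
      _ = (d * w * d⁻¹) * (d * (w * a) * d⁻¹) := by group
      _ = _ := by rw [hd1, hd2]
  -- transport
  have hgz' : Commute (d * g * d⁻¹) z := by
    have b1 : Commute d z := hdz
    have b2 : Commute g z := hg
    exact (b1.mul_left b2).mul_left b1.inv_left
  have h0 : ∀ x, d * (d⁻¹ * x * d) * d⁻¹ = x := by intro x; group
  have hcomm : ∀ x, (x * (c 0 * c 1) = (c 0 * c 1) * x ↔ (d⁻¹ * x * d) * a = a * (d⁻¹ * x * d)) := by
    intro x
    rw [← hda]
    constructor
    · intro h
      apply mul_left_cancel (a := d)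
      apply mul_right_cancel (b := d⁻¹)
      calc d * (d⁻¹ * x * d * a) * d⁻¹ = x * (d * a * d⁻¹) := by group
        _ = _ := by rw [h]; group
    · intro h
      calc x * (d * a * d⁻¹) = d * (d⁻¹ * x * d * a) * d⁻¹ := by group
        _ = _ := by rw [h]; group
  have h1' : ∀ x ∈ Q, x * (c 0 * c 1) = (c 0 * c 1) * x →
      (d * g * d⁻¹) * x * (d * g * d⁻¹)⁻¹ = x ∨ (d * g * d⁻¹) * x * (d * g * d⁻¹)⁻¹ = z * x := by
    intro x hx hxa
    have hx' : d⁻¹ * x * d ∈ Q := by
      have := H.conj_mem hdz' hx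
      simpa using this
    have e1 : (d * g * d⁻¹) * x * (d * g * d⁻¹)⁻¹ = d * (g * (d⁻¹ * x * d) * g⁻¹) * d⁻¹ := by group
    rcases h1 _ hx' ((hcomm x).1 hxa) with h | h
    · left; rw [e1, h, h0]
    · right
      rw [e1, h]
      calc d * (z * (d⁻¹ * x * d)) * d⁻¹ = (d * z) * (d⁻¹ * x * d) * d⁻¹ := by group
        _ = z * (d * (d⁻¹ * x * d) * d⁻¹) := by rw [hdz]; group
        _ = _ := by rw [h0]
  have h2' : ∀ x ∈ Q, ¬ (x * (c 0 * c 1) = (c 0 * c 1) * x) →
      (d * g * d⁻¹) * x * (d * g * d⁻¹)⁻¹ = x * (c 0 * c 1) ∨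
      (d * g * d⁻¹) * x * (d * g * d⁻¹)⁻¹ = z * (x * (c 0 * c 1)) := by
    intro x hx hxa
    have hx' : d⁻¹ * x * d ∈ Q := by
      have := H.conj_mem hdz' hx
      simpa using this
    have e1 : (d * g * d⁻¹) * x * (d * g * d⁻¹)⁻¹ = d * (g * (d⁻¹ * x * d) * g⁻¹) * d⁻¹ := by group
    rcases h2 _ hx' (fun h => hxa ((hcomm x).2 h)) with h | h
    · left
      rw [e1, h, ← hda]; group
    · right
      rw [e1, h, ← hda]
      calc d * (z * (d⁻¹ * x * d * a)) * d⁻¹ = (d * z) * (d⁻¹ * x * d * a) * d⁻¹ := by group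
        _ = _ := by rw [hdz]; group
  -- adjust
  set g' := d * g * d⁻¹ with hg'
  have cyc : ∀ i j, (c i * c j) * y = y * (c i * c j) := by
    intro i j
    have b1 : Commute (c i) y := K.c_y i
    have b2 : Commute (c j) y := K.c_y j
    exact b1.mul_left b2
  have ctc : ∀ i j, (c i * c j) * t = t * (c i * c j) := by
    intro i j
    have b1 : Commute (c i) t := K.c_t i
    have b2 : Commute (c j) t := K.c_t j
    exact b1.mul_left b2
  obtain ⟨e, he, hey, het⟩ := H.adjust (h1' y H.yQ (cyc 0 1).symm) (h1' t H.tQ (ctc 0 1).symm)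
  have hec : ∀ i, Commute e (c i) := by
    intro i
    have b1 : Commute y (c i) := (K.c_y i).symm
    have b2 : Commute t (c i) := (K.c_t i).symm
    rcases he with rfl | rfl | rfl | rfl
    · exact Commute.one_left _
    · exact b1
    · exact b2
    · exact b1.mul_left b2
  have hez : Commute e z := by
    have b1 : Commute y z := H.toPre.zy.symm
    have b2 : Commute t z := H.toPre.zt.symm
    rcases he with rfl | rfl | rfl | rfl
    · exact Commute.one_left _
    · exact b1
    · exact b2
    · exact b1.mul_left b2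
  obtain ⟨σ, hσ⟩ := H.exists_even K (e * g') hey het
  have hact : ∀ i j, (g' * c i * g'⁻¹ = c j ∨ g' * c i * g'⁻¹ = z * c j) →
      (σ : Equiv.Perm (Fin 5)) i = j := by
    intro i j hij
    apply cls_eq K (hσ i)
    have e1 : (e * g') * c i * (e * g')⁻¹ = e * (g' * c i * g'⁻¹) * e⁻¹ := by group
    rw [e1]
    rcases hij with h | h
    · left; rw [h, (hec j).eq]; group
    · right; rw [h, (hez.mul_right (hec j)).eq]; group
  have hfix : ∀ k : Fin 5, k ≠ 0 → k ≠ 1 → (σ : Equiv.Perm (Fin 5)) k = k := by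
    intro k k0 k1
    exact hact k k (h1' _ (K.c_mem k) (H.c_comm_mul K 0 1 k k0 k1))
  have h01 : (σ : Equiv.Perm (Fin 5)) 0 = 1 := by
    apply hact
    have e1 := c_mul_self K 0 1
    rcases h2' (c 0) (K.c_mem 0) (by
      intro h
      rw [e1] at h
      have e2 : c 0 * c 1 * c 0 = z * c 1 := by
        rw [K.c_anti 0 1 (by decide)]
        calc z * (c 1 * c 0) * c 0 = z * c 1 * (c 0 * c 0) := by group
          _ = _ := by rw [K.c_sq, mul_one]
      rw [e2] at h
      exact H.z_ne (mul_eq_right.1 h.symm)) with h | h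
    · left; rw [h, e1]
    · right; rw [h, e1]
  have h10 : (σ : Equiv.Perm (Fin 5)) 1 = 0 := by
    apply hact
    have e0 : c 1 * (c 0 * c 1) = z * c 0 := by
      calc c 1 * (c 0 * c 1) = (c 1 * c 0) * c 1 := by group
        _ = z * c 0 * (c 1 * c 1) := by rw [K.c_anti 1 0 (by decide)]; group
        _ = z * c 0 := by rw [K.c_sq, mul_one]
    rcases h2' (c 1) (K.c_mem 1) (by
      intro h
      rw [e0] at h
      have e2 : c 0 * c 1 * c 1 = c 0 := by
        rw [mul_assoc, K.c_sq, mul_one]
      rw [e2] at h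
      exact H.z_ne (mul_eq_right.1 h)) with h | h
    · right; rw [h, e0]
    · left; rw [h, e0, ← mul_assoc, hzz, one_mul]
  exact perm_facts σ (Equiv.Perm.mem_alternatingGroup.1 σ.2) h01 h10 (hfix 2 (by decide) (by decide))
    (hfix 3 (by decide) (by decide))

omit [Finite G] H in
/-- elements of `K0` up to sign -/
theorem act_K0 (D : Data Q z) {x : G} (hx : x * z = z * x)
    (h : ∀ i, x * c i * x⁻¹ = c i ∨ x * c i * x⁻¹ = z * c i) (k : G) (hk : k ∈ Q)
    (hky : k * y = y * k) (hkt : k * t = t * k) : x * k * x⁻¹ = k ∨ x * k * x⁻¹ = z * k := by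
  have hxz : Commute x z := hx
  have hzp : ∀ a, x * zp z a * x⁻¹ = zp z a := by
    intro a
    have : Commute x (zp z a) := by
      rcases zmod2_cases a with rfl | rfl
      · rw [zp_zero]; exact Commute.one_right x
      · rw [zp_one]; exact hxz
    rw [this.eq]; group
  have hzz := D.sqz
  have zpz : ∀ a (u : G), z * (zp z a * u) = zp z a * (z * u) := by
    intro a u
    rcases zmod2_cases a with rfl | rfl
    · rw [zp_zero, one_mul, one_mul]
    · rw [zp_one]
  rcases K.cover k hk hky hkt with ⟨a, rfl⟩ | ⟨a, i, rfl⟩ | ⟨a, i, j, hij, rfl⟩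
  · left; exact hzp a
  · have e1 : x * (zp z a * c i) * x⁻¹ = (x * zp z a * x⁻¹) * (x * c i * x⁻¹) := by group
    rw [e1, hzp]
    rcases h i with h1 | h1
    · left; rw [h1]
    · right; rw [h1, zpz]
  · have e1 : x * (zp z a * (c i * c j)) * x⁻¹ =
      (x * zp z a * x⁻¹) * ((x * c i * x⁻¹) * (x * c j * x⁻¹)) := by group
    have hzi : z * c i = c i * z := zc K D i
    rw [e1, hzp]
    rcases h i with h1 | h1 <;> rcases h j with h2 | h2
    · left; rw [h1, h2]
    · right; rw [h1, h2, zpz]
      congr 1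
      rw [← mul_assoc, ← hzi, mul_assoc]
    · right; rw [h1, h2, zpz]
      congr 1
      rw [mul_assoc]
    · left; rw [h1, h2]
      congr 1
      calc z * c i * (z * c j) = z * (c i * z) * c j := by group
        _ = (z * z) * (c i * c j) := by rw [← hzi]; group
        _ = _ := by rw [hzz, one_mul]

omit [Finite G] in
/-- An element of `C(z)` swapping `y` and `t` permutes the classes of the `c i`. -/
theorem exists_perm {g : G} (hgz : g * z = z * g) (hy : g * y * g⁻¹ = t) (ht : g * t * g⁻¹ = y) :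
    ∃ π : Equiv.Perm (Fin 5), ∀ i, g * c i * g⁻¹ = c (π i) ∨ g * c i * g⁻¹ = z * c (π i) := by
  have hex : ∀ i, ∃ j, g * c i * g⁻¹ = c j ∨ g * c i * g⁻¹ = z * c j := by
    intro i
    have m := H.conj_mem hgz (K.c_mem i)
    have a1 : (g * c i * g⁻¹) * y = y * (g * c i * g⁻¹) := by
      rw [← ht]
      calc g * c i * g⁻¹ * (g * t * g⁻¹) = g * (c i * t) * g⁻¹ := by group
        _ = _ := by rw [K.c_t]; group
    have a2 : (g * c i * g⁻¹) * t = t * (g * c i * g⁻¹) := by
      rw [← hy]
      calc g * c i * g⁻¹ * (g * y * g⁻¹) = g * (c i * y) * g⁻¹ := by group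
        _ = _ := by rw [K.c_y]; group
    have hsq : (g * c i * g⁻¹) * (g * c i * g⁻¹) = 1 := by
      calc (g * c i * g⁻¹) * (g * c i * g⁻¹) = g * (c i * c i) * g⁻¹ := by group
        _ = 1 := by rw [K.c_sq]; group
    have hinv : g * z * g⁻¹ = z := by rw [hgz]; group
    rcases K.cover _ m a1 a2 with ⟨a, ha⟩ | ⟨a, j, ha⟩ | ⟨a, j, k, hjk, ha⟩
    · exfalso
      have e1 : c i = g⁻¹ * (g * c i * g⁻¹) * g := by group
      rcases zmod2_cases a with rfl | rfl
      · rw [zp_zero] at ha
        rw [ha] at e1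
        exact (H.c_ne K i).1 (by rw [e1]; group)
      · rw [zp_one] at ha
        rw [ha] at e1
        apply (H.c_ne K i).2
        rw [e1, mul_assoc, ← hgz]; group
    · refine ⟨j, ?_⟩
      rcases zmod2_cases a with rfl | rfl
      · left; rw [ha, zp_zero, one_mul]
      · right; rw [ha, zp_one]
    · exfalso
      have hcz : z * (c j * c k) = (c j * c k) * z := (H.D.com _ (mul_mem (K.c_mem j) (K.c_mem k))).symm
      have e1 : (zp z a * (c j * c k)) * (zp z a * (c j * c k)) = z := by
        rcases zmod2_cases a with rfl | rfl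
        · rw [zp_zero, one_mul]; exact H.c_mul_sq K j k hjk.ne
        · rw [zp_one]
          calc z * (c j * c k) * (z * (c j * c k)) = z * ((c j * c k) * z) * (c j * c k) := by group
            _ = (z * z) * ((c j * c k) * (c j * c k)) := by rw [← hcz]; group
            _ = z := by rw [H.c_mul_sq K j k hjk.ne, H.toPre.zz, one_mul]
      rw [← ha, hsq] at e1
      exact H.z_ne e1.symm
  choose π hπ using hex
  have hinj : Function.Injective π := by
    intro i j hij
    -- both conjugates lie in the same class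
    have e1 := hπ i
    have e2 := hπ j
    rw [hij] at e1
    have hgz' : g⁻¹ * z = z * g⁻¹ := by
      have : Commute g z := hgz
      exact this.inv_left
    have key : ∀ u : G, u = g⁻¹ * (g * u * g⁻¹) * g := by intro u; group
    have zc' : g⁻¹ * (z * (g * c j * g⁻¹)) * g = z * c j := by
      calc g⁻¹ * (z * (g * c j * g⁻¹)) * g = (g⁻¹ * z) * (g * c j) := by group
        _ = z * c j := by rw [hgz']; group
    have same : c i = c j ∨ c i = z * c j := by
      rcases e1 with h1 | h1 <;> rcases e2 with h2 | h2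
      · left; rw [key (c i), h1, ← h2]; group
      · right
        rw [key (c i), h1]
        have : c (π j) = z * (g * c j * g⁻¹) := by rw [h2, ← mul_assoc, H.toPre.zz, one_mul]
        rw [this, zc']
      · right
        rw [key (c i), h1, ← h2, zc']
      · left; rw [key (c i), h1, ← h2]; group
    exact cls_eq K (Or.inl rfl) same
  refine ⟨Equiv.ofBijective π (Finite.injective_iff_bijective.1 hinj), ?_⟩
  intro i
  exact hπ i

/-- ... and the permutation is odd. -/
theorem exists_odd {g : G} (hgz : g * z = z * g) (hy : g * y * g⁻¹ = t) (ht : g * t * g⁻¹ = y) :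
    ∃ π : Equiv.Perm (Fin 5), (∀ i, g * c i * g⁻¹ = c (π i) ∨ g * c i * g⁻¹ = z * c (π i)) ∧
      Equiv.Perm.sign π = -1 := by
  obtain ⟨π, hπ⟩ := H.exists_perm K hgz hy ht
  refine ⟨π, hπ, ?_⟩
  rcases Int.units_eq_one_or (Equiv.Perm.sign π) with hs | hs
  swap
  · exact hs
  exfalso
  let π' : alternatingGroup (Fin 5) := ⟨π, Equiv.Perm.mem_alternatingGroup.2 hs⟩
  have hlL : κ π' ∈ L := by rw [← K.κ_range]; exact ⟨π', rfl⟩
  have hly : Commute (κ π') y := H.Ly _ hlL
  have hlt : Commute (κ π') t := H.Lt _ hlL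
  have hlz : Commute (κ π') z := H.toPre.Lz _ hlL
  set x := (κ π')⁻¹ * g with hxdef
  have cgz : Commute g z := hgz
  have hxz : Commute x z := hlz.inv_left.mul_left cgz
  have hxc : ∀ i, x * c i * x⁻¹ = c i ∨ x * c i * x⁻¹ = z * c i := by
    intro i
    have e1 : x * c i * x⁻¹ = (κ π')⁻¹ * (g * c i * g⁻¹) * κ π' := by rw [hxdef]; group
    have e2 : (κ π')⁻¹ * c (π i) * κ π' = c i := by
      have := K.κ_conj π' i
      rw [← show c ((π' : Equiv.Perm (Fin 5)) i) = c (π i) from rfl, ← this]; group
    rcases hπ i with h | h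
    · left; rw [e1, h, e2]
    · right
      rw [e1, h]
      calc (κ π')⁻¹ * (z * c (π i)) * κ π' = ((κ π')⁻¹ * z) * c (π i) * κ π' := by group
        _ = z * ((κ π')⁻¹ * c (π i) * κ π') := by rw [hlz.inv_left.eq]; group
        _ = _ := by rw [e2]
  have hxy : x * y * x⁻¹ = t := by
    have : x * y * x⁻¹ = (κ π')⁻¹ * (g * y * g⁻¹) * κ π' := by rw [hxdef]; group
    rw [this, hy, hlt.inv_left.eq]; group
  have hxt : x * t * x⁻¹ = y := by
    have : x * t * x⁻¹ = (κ π')⁻¹ * (g * t * g⁻¹) * κ π' := by rw [hxdef]; group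
    rw [this, ht, hly.inv_left.eq]; group
  have hzz := H.toPre.zz
  have zyc : z * y = y * z := H.toPre.zy
  have ztc : z * t = t * z := H.toPre.zt
  have hyy := H.y2
  have htt := H.t2
  have hyt := H.yt
  have hty := H.toPre.ty
  have hsq : (y * t) * (y * t) = z := by
    calc y * t * (y * t) = (y * t) * y * t := by group
      _ = z * t * (y * y) * t := by rw [hyt]; group
      _ = z * (t * t) := by rw [hyy]; group
      _ = z := by rw [htt, mul_one]
  have hconj : ∀ k u : G, x * (k * u) * x⁻¹ = (x * k * x⁻¹) * (x * u * x⁻¹) := by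
    intro k u; group
  have htyz : t * y = z * (y * t) := hty
  -- commutation of y, t, yt with yt
  have n1 : ¬ (y * (y * t) = (y * t) * y) := by
    intro h
    have e1 : y * (y * t) = t := by rw [← mul_assoc, hyy, one_mul]
    have e2 : (y * t) * y = z * t := by
      rw [hyt]
      calc z * (t * y) * y = z * t * (y * y) := by group
        _ = z * t := by rw [hyy, mul_one]
    rw [e1, e2] at h
    exact H.z_ne (mul_eq_right.1 h.symm)
  have n2 : ¬ (t * (y * t) = (y * t) * t) := by
    intro h
    have e1 : t * (y * t) = z * y := by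
      calc t * (y * t) = (t * y) * t := by group
        _ = z * y * (t * t) := by rw [hty]; group
        _ = z * y := by rw [htt, mul_one]
    have e2 : (y * t) * t = y := by rw [mul_assoc, htt, mul_one]
    rw [e1, e2] at h
    exact H.z_ne (mul_eq_right.1 h)
  refine H.no_reflection K (y * t) (mul_mem H.yQ H.tQ) hsq x hxz ?_ ?_
  · intro u hu hcomm
    obtain ⟨k, hk, hku⟩ := H.toPre.decomp u hu
    obtain ⟨hkQ, hky, hkt⟩ := mem_K0.1 hk
    have hkc : Commute k (y * t) := by
      have b1 : Commute k y := hky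
      have b2 : Commute k t := hkt
      exact b1.mul_right b2
    have hk' := act_K0 K H.D hxz hxc k hkQ hky hkt
    rcases hku with rfl | rfl | rfl | rfl
    · exact hk'
    · exfalso
      apply n1
      apply mul_left_cancel (a := k)
      calc k * (y * (y * t)) = k * y * (y * t) := by group
        _ = (y * t) * k * y := by rw [hcomm]; group
        _ = _ := by rw [← hkc.eq]; group
    · exfalso
      apply n2
      apply mul_left_cancel (a := k)
      calc k * (t * (y * t)) = k * t * (y * t) := by group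
        _ = (y * t) * k * t := by rw [hcomm]; group
        _ = _ := by rw [← hkc.eq]; group
    · have e1 : x * (y * t) * x⁻¹ = z * (y * t) := by rw [hconj, hxy, hxt, htyz]
      have hzk : z * k = k * z := (H.D.com k hkQ).symm
      rcases hk' with h | h
      · right; rw [hconj, e1, h, ← mul_assoc, ← hzk, mul_assoc]
      · left
        rw [hconj, e1, h]
        calc z * k * (z * (y * t)) = z * (k * z) * (y * t) := by group
          _ = (z * z) * (k * (y * t)) := by rw [← hzk]; group
          _ = _ := by rw [hzz, one_mul]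
  · intro u hu hcomm
    obtain ⟨k, hk, hku⟩ := H.toPre.decomp u hu
    obtain ⟨hkQ, hky, hkt⟩ := mem_K0.1 hk
    have hkc : Commute k (y * t) := by
      have b1 : Commute k y := hky
      have b2 : Commute k t := hkt
      exact b1.mul_right b2
    have hk' := act_K0 K H.D hxz hxc k hkQ hky hkt
    have hzk : z * k = k * z := (H.D.com k hkQ).symm
    rcases hku with rfl | rfl | rfl | rfl
    · exact absurd hkc.eq hcomm
    · have e2 : k * y * (y * t) = k * t := by
        calc k * y * (y * t) = k * (y * y) * t := by group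
          _ = _ := by rw [hyy, mul_one]
      rw [hconj, hxy, e2]
      rcases hk' with h | h
      · left; rw [h]
      · right; rw [h, mul_assoc]
    · have e2 : k * t * (y * t) = z * (k * y) := by
        calc k * t * (y * t) = k * (t * y) * t := by group
          _ = (k * z) * y * (t * t) := by rw [hty]; group
          _ = _ := by rw [htt, ← hzk]; group
      rw [hconj, hxt, e2]
      rcases hk' with h | h
      · right; rw [h, ← mul_assoc z z, hzz, one_mul]
      · left; rw [h, mul_assoc]
    · exfalso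
      apply hcomm
      have b3 : Commute (k * (y * t)) (y * t) := hkc.mul_left (Commute.refl _)
      exact b3.eq

omit H K [Finite G] [Group G] in
theorem move_facts : ∀ i j : Fin 5, i ≠ j → ∃ σ : Equiv.Perm (Fin 5), Equiv.Perm.sign σ = 1 ∧
    σ i = i ∧ σ j ≠ j := by decide +kernel

omit H K [Finite G] [Group G] in
theorem centre_facts : ∀ σ : Equiv.Perm (Fin 5), σ * finRotate 5 = finRotate 5 * σ →
    σ * (Equiv.swap 1 2 * Equiv.swap 2 3) = (Equiv.swap 1 2 * Equiv.swap 2 3) * σ → σ = 1 := by
  decide +kernel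

omit H K [Finite G] [Group G] in
theorem rot_sign : Equiv.Perm.sign (finRotate 5) = 1 := by decide +kernel

omit [Finite G] in
/-- `C_{K0}(L) = ⟨z⟩`. -/
theorem K0_fix (k : G) (hk : k ∈ K0 Q y t) (h : ∀ l ∈ L, k * l = l * k) : k = 1 ∨ k = z := by
  obtain ⟨hkQ, hky, hkt⟩ := mem_K0.1 hk
  have hκ : ∀ σ : alternatingGroup (Fin 5), κ σ * k * (κ σ)⁻¹ = k := by
    intro σ
    have : κ σ ∈ L := by rw [← K.κ_range]; exact ⟨σ, rfl⟩
    rw [← h _ this]; group
  have hκz : ∀ (σ : alternatingGroup (Fin 5)) (a : ZMod 2), κ σ * zp z a = zp z a * κ σ := by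
    intro σ a
    have hl : κ σ ∈ L := by rw [← K.κ_range]; exact ⟨σ, rfl⟩
    have hz : Commute (κ σ) z := H.toPre.Lz _ hl
    rcases zmod2_cases a with rfl | rfl
    · rw [zp_zero, mul_one, one_mul]
    · rw [zp_one]; exact hz
  rcases K.cover k hkQ hky hkt with ⟨a, rfl⟩ | ⟨a, i, rfl⟩ | ⟨a, i, j, hij, rfl⟩
  · rcases zmod2_cases a with rfl | rfl
    · left; exact zp_zero z
    · right; exact zp_one z
  · exfalso
    obtain ⟨j, hj⟩ : ∃ j, j ≠ i :=
      ⟨i + 1, (by decide : ∀ i : Fin 5, i + 1 ≠ i) i⟩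
    obtain ⟨σ, hσ, -, hσi⟩ := move_facts j i hj
    have h1 := hκ ⟨σ, Equiv.Perm.mem_alternatingGroup.2 hσ⟩
    have h2 : κ ⟨σ, Equiv.Perm.mem_alternatingGroup.2 hσ⟩ * (zp z a * c i) *
        (κ ⟨σ, Equiv.Perm.mem_alternatingGroup.2 hσ⟩)⁻¹ = zp z a * c (σ i) := by
      rw [← mul_assoc, hκz, mul_assoc, mul_assoc, ← mul_assoc (κ _) (c i), K.κ_conj]
    rw [h2] at h1
    exact hσi (K.c_inj a a _ _ h1).2
  · exfalso
    obtain ⟨σ, hσ, hσi, hσj⟩ := move_facts i j hij.ne
    have h1 := hκ ⟨σ, Equiv.Perm.mem_alternatingGroup.2 hσ⟩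
    have h2 : κ ⟨σ, Equiv.Perm.mem_alternatingGroup.2 hσ⟩ * (zp z a * (c i * c j)) *
        (κ ⟨σ, Equiv.Perm.mem_alternatingGroup.2 hσ⟩)⁻¹ = zp z a * (c (σ i) * c (σ j)) := by
      have e1 := K.κ_conj ⟨σ, Equiv.Perm.mem_alternatingGroup.2 hσ⟩ i
      have e2 := K.κ_conj ⟨σ, Equiv.Perm.mem_alternatingGroup.2 hσ⟩ j
      rw [← mul_assoc, hκz]
      rw [show c (σ i) = _ from e1.symm, show c (σ j) = _ from e2.symm]
      group
    rw [h2, hσi] at h1
    have h3 := mul_left_cancel (mul_left_cancel h1)
    exact hσj (K.c_inj 0 0 _ _ (by rw [h3])).2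

omit [Finite G] in
/-- `C_Q(L) = ⟨y, t⟩`. -/
theorem Q_fix (q : G) (hq : q ∈ Q) (h : ∀ l ∈ L, q * l = l * q) :
    ∃ a : ZMod 2, q = zp z a ∨ q = zp z a * y ∨ q = zp z a * t ∨ q = zp z a * (y * t) := by
  obtain ⟨k, hk, hku⟩ := H.toPre.decomp q hq
  have hLk : ∀ e, (∀ l ∈ L, e * l = l * e) → q = k * e → k = 1 ∨ k = z := by
    intro e he hke
    apply H.K0_fix K k hk
    intro l hl
    have h1 : k = q * e⁻¹ := by rw [hke]; group
    have b1 : Commute q l := h l hl
    have b2 : Commute e l := he l hl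
    rw [h1]
    exact (b1.mul_left b2.inv_left).eq
  have key : ∀ e, q = k * e → (k = 1 ∨ k = z) → ∃ a, q = zp z a * e := by
    intro e h1 h2
    rcases h2 with h2 | h2
    · exact ⟨0, by rw [h1, h2, zp_zero]⟩
    · exact ⟨1, by rw [h1, h2, zp_one]⟩
  have hy : ∀ l ∈ L, y * l = l * y := fun l hl => (H.Ly l hl).symm
  have ht : ∀ l ∈ L, t * l = l * t := fun l hl => (H.Lt l hl).symm
  rcases hku with h1 | h1 | h1 | h1
  · have h1' : q = k * 1 := by rw [mul_one]; exact h1
    obtain ⟨a, ha⟩ := key 1 h1' (hLk 1 (fun l _ => by rw [one_mul, mul_one]) h1')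
    exact ⟨a, Or.inl (by rw [ha, mul_one])⟩
  · obtain ⟨a, ha⟩ := key y h1 (hLk y hy h1)
    exact ⟨a, Or.inr (Or.inl ha)⟩
  · obtain ⟨a, ha⟩ := key t h1 (hLk t ht h1)
    exact ⟨a, Or.inr (Or.inr (Or.inl ha))⟩
  · obtain ⟨a, ha⟩ := key (y * t) h1 (hLk (y * t) (fun l hl => by
      have b1 : Commute y l := hy l hl
      have b2 : Commute t l := ht l hl
      exact (b1.mul_left b2).eq) h1)
    exact ⟨a, Or.inr (Or.inr (Or.inr ha))⟩

/-- `C_C(L) = ⟨y, t⟩`. -/
theorem C_fix (x : G) (hx : x * z = z * x) (h : ∀ l ∈ L, x * l = l * x) :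
    ∃ a : ZMod 2, x = zp z a ∨ x = zp z a * y ∨ x = zp z a * t ∨ x = zp z a * (y * t) := by
  have hzz := H.toPre.zz
  have zyc : z * y = y * z := H.toPre.zy
  have ztc : z * t = t * z := H.toPre.zt
  have hyy := H.y2
  have htt := H.t2
  have hyt := H.yt
  have hty := H.toPre.ty
  have hsq : (y * t) * (y * t) = z := by
    calc y * t * (y * t) = (y * t) * y * t := by group
      _ = z * t * (y * y) * t := by rw [hyt]; group
      _ = z * (t * t) := by rw [hyy]; group
      _ = z := by rw [htt, mul_one]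
  -- images of y and t
  have himg : ∀ w, w ∈ Q → w * w = 1 → w ≠ 1 → w ≠ z → (∀ l ∈ L, w * l = l * w) →
      (x * w * x⁻¹ = y ∨ x * w * x⁻¹ = z * y) ∨ (x * w * x⁻¹ = t ∨ x * w * x⁻¹ = z * t) := by
    intro w hw hww hw1 hwz hwL
    have m : x * w * x⁻¹ ∈ Q := H.D.norm x hx w hw
    have mL : ∀ l ∈ L, (x * w * x⁻¹) * l = l * (x * w * x⁻¹) := by
      intro l hl
      have b1 : Commute x l := h l hl
      have b2 : Commute w l := hwL l hl
      exact ((b1.mul_left b2).mul_left b1.inv_left).eq
    have msq : (x * w * x⁻¹) * (x * w * x⁻¹) = 1 := by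
      calc (x * w * x⁻¹) * (x * w * x⁻¹) = x * (w * w) * x⁻¹ := by group
        _ = 1 := by rw [hww]; group
    have mne1 : x * w * x⁻¹ ≠ 1 := by
      intro h1
      apply hw1
      calc w = x⁻¹ * (x * w * x⁻¹) * x := by group
        _ = 1 := by rw [h1]; group
    have mnez : x * w * x⁻¹ ≠ z := by
      intro h1
      apply hwz
      calc w = x⁻¹ * (x * w * x⁻¹) * x := by group
        _ = x⁻¹ * (z * x) := by rw [h1]; group
        _ = z := by rw [← hx]; group
    obtain ⟨a, ha⟩ := H.Q_fix K _ m mL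
    rcases zmod2_cases a with rfl | rfl
    · rw [zp_zero] at ha
      rcases ha with ha | ha | ha | ha
      · exact absurd ha mne1
      · left; left; rw [ha, one_mul]
      · right; left; rw [ha, one_mul]
      · exfalso
        rw [ha, one_mul, hsq] at msq
        exact H.z_ne msq
    · rw [zp_one] at ha
      rcases ha with ha | ha | ha | ha
      · exact absurd ha mnez
      · left; right; exact ha
      · right; right; exact ha
      · exfalso
        have e1 : z * (y * t) * (z * (y * t)) = z := by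
          have b1 : Commute z (y * t) := by
            have c1 : Commute z y := zyc
            have c2 : Commute z t := ztc
            exact c1.mul_right c2
          calc z * (y * t) * (z * (y * t)) = z * ((y * t) * z) * (y * t) := by group
            _ = (z * z) * ((y * t) * (y * t)) := by rw [← b1.eq]; group
            _ = z := by rw [hsq, hzz, one_mul]
        rw [ha, e1] at msq
        exact H.z_ne msq
  have y1 : y ≠ 1 := by
    intro h1; have := hyt; rw [h1, one_mul, mul_one] at this
    exact H.z_ne (mul_eq_right.1 this.symm)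
  have yz : y ≠ z := by
    intro h1; have := hyt; rw [h1, ← ztc, ← mul_assoc, hzz, one_mul] at this
    exact H.z_ne (mul_eq_right.1 this)
  have t1 : t ≠ 1 := by
    intro h1; have := hyt; rw [h1, one_mul, mul_one] at this
    exact H.z_ne (mul_eq_right.1 this.symm)
  have tz : t ≠ z := by
    intro h1; have := hyt; rw [h1, zyc, ← mul_assoc, ← zyc, mul_assoc, ← zyc, ← mul_assoc, hzz, one_mul] at this
    exact H.z_ne (mul_eq_right.1 this)
  have hyL : ∀ l ∈ L, y * l = l * y := fun l hl => (H.Ly l hl).symm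
  have htL : ∀ l ∈ L, t * l = l * t := fun l hl => (H.Lt l hl).symm
  have iy := himg y H.yQ hyy y1 yz hyL
  have it := himg t H.tQ htt t1 tz htL
  -- the images of y and t do not commute
  have hnc : x * y * x⁻¹ * (x * t * x⁻¹) = z * (x * t * x⁻¹ * (x * y * x⁻¹)) := by
    calc x * y * x⁻¹ * (x * t * x⁻¹) = x * (y * t) * x⁻¹ := by group
      _ = (x * z) * (t * y) * x⁻¹ := by rw [hyt]; group
      _ = _ := by rw [hx]; group
  have cyz : Commute z y := zyc
  have ctz : Commute z t := ztc
  have bad : ∀ (w u v : G), Commute z w → (u = w ∨ u = z * w) → (v = w ∨ v = z * w) →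
      u * v = z * (v * u) → False := by
    intro w u v hw hu hv huv
    have c1 : Commute u v := by
      have b0 : Commute w w := Commute.refl w
      have b1 : Commute w (z * w) := (hw.symm).mul_right b0
      have b2 : Commute (z * w) w := b1.symm
      rcases hu with rfl | rfl <;> rcases hv with rfl | rfl
      · exact b0
      · exact b1
      · exact b2
      · exact Commute.refl _
    rw [c1.eq] at huv
    exact H.z_ne (mul_eq_right.1 huv.symm)
  -- finishing with an element of ⟨y,t⟩
  have fin : ∀ e, (e = 1 ∨ e = y ∨ e = t ∨ e = y * t) → (e * x = 1 ∨ e * x = z) →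
      ∃ a : ZMod 2, x = zp z a ∨ x = zp z a * y ∨ x = zp z a * t ∨ x = zp z a * (y * t) := by
    intro e he hex
    have hx' : x = e⁻¹ ∨ x = z * e⁻¹ := by
      rcases hex with h1 | h1
      · left
        calc x = e⁻¹ * (e * x) := by group
          _ = e⁻¹ := by rw [h1, mul_one]
      · right
        have hez : Commute z e := by
          rcases he with rfl | rfl | rfl | rfl
          · exact Commute.one_right z
          · exact cyz
          · exact ctz
          · exact cyz.mul_right ctz
        calc x = e⁻¹ * (e * x) := by group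
          _ = e⁻¹ * z := by rw [h1]
          _ = z * e⁻¹ := (hez.inv_right.eq).symm
    have hyi : y⁻¹ = y := by rw [inv_eq_iff_mul_eq_one]; exact hyy
    have hti : t⁻¹ = t := by rw [inv_eq_iff_mul_eq_one]; exact htt
    have hyti : (y * t)⁻¹ = z * (y * t) := by
      rw [mul_inv_rev, hyi, hti]; exact hty
    rcases he with rfl | rfl | rfl | rfl
    · rcases hx' with h1 | h1
      · exact ⟨0, Or.inl (by rw [zp_zero, h1, inv_one])⟩
      · exact ⟨1, Or.inl (by rw [zp_one, h1, inv_one, mul_one])⟩
    · rcases hx' with h1 | h1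
      · exact ⟨0, Or.inr (Or.inl (by rw [zp_zero, h1, hyi, one_mul]))⟩
      · exact ⟨1, Or.inr (Or.inl (by rw [zp_one, h1, hyi]))⟩
    · rcases hx' with h1 | h1
      · exact ⟨0, Or.inr (Or.inr (Or.inl (by rw [zp_zero, h1, hti, one_mul])))⟩
      · exact ⟨1, Or.inr (Or.inr (Or.inl (by rw [zp_one, h1, hti])))⟩
    · rcases hx' with h1 | h1
      · exact ⟨1, Or.inr (Or.inr (Or.inr (by rw [zp_one, h1, hyti])))⟩
      · refine ⟨0, Or.inr (Or.inr (Or.inr ?_))⟩
        rw [zp_zero, h1, hyti, ← mul_assoc, hzz]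
  -- commuting with L
  have heL : ∀ e, (e = 1 ∨ e = y ∨ e = t ∨ e = y * t) → ∀ l ∈ L, (e * x) * l = l * (e * x) := by
    intro e he l hl
    have b0 : Commute x l := h l hl
    have b1 : Commute y l := hyL l hl
    have b2 : Commute t l := htL l hl
    rcases he with rfl | rfl | rfl | rfl
    · exact ((Commute.one_left l).mul_left b0).eq
    · exact (b1.mul_left b0).eq
    · exact (b2.mul_left b0).eq
    · exact ((b1.mul_left b2).mul_left b0).eq
  rcases iy with iy | iy
  · rcases it with it | it
    · exact absurd (bad y _ _ cyz iy it hnc) id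
    · obtain ⟨e, he, h1, h2⟩ := H.adjust iy it
      apply fin e he
      obtain ⟨n, hn, l, hl, hnl⟩ := H.exists_mul h1 h2
      have hcL := heL e he
      -- n commutes with L
      have hnL : ∀ l' ∈ L, n * l' = l' * n := by
        intro l' hl'
        have h3 := hcL l' hl'
        rw [hnl] at h3
        -- n * (l l' l⁻¹) * n⁻¹ = l'
        have h4 : n * (l * l' * l⁻¹) * n⁻¹ = l' := by
          calc n * (l * l' * l⁻¹) * n⁻¹ = (n * l * l') * (n * l)⁻¹ := by group
            _ = l' := by rw [h3]; group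
        set m := l * l' * l⁻¹ with hm
        have hmL : m ∈ L := mul_mem (mul_mem hl hl') (inv_mem hl)
        have h5 : n * m * n⁻¹ * m⁻¹ ∈ Q := by
          have e1 : n * m * n⁻¹ * m⁻¹ = n * (m * n⁻¹ * m⁻¹) := by group
          rw [e1]
          exact mul_mem (mem_K0.1 hn).1 (H.D.norm m (H.toPre.Lz m hmL) _ (inv_mem (mem_K0.1 hn).1))
        have h6 : n * m * n⁻¹ * m⁻¹ ∈ L := by
          rw [h4]
          exact mul_mem hl' (inv_mem hmL)
        have h7 := H.LQ _ h6 h5
        have h8 : m = l' := by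
          rw [h4] at h7
          exact (mul_inv_eq_one.1 h7).symm
        rw [h8] at h4
        calc n * l' = (n * l' * n⁻¹) * n := by group
          _ = l' * n := by rw [h4]
      have hnz := H.K0_fix K n hn hnL
      -- l is central in L
      have hl1 : l = 1 := by
        have hlc : ∀ l' ∈ L, l * l' = l' * l := by
          intro l' hl'
          have h3 := hcL l' hl'
          rw [hnl] at h3
          apply mul_left_cancel (a := n)
          calc n * (l * l') = l' * (n * l) := by rw [← h3]; group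
            _ = (l' * n) * l := by group
            _ = n * (l' * l) := by rw [← hnL l' hl']; group
        have hl' := hl
        rw [← K.κ_range] at hl'
        obtain ⟨σ, rfl⟩ := hl'
        have h9 : ∀ τ : alternatingGroup (Fin 5), σ * τ = τ * σ := by
          intro τ
          apply K.κ_inj
          rw [map_mul, map_mul]
          exact hlc _ (by rw [← K.κ_range]; exact ⟨τ, rfl⟩)
        have h10 := centre_facts σ
          (congrArg Subtype.val (h9 ⟨finRotate 5, Equiv.Perm.mem_alternatingGroup.2 rot_sign⟩))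
          (congrArg Subtype.val (h9 ⟨Equiv.swap 1 2 * Equiv.swap 2 3,
            Equiv.Perm.mem_alternatingGroup.2 Canon.c3_facts.1⟩))
        have h11 : σ = 1 := Subtype.ext h10
        rw [h11, map_one]
      rw [hl1, mul_one] at hnl
      rw [hnl]
      exact hnz
  · rcases it with it | it
    · -- swapping: contradiction
      exfalso
      -- reduce to exact swap
      obtain ⟨e, he, hy', ht'⟩ : ∃ e, (e = 1 ∨ e = y ∨ e = t ∨ e = y * t) ∧
          (e * x) * y * (e * x)⁻¹ = t ∧ (e * x) * t * (e * x)⁻¹ = y := by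
        have key : ∀ e u, (e * x) * u * (e * x)⁻¹ = e * (x * u * x⁻¹) * e⁻¹ := by
          intro e u; group
        have yzc : y * z * y⁻¹ = z := by rw [← zyc]; group
        have tzc : t * z * t⁻¹ = z := by rw [← ztc]; group
        have yyc : y * y * y⁻¹ = y := by group
        have ttc : t * t * t⁻¹ = t := by group
        have mz : ∀ (e a b : G), e * (a * b) * e⁻¹ = (e * a * e⁻¹) * (e * b * e⁻¹) := by
          intro e a b; group
        rcases iy with iy | iy <;> rcases it with it | it
        · refine ⟨1, Or.inl rfl, ?_, ?_⟩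
          · rw [key, iy]; group
          · rw [key, it]; group
        · refine ⟨t, Or.inr (Or.inr (Or.inl rfl)), ?_, ?_⟩
          · rw [key, iy, ttc]
          · rw [key, it, mz, tzc, H.conj_ty, ← mul_assoc, hzz, one_mul]
        · refine ⟨y, Or.inr (Or.inl rfl), ?_, ?_⟩
          · rw [key, iy, mz, yzc, H.conj_yt, ← mul_assoc, hzz, one_mul]
          · rw [key, it, yyc]
        · refine ⟨y * t, Or.inr (Or.inr (Or.inr rfl)), ?_, ?_⟩
          · rw [key, iy]
            have : y * t * (z * t) * (y * t)⁻¹ = y * (t * (z * t) * t⁻¹) * y⁻¹ := by group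
            rw [this, mz t, tzc, ttc, mz y, yzc, H.conj_yt, ← mul_assoc, hzz, one_mul]
          · rw [key, it]
            have h3 : t * (z * y) * t⁻¹ = y := by
              rw [mz t, tzc, H.conj_ty, ← mul_assoc, hzz, one_mul]
            have : y * t * (z * y) * (y * t)⁻¹ = y * (t * (z * y) * t⁻¹) * y⁻¹ := by group
            rw [this, h3, yyc]
      have hxz : Commute x z := hx
      have hexz : (e * x) * z = z * (e * x) := by
        have b1 : Commute y z := zyc.symm
        have b2 : Commute t z := ztc.symm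
        rcases he with rfl | rfl | rfl | rfl
        · exact ((Commute.one_left z).mul_left hxz).eq
        · exact (b1.mul_left hxz).eq
        · exact (b2.mul_left hxz).eq
        · exact ((b1.mul_left b2).mul_left hxz).eq
      obtain ⟨π, hπ, hodd⟩ := H.exists_odd K hexz hy' ht'
      have hcL := heL e he
      have hcomm : ∀ σ : alternatingGroup (Fin 5), π * (σ : Equiv.Perm (Fin 5)) =
          (σ : Equiv.Perm (Fin 5)) * π := by
        intro σ
        apply Equiv.ext
        intro i
        have hl : κ σ ∈ L := by rw [← K.κ_range]; exact ⟨σ, rfl⟩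
        have h3 : Commute (e * x) (κ σ) := hcL _ hl
        have hlz : Commute (κ σ) z := H.toPre.Lz _ hl
        have h4 := hπ ((σ : Equiv.Perm (Fin 5)) i)
        rw [← K.κ_conj] at h4
        have h5 : (e * x) * (κ σ * c i * (κ σ)⁻¹) * (e * x)⁻¹ =
            κ σ * ((e * x) * c i * (e * x)⁻¹) * (κ σ)⁻¹ := by
          calc (e * x) * (κ σ * c i * (κ σ)⁻¹) * (e * x)⁻¹ =
              ((e * x) * κ σ) * c i * ((e * x) * κ σ)⁻¹ := by group
            _ = _ := by rw [h3.eq]; group
        have h6 : (e * x) * (κ σ * c i * (κ σ)⁻¹) * (e * x)⁻¹ =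
            c ((σ : Equiv.Perm (Fin 5)) (π i)) ∨ (e * x) * (κ σ * c i * (κ σ)⁻¹) * (e * x)⁻¹ =
            z * c ((σ : Equiv.Perm (Fin 5)) (π i)) := by
          rw [h5]
          rcases hπ i with h7 | h7
          · left; rw [h7, K.κ_conj]
          · right
            rw [h7]
            calc κ σ * (z * c (π i)) * (κ σ)⁻¹ = (κ σ * z) * c (π i) * (κ σ)⁻¹ := by group
              _ = z * (κ σ * c (π i) * (κ σ)⁻¹) := by rw [hlz.eq]; group
              _ = _ := by rw [K.κ_conj]
        exact cls_eq K h4 h6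
      have h10 := centre_facts π
        (hcomm ⟨finRotate 5, Equiv.Perm.mem_alternatingGroup.2 rot_sign⟩)
        (hcomm ⟨Equiv.swap 1 2 * Equiv.swap 2 3, Equiv.Perm.mem_alternatingGroup.2 Canon.c3_facts.1⟩)
      rw [h10, map_one] at hodd
      exact absurd hodd (by decide)
    · exact absurd (bad t _ _ ctz iy it hnc) id

end Canonical

end PreT

/-- `C_{C(z)}(C_Q(r)) = ⟨z, r⟩` for a noncentral involution `r ∈ Q`. -/
theorem cent_cent {Q : Subgroup G} {z : G} (D : Data Q z) (hz1 : z ≠ 1)
    (cen : ∀ x ∈ Q, (∀ q ∈ Q, q * x = x * q) → x = 1 ∨ x = z)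
    (r : G) (hr : r ∈ Q) (hrr : r * r = 1) (hr1 : r ≠ 1) (hrz : r ≠ z) (g : G) (hg : g * z = z * g)
    (h : ∀ x ∈ Q, x * r = r * x → g * x = x * g) : g = 1 ∨ g = z ∨ g = r ∨ g = z * r := by
  have hzz := D.sqz
  have comm : ∀ x ∈ Q, ∀ w ∈ Q, x * w = w * x ∨ x * w = z * (w * x) := by
    intro x hx w hw
    rcases D.comm x hx w hw with h | h
    · left; rw [mul_inv_eq_iff_eq_mul] at h; exact h
    · right; rw [mul_inv_eq_iff_eq_mul] at h; rw [h, mul_assoc]
  have hgr : g * r = r * g := h r hr rfl
  have hzr : z * r = r * z := (D.com r hr).symm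
  -- an element q not commuting with r
  obtain ⟨q, hq, hqr⟩ : ∃ q ∈ Q, ¬ (q * r = r * q) := by
    by_contra hcon
    push Not at hcon
    rcases cen r hr hcon with h1 | h1
    · exact hr1 h1
    · exact hrz h1
  have hqr' : q * r = z * (r * q) := by
    rcases comm q hq r hr with h1 | h1
    · exact absurd h1 hqr
    · exact h1
  have hzq : z * q = q * z := (D.com q hq).symm
  -- every element of Q is in C_Q(r) or q C_Q(r)
  have hdec : ∀ x ∈ Q, x * r = r * x ∨ (q * x) * r = r * (q * x) := by
    intro x hx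
    rcases comm x hx r hr with h1 | h1
    · exact Or.inl h1
    · right
      have hzx : z * x = x * z := (D.com x hx).symm
      calc q * x * r = q * (x * r) := by group
        _ = (q * z) * (r * x) := by rw [h1]; group
        _ = z * (q * r) * x := by rw [← hzq]; group
        _ = (z * z) * (r * q) * x := by rw [hqr']; group
        _ = _ := by rw [hzz]; group
  -- s := q⁻¹ g q g⁻¹ commutes with C_Q(r)
  set s := q⁻¹ * (g * q * g⁻¹) with hs
  have hgq : g * q * g⁻¹ ∈ Q := D.norm g hg q hq
  have hsQ : s ∈ Q := mul_mem (inv_mem hq) hgq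
  have hgq' : g * q * g⁻¹ = q * s := by rw [hs]; group
  -- s commutes with each x in C_Q(r)
  have hsx : ∀ x ∈ Q, x * r = r * x → s * x = x * s := by
    intro x hx hxr
    have e1 : g * x * g⁻¹ = x := by rw [h x hx hxr]; group
    rcases comm q hq x hx with h1 | h1
    · have e2 : (g * q * g⁻¹) * x = x * (g * q * g⁻¹) := by
        calc (g * q * g⁻¹) * x = (g * q * g⁻¹) * (g * x * g⁻¹) := by rw [e1]
          _ = g * (q * x) * g⁻¹ := by group
          _ = (g * x * g⁻¹) * (g * q * g⁻¹) := by rw [h1]; group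
          _ = _ := by rw [e1]
      have b1 : Commute (g * q * g⁻¹) x := e2
      have b2 : Commute q x := h1
      exact (b2.inv_left.mul_left b1).eq
    · have e2 : (g * q * g⁻¹) * x = z * (x * (g * q * g⁻¹)) := by
        calc (g * q * g⁻¹) * x = (g * q * g⁻¹) * (g * x * g⁻¹) := by rw [e1]
          _ = g * (q * x) * g⁻¹ := by group
          _ = (g * z) * (x * q) * g⁻¹ := by rw [h1]; group
          _ = z * ((g * x * g⁻¹) * (g * q * g⁻¹)) := by rw [hg]; group
          _ = _ := by rw [e1]
      rw [hgq'] at e2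
      have hzx : z * x = x * z := (D.com x hx).symm
      apply mul_left_cancel (a := q)
      calc q * (s * x) = (q * s) * x := by group
        _ = z * (x * q) * s := by rw [e2]; group
        _ = (q * x) * s := by rw [h1]
        _ = _ := by group
  -- so s is in ⟨z, r⟩
  have hs4 : s = 1 ∨ s = z ∨ s = r ∨ s = z * r := by
    rcases comm s hsQ q hq with h1 | h1
    · have : s = 1 ∨ s = z := by
        apply cen s hsQ
        intro x hx
        rcases hdec x hx with h2 | h2
        · exact (hsx x hx h2).symm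
        · have h3 := hsx _ (mul_mem hq hx) h2
          have b1 : Commute s q := h1
          have b2 : Commute s (q * x) := h3
          have b3 : Commute s x := by
            have : x = q⁻¹ * (q * x) := by group
            rw [this]
            exact b1.inv_right.mul_right b2
          exact b3.symm.eq
      rcases this with h2 | h2
      · exact Or.inl h2
      · exact Or.inr (Or.inl h2)
    · -- s r commutes with q
      have h5 : (s * r) * q = q * (s * r) := by
        calc (s * r) * q = s * (r * q) := by group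
          _ = s * (z * (q * r)) := by rw [hqr', ← mul_assoc z z, hzz, one_mul]
          _ = (s * z) * (q * r) := by group
          _ = z * (s * q) * r := by rw [D.com s hsQ]; group
          _ = (z * z) * (q * s) * r := by rw [h1]; group
          _ = _ := by rw [hzz]; group
      have : s * r = 1 ∨ s * r = z := by
        apply cen _ (mul_mem hsQ hr)
        intro x hx
        have hrx : ∀ w ∈ Q, w * r = r * w → (s * r) * w = w * (s * r) := by
          intro w hw h6
          have b1 : Commute s w := hsx w hw h6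
          have b2 : Commute r w := h6.symm
          exact (b1.mul_left b2).eq
        rcases hdec x hx with h2 | h2
        · exact (hrx x hx h2).symm
        · have b1 : Commute (s * r) q := h5
          have b2 : Commute (s * r) (q * x) := hrx _ (mul_mem hq hx) h2
          have b3 : Commute (s * r) x := by
            have : x = q⁻¹ * (q * x) := by group
            rw [this]
            exact b1.inv_right.mul_right b2
          exact b3.symm.eq
      have hsr : s = (s * r) * r := by rw [mul_assoc, hrr, mul_one]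
      rcases this with h2 | h2
      · right; right; left; rw [hsr, h2, one_mul]
      · right; right; right; rw [hsr, h2]
  -- s = r or z r is impossible by squares
  have hsq : (q * s) * (q * s) = q * q := by
    rw [← hgq']
    have h1 : (g * q * g⁻¹) * (g * q * g⁻¹) = g * (q * q) * g⁻¹ := by group
    rw [h1]
    rcases D.sq q hq with h2 | h2
    · rw [h2]; group
    · rw [h2, hg]; group
  have hs2 : s = 1 ∨ s = z := by
    rcases hs4 with h1 | h1 | h1 | h1
    · exact Or.inl h1
    · exact Or.inr h1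
    · exfalso
      rw [h1] at hsq
      have e1 : q * r * (q * r) = z * (q * q) := by
        calc q * r * (q * r) = q * r * (z * (r * q)) := by rw [hqr']
          _ = q * (r * z) * (r * q) := by group
          _ = (q * z) * (r * r) * q := by rw [← hzr]; group
          _ = _ := by rw [hrr, ← hzq]; group
      rw [e1] at hsq
      exact hz1 (mul_eq_right.1 hsq)
    · exfalso
      rw [h1] at hsq
      have e1 : q * (z * r) * (q * (z * r)) = z * (q * q) := by
        have e2 : q * (z * r) = z * (q * r) := by rw [← mul_assoc, ← hzq, mul_assoc]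
        have e3 : (q * r) * z = z * (q * r) := D.com _ (mul_mem hq hr)
        calc q * (z * r) * (q * (z * r)) = z * ((q * r) * z) * (q * r) := by rw [e2]; group
          _ = (z * z) * ((q * r) * (q * r)) := by rw [e3]; group
          _ = (q * r) * (z * (r * q)) := by rw [hzz, one_mul]; nth_rewrite 2 [hqr']; rfl
          _ = q * (r * z) * (r * q) := by group
          _ = (q * z) * (r * r) * q := by rw [← hzr]; group
          _ = _ := by rw [hrr, ← hzq]; group
      rw [e1] at hsq
      exact hz1 (mul_eq_right.1 hsq)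
  -- hence g or g r centralises Q
  have fin : ∀ u : G, u * z = z * u → (∀ x ∈ Q, x * r = r * x → u * x = x * u) → u * q = q * u →
      u = 1 ∨ u = z := by
    intro u huz hux huq
    have hall : ∀ x ∈ Q, u * x = x * u := by
      intro x hx
      rcases hdec x hx with h2 | h2
      · exact hux x hx h2
      · have b1 : Commute u q := huq
        have b2 : Commute u (q * x) := hux _ (mul_mem hq hx) h2
        have b3 : Commute u x := by
          have : x = q⁻¹ * (q * x) := by group
          rw [this]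
          exact b1.inv_right.mul_right b2
        exact b3.eq
    have huQ : u ∈ Q := by
      apply D.cent
      intro x hx
      rw [← hall x hx]; group
    exact cen u huQ (fun x hx => (hall x hx).symm)
  rcases hs2 with h1 | h1
  · have h2 : g * q = q * g := by
      rw [h1, mul_one] at hgq'
      exact mul_inv_eq_iff_eq_mul.1 hgq'
    rcases fin g hg h h2 with h3 | h3
    · exact Or.inl h3
    · exact Or.inr (Or.inl h3)
  · have h2 : g * q = z * (q * g) := by
      rw [h1, ← hzq, mul_inv_eq_iff_eq_mul] at hgq'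
      rw [hgq', mul_assoc]
    have h3 : (g * r) * q = q * (g * r) := by
      calc (g * r) * q = g * (r * q) := by group
        _ = g * (z * (q * r)) := by rw [hqr', ← mul_assoc z z, hzz, one_mul]
        _ = (g * z) * (q * r) := by group
        _ = z * (g * q) * r := by rw [hg]; group
        _ = (z * z) * (q * g) * r := by rw [h2]; group
        _ = _ := by rw [hzz]; group
    have h4 : (g * r) * z = z * (g * r) := by
      have b1 : Commute g z := hg
      have b2 : Commute r z := hzr.symm
      exact (b1.mul_left b2).eq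
    have h5 : ∀ x ∈ Q, x * r = r * x → (g * r) * x = x * (g * r) := by
      intro x hx hxr
      have b1 : Commute g x := h x hx hxr
      have b2 : Commute r x := hxr.symm
      exact (b1.mul_left b2).eq
    have hgr' : g = (g * r) * r := by rw [mul_assoc, hrr, mul_one]
    rcases fin _ h4 h5 h3 with h6 | h6
    · right; right; left; rw [hgr', h6, one_mul]
    · right; right; right; rw [hgr', h6]

end Cfsg.Agent.SuzType.Swap
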