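import Cfsg.Agent.LargeExtra.SuzFour
import Cfsg.Agent.SuzType.Swap
import Cfsg.Agent.SuzType.RR
import Cfsg.Agent.SuzType.CentA4

/-!
# Groups of Suzuki type: the local elements and their relations

`Local Q z y t f u g L` : `PreT Q z y t L`, elements `f`, `u = g f g⁻¹` of order three (`f : z → y → z y`,
`u : z → t → z t`), `g` swaps `y`, `t` and normalises `L`.
-/

set_option autoImplicit false

namespace Cfsg.Agent.SuzType.LocalRel

open Cfsg.Agent.J2Type.QStruct Cfsg.Agent.J2Type.Model
open Cfsg.Agent.ClassificationK.LargeSymplectic Cfsg.Agent.SuzType.CanonG Cfsg.Agent.SuzType.Swap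
  Cfsg.Agent.SuzType.RR Cfsg.Agent.SuzType.CentA4
open Cfsg.Agent.LargeExtra Cfsg.Agent.LargeExtra.FourGroup

variable {G : Type*} [Group G]

/-- The local data of a group of Suzuki type. -/
structure Local (Q : Subgroup G) (z y t f u g : G) (L : Subgroup G) : Prop extends PreT Q z y t L where
  T1 : Tri Q z y t f
  T2 : Tri Q z t y u
  f3 : f ^ 3 = 1
  u3 : u ^ 3 = 1
  fL : ∀ l ∈ L, l * f = f * l
  uL : ∀ l ∈ L, l * u = u * l
  gz : g * z = z * g
  gy : g * y * g⁻¹ = t
  gt : g * t * g⁻¹ = y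
  gL : ∀ x, x ∈ L ↔ g * x * g⁻¹ ∈ L
  gf : g * f * g⁻¹ = u

/-- Existence of the local data. -/
theorem exists_local [Finite G] {Q : Subgroup G} {z y g₀ : G} (H : SuzHyp Q z)
    (hy : g₀ * z * g₀⁻¹ = y) (hyQ : y ∈ Q) (hne : y ≠ z) :
    ∃ (t f u g : G) (L : Subgroup G), Local Q z y t f u g L := by
  have h := ctx_of_data H.data hy hne hyQ H.z_ne rfl
  obtain ⟨f, t, F, tQ, t2, tf, ty, tL, fL, LR, -, hT, -, hV, -, cardL, -⟩ := H.four h
  have hzz := h.zz
  have hyt : y * t = z * (t * y) := by
    have h1 : t * y = z * y * t := by rw [← ty]; group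
    rw [h1, ← mul_assoc, ← mul_assoc, hzz, one_mul]
  have hpre : PreT Q z y t (h.L f) := {
    D := H.data
    z_ne := H.z_ne
    cardQ := H.card_Q
    cen := fun x hx hc => H.center hx (fun q hq => by rw [hc q hq]; group)
    yQ := hyQ
    tQ := tQ
    y2 := h.yy
    t2 := t2
    yt := hyt
    cardL := cardL
    Ly := fun x hx => (mem_CV.1 (h.mem_L.1 hx).1).2
    Lt := fun x hx => (tL x hx).symm
    LQ := by
      intro x hx hxQ
      apply LR x hx
      apply h.A_le_R
      rw [h.mem_A_iff]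
      exact ⟨hxQ, (mem_CV.1 (h.mem_L.1 hx).1).2⟩
    pairs := by
      intro y₁ w₁ y₂ w₂ m1 m2 m3 m4 s1 s2 s3 s4 c1 c2
      have key : ∀ a b : G, a * b = z * (b * a) → b * a ≠ a * b := by
        intro a b h1 h2
        rw [h2] at h1
        exact H.z_ne (mul_eq_right.1 h1.symm)
      exact H.conj_pair m1 s1 m2 s2 (key _ _ c1) m3 s3 m4 s4 (key _ _ c2)
    cardC := by
      have hne' : t * y ≠ y * t := by
        intro h2
        rw [h2] at hyt
        exact H.z_ne (mul_eq_right.1 hyt.symm)
      rw [← H.card_CVw hyQ h.yy tQ t2 hne']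
      congr 1
      have : Subgroup.centralizer ({y, t} : Set G) = CV z y ⊓ Subgroup.centralizer ({t} : Set G) := by
        ext x
        rw [mem_cent_pair, Subgroup.mem_inf, mem_CV, Subgroup.mem_centralizer_singleton_iff]
        constructor
        · rintro ⟨h1, h2⟩
          refine ⟨⟨?_, h1⟩, h2⟩
          have e1 : z = y * t * y⁻¹ * t⁻¹ := by rw [hyt]; group
          have c1 : Commute x y := h1
          have c2 : Commute x t := h2
          rw [e1]
          exact (((c1.mul_right c2).mul_right c1.inv_right).mul_right c2.inv_right)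
        · rintro ⟨⟨-, h1⟩, h2⟩
          exact ⟨h1, h2⟩
      rw [this] }
  obtain ⟨g, gz, gy, gt, gL⟩ := hpre.exists_swap
  have T1 : Tri Q z y t f := tri_of_four h hV F hT tf
  have hQ : ∀ q, q ∈ Q ↔ g * q * g⁻¹ ∈ Q := by
    intro q
    constructor
    · exact fun hq => H.data.norm g gz q hq
    · intro hq
      have gz' : g⁻¹ * z = z * g⁻¹ := by
        have : Commute g z := gz
        exact this.inv_left.eq
      have := H.data.norm g⁻¹ gz' _ hq
      have e : g⁻¹ * (g * q * g⁻¹) * g⁻¹⁻¹ = q := by group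
      rwa [e] at this
  have T2 := T1.conj g gz hQ
  rw [gy, gt] at T2
  refine ⟨t, f, g * f * g⁻¹, g, h.L f, ?_⟩
  exact {
    toPreT := hpre
    T1 := T1
    T2 := T2
    f3 := F.f3
    u3 := by
      have : (g * f * g⁻¹) ^ 3 = g * f ^ 3 * g⁻¹ := by
        simp only [pow_succ, pow_zero, one_mul]; group
      rw [this, F.f3]; group
    fL := fL
    uL := by
      intro l hl
      have h1 : g⁻¹ * l * g ∈ h.L f := by
        rw [gL]
        have : g * (g⁻¹ * l * g) * g⁻¹ = l := by group
        rw [this]; exact hl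
      have h2 := fL _ h1
      calc l * (g * f * g⁻¹) = g * ((g⁻¹ * l * g) * f) * g⁻¹ := by group
        _ = g * (f * (g⁻¹ * l * g)) * g⁻¹ := by rw [h2]
        _ = _ := by group
    gz := gz
    gy := gy
    gt := gt
    gL := gL
    gf := rfl }

end Cfsg.Agent.SuzType.LocalRel
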