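import Cfsg.Agent.SuzType.JNode
import Cfsg.Agent.SuzType.LocalRel

/-!
# `J = ⟨y, t, f, u⟩ ≅ A₆` and its relations, in a group of Suzuki type
-/

set_option autoImplicit false

namespace Cfsg.Agent.SuzType.JFinal

open Subgroup Cfsg.Agent.J2Type.Model
open Cfsg.Agent.ClassificationK.LargeSymplectic
open Cfsg.Agent.SuzType.CanonG Cfsg.Agent.SuzType.CanonG.Pre
open Cfsg.Agent.SuzType.Swap Cfsg.Agent.SuzType.Swap.PreT Cfsg.Agent.SuzType.RR
open Cfsg.Agent.SuzType.LocalRel Cfsg.Agent.SuzType.JGroup Cfsg.Agent.SuzType.JNode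

variable {G : Type*} [Group G] [Finite G] {Q L : Subgroup G} {z y t f u g : G}

omit [Finite G] in
theorem zp_val' {K : Subgroup G} (z : K) (a : ZMod 2) : ((zp z a : K) : G) = zp (z : G) a := by
  unfold zp
  split <;> rfl

/-- The subgroup `J`. -/
def JJ (y t f u : G) : Subgroup G := closure {y, t, f, u}

/-- The hypotheses of `JGroup.JHyp` hold in `J`. -/
theorem exists_jhyp (Λ : Local Q z y t f u g L) :
    ∃ (z' y' t' f' u' : JJ y t f u) (φ : JJ y t f u ≃* JJ y t f u),
      (z' : G) = z ∧ (y' : G) = y ∧ (t' : G) = t ∧ (f' : G) = f ∧ (u' : G) = u ∧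
      JHyp z' y' t' f' u' φ := by
  have H := Λ.toPreT
  obtain ⟨c, κ, K⟩ := H.toPre.exists_canon
  obtain ⟨l, hl, hact⟩ := norm_act H K Λ.gz Λ.gy Λ.gt Λ.gL
  have hzz := H.toPre.zz
  have zyc : Commute z y := H.toPre.zy
  have ztc : Commute z t := H.toPre.zt
  -- the normalised swap
  set g' := g * l with hg'
  have cl_z : Commute l z := H.toPre.Lz l hl
  have cg_z : Commute g z := Λ.gz
  have g'z : g' * z = z * g' := (cg_z.mul_left cl_z).eq
  have g'y : g' * y * g'⁻¹ = t := by
    calc g' * y * g'⁻¹ = g * (l * y * l⁻¹) * g⁻¹ := by rw [hg']; group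
      _ = t := by rw [H.Ly l hl, mul_inv_cancel_right, Λ.gy]
  have g't : g' * t * g'⁻¹ = y := by
    calc g' * t * g'⁻¹ = g * (l * t * l⁻¹) * g⁻¹ := by rw [hg']; group
      _ = y := by rw [H.Lt l hl, mul_inv_cancel_right, Λ.gt]
  have g'f : g' * f * g'⁻¹ = u := by
    calc g' * f * g'⁻¹ = g * (l * f * l⁻¹) * g⁻¹ := by rw [hg']; group
      _ = u := by rw [Λ.fL l hl, mul_inv_cancel_right, Λ.gf]
  have hsq : g' * g' = z := swap_sq H K g'z g'y g't hact
  have g'u : g' * u * g'⁻¹ = z * f * z⁻¹ := by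
    calc g' * u * g'⁻¹ = (g' * g') * f * (g' * g')⁻¹ := by rw [← g'f]; group
      _ = z * f * z⁻¹ := by rw [hsq]
  -- membership
  have my : y ∈ JJ y t f u := subset_closure (by simp)
  have mt : t ∈ JJ y t f u := subset_closure (by simp)
  have mf : f ∈ JJ y t f u := subset_closure (by simp)
  have mu : u ∈ JJ y t f u := subset_closure (by simp)
  have hzyt : z = y * t * y⁻¹ * t⁻¹ := by rw [H.yt]; group
  have mz : z ∈ JJ y t f u := by
    rw [hzyt]; exact mul_mem (mul_mem (mul_mem my mt) (inv_mem my)) (inv_mem mt)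
  -- J centralises L
  have hJL : ∀ x ∈ JJ y t f u, ∀ l ∈ L, x * l = l * x := by
    intro x hx l hl
    have : JJ y t f u ≤ centralizer ({l} : Set G) := by
      unfold JJ
      rw [closure_le]
      rintro w (rfl | rfl | rfl | hw)
      · exact mem_centralizer_singleton_iff.2 (H.Ly l hl).symm
      · exact mem_centralizer_singleton_iff.2 (H.Lt l hl).symm
      · exact mem_centralizer_singleton_iff.2 (Λ.fL l hl).symm
      · rw [Set.mem_singleton_iff] at hw
        subst hw
        exact mem_centralizer_singleton_iff.2 (Λ.uL l hl).symm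
    exact mem_centralizer_singleton_iff.1 (this hx)
  -- g' normalises J
  have hmap : (JJ y t f u).map (MulAut.conj g').toMonoidHom = JJ y t f u := by
    apply Subgroup.eq_of_le_of_card_ge
    · rw [map_le_iff_le_comap]
      conv_lhs => unfold JJ
      rw [closure_le]
      intro w hw
      have hw' : w = y ∨ w = t ∨ w = f ∨ w = u := by simpa using hw
      show g' * w * g'⁻¹ ∈ JJ y t f u
      rcases hw' with h | h | h | h
      · rw [h, g'y]; exact mt
      · rw [h, g't]; exact my
      · rw [h, g'f]; exact mu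
      · rw [h, g'u]; exact mul_mem (mul_mem mz mf) (inv_mem mz)
    · rw [Nat.card_congr ((JJ y t f u).equivMapOfInjective _ (MulAut.conj g').injective).toEquiv.symm]
  let φ : JJ y t f u ≃* JJ y t f u :=
    (MulEquiv.subgroupMap (MulAut.conj g') (JJ y t f u)).trans (MulEquiv.subgroupCongr hmap)
  have hφ : ∀ x : JJ y t f u, ((φ x : JJ y t f u) : G) = g' * x * g'⁻¹ := fun _ => rfl
  refine ⟨⟨z, mz⟩, ⟨y, my⟩, ⟨t, mt⟩, ⟨f, mf⟩, ⟨u, mu⟩, φ, rfl, rfl, rfl, rfl, rfl, ?_⟩
  have f3 : f * f * f = 1 := by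
    have := Λ.f3
    rwa [pow_succ, pow_two] at this
  have u3 : u * u * u = 1 := by
    have := Λ.u3
    rwa [pow_succ, pow_two] at this
  exact {
    z1 := fun h => H.z_ne (congrArg Subtype.val h)
    zz := Subtype.ext hzz
    zy := Subtype.ext zyc.eq
    zt := Subtype.ext ztc.eq
    yy := Subtype.ext H.y2
    tt := Subtype.ext H.t2
    yt := Subtype.ext H.yt
    f3 := Subtype.ext f3
    u3 := Subtype.ext u3
    fz := Subtype.ext Λ.T1.gz
    fy := Subtype.ext Λ.T1.ge
    tf := Subtype.ext Λ.T1.inv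
    uz := Subtype.ext Λ.T2.gz
    ut := Subtype.ext Λ.T2.ge
    yu := Subtype.ext Λ.T2.inv
    gen := by
      have h1 := Subgroup.closure_closure_coe_preimage (k := ({y, t, f, u} : Set G))
      rw [eq_top_iff]
      intro x _
      have h2 : x ∈ closure ((Subtype.val : closure ({y, t, f, u} : Set G) → G) ⁻¹' {y, t, f, u}) := by
        rw [h1]; exact mem_top _
      refine (Subgroup.closure_mono ?_) h2
      rintro ⟨w, hw⟩ hw'
      have hw3 : w ∈ ({y, t, f, u} : Set G) := hw'
      have hw'' : w = y ∨ w = t ∨ w = f ∨ w = u := by simpa using hw3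
      rcases hw'' with rfl | rfl | rfl | rfl
      · left; rfl
      · right; left; rfl
      · right; right; left; rfl
      · right; right; right; rfl
    hC := by
      intro x hx
      have hx' : (x : G) * z = z * (x : G) := congrArg Subtype.val hx
      obtain ⟨a, ha⟩ := H.C_fix K (x : G) hx' (hJL x x.2)
      refine ⟨a, ?_⟩
      rcases ha with ha | ha | ha | ha
      · left; apply Subtype.ext; rw [zp_val']; exact ha
      · right; left; apply Subtype.ext; rw [Subgroup.coe_mul, zp_val']; exact ha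
      · right; right; left; apply Subtype.ext; rw [Subgroup.coe_mul, zp_val']; exact ha
      · right; right; right; apply Subtype.ext
        rw [Subgroup.coe_mul, Subgroup.coe_mul, zp_val']; exact ha
    φz := by
      apply Subtype.ext
      rw [hφ]
      show g' * z * g'⁻¹ = z
      rw [g'z]; group
    φy := Subtype.ext g'y
    φt := Subtype.ext g't
    φφ := by
      intro x
      apply Subtype.ext
      rw [hφ, hφ]
      show g' * (g' * (x : G) * g'⁻¹) * g'⁻¹ = z * x * z⁻¹
      calc g' * (g' * (x : G) * g'⁻¹) * g'⁻¹ = (g' * g') * x * (g' * g')⁻¹ := by group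
        _ = _ := by rw [hsq] }

/-- **Node J**: the relations of `J ≅ A₆`. -/
theorem j_rels (Λ : Local Q z y t f u g L) : (f⁻¹ * u⁻¹) ^ 5 = 1 ∧ (f⁻¹ * u) ^ 4 = 1 := by
  obtain ⟨z', y', t', f', u', φ, -, -, -, hf, hu, J⟩ := exists_jhyp Λ
  obtain ⟨h5, h4⟩ := J.rels
  have h5' : (f * u) ^ 5 = 1 := by
    have h6 := congrArg (Subtype.val) h5
    simpa [hf, hu] using h6
  have h4' : (f⁻¹ * u) ^ 4 = 1 := by
    have h6 := congrArg (Subtype.val) h4
    simpa [hf, hu] using h6
  refine ⟨?_, h4'⟩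
  have e1 : (f⁻¹ * u⁻¹) = f⁻¹ * (f * u)⁻¹ * (f⁻¹)⁻¹ := by group
  rw [e1, conj_pow, inv_pow, h5']
  group

/-- `|J| = 360`. -/
theorem card_J (Λ : Local Q z y t f u g L) :
    Nat.card (closure ({y, t, f, u} : Set G)) = 360 := by
  obtain ⟨z', y', t', f', u', φ, -, -, -, -, -, J⟩ := exists_jhyp Λ
  exact J.card_eq

/-- `J ≅ A₆`. -/
theorem equiv_J (Λ : Local Q z y t f u g L) :
    Nonempty (closure ({y, t, f, u} : Set G) ≃* alternatingGroup (Fin 6)) := by
  obtain ⟨z', y', t', f', u', φ, -, -, -, -, -, J⟩ := exists_jhyp Λ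
  exact J.equiv_alt

end Cfsg.Agent.SuzType.JFinal
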