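import Cfsg.Agent.SuzType.SuzPres
import Cfsg.Agent.SuzType.Swap

/-!
# The input of `SuzPres.main` from the structures `PreT` and `Canon`
-/

set_option autoImplicit false

namespace Cfsg.Agent.SuzType.SuzPresCanon

open Cfsg.Agent.SuzType.AltFive Cfsg.Agent.SuzType.PresRel Cfsg.Agent.SuzType.SuzPres
open Cfsg.Agent.SuzType.CanonG Cfsg.Agent.SuzType.Swap

variable {G : Type*} [Group G]

/-- If `9` does not divide `|C|` then an element of order dividing 3 commuting with an element `τ` of order 3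
is a power of `τ`. -/
theorem mem_zpowers_of_card [Finite G] {C : Subgroup G} (hC : ¬ 9 ∣ Nat.card C) {s v : G} (hs : s ∈ C) (hv : v ∈ C)
    (s3 : s ^ 3 = 1) (v3 : v ^ 3 = 1) (hne : v ≠ 1) (hcomm : s * v = v * s) : s ∈ Subgroup.zpowers v := by
  have hp : Fact (Nat.Prime 3) := ⟨Nat.prime_three⟩
  have pg : ∀ w : G, w ^ 3 = 1 → IsPGroup 3 (Subgroup.zpowers w) := by
    intro w hw
    rintro ⟨g, hg⟩
    obtain ⟨k, rfl⟩ := Subgroup.mem_zpowers_iff.mp hg
    refine ⟨1, ?_⟩
    ext
    show (w ^ k) ^ (3 ^ 1) = 1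
    rw [pow_one, ← zpow_natCast, ← zpow_mul, mul_comm, zpow_mul]
    rw [show (w : G) ^ ((3 : ℕ) : ℤ) = 1 from by exact_mod_cast hw, one_zpow]
  have hnorm : Subgroup.zpowers s ≤ Subgroup.normalizer (Subgroup.zpowers v : Set G) := by
    rw [Subgroup.zpowers_le, Subgroup.mem_normalizer_iff]
    intro w
    have key : ∀ a : G, a ∈ Subgroup.zpowers v → s * a * s⁻¹ = a := by
      intro a ha
      obtain ⟨k, rfl⟩ := Subgroup.mem_zpowers_iff.mp ha
      have : Commute s v := hcomm
      rw [(this.zpow_right k).eq, mul_inv_cancel_right]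
    constructor
    · intro h
      rw [key w h]; exact h
    · intro h
      have h2 := key _ h
      have h3 : s * w * s⁻¹ = w := by
        calc s * w * s⁻¹ = s⁻¹ * (s * (s * w * s⁻¹) * s⁻¹) * s := by group
          _ = s⁻¹ * (s * w * s⁻¹) * s := by rw [h2]
          _ = w := by group
      rw [h3] at h
      exact h
  have hP := IsPGroup.to_sup_of_normal_right' (pg s s3) (pg v v3) hnorm
  obtain ⟨n, hn⟩ := IsPGroup.iff_card.mp hP
  have hle : Subgroup.zpowers s ⊔ Subgroup.zpowers v ≤ C := by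
    rw [sup_le_iff, Subgroup.zpowers_le, Subgroup.zpowers_le]
    exact ⟨hs, hv⟩
  have hdvd := Subgroup.card_dvd_of_le hle
  rw [hn] at hdvd
  have hn1 : n ≤ 1 := by
    by_contra hcon
    push Not at hcon
    apply hC
    have : 3 ^ 2 ∣ 3 ^ n := pow_dvd_pow 3 (by omega)
    exact (this.trans hdvd)
  have hcard : Nat.card (Subgroup.zpowers v) = 3 := by
    rw [Nat.card_zpowers]
    exact orderOf_eq_prime v3 hne
  have heq : Subgroup.zpowers v = Subgroup.zpowers s ⊔ Subgroup.zpowers v := by
    refine Subgroup.eq_of_le_of_card_ge le_sup_right ?_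
    rw [hn, hcard]
    calc 3 ^ n ≤ 3 ^ 1 := Nat.pow_le_pow_right (by norm_num) hn1
      _ = 3 := by norm_num
  rw [heq]
  exact (le_sup_left : Subgroup.zpowers s ≤ _) (Subgroup.mem_zpowers s)

theorem card_conj [Finite G] {a b a' b' g : G} (ha : g * a * g⁻¹ = a') (hb : g * b * g⁻¹ = b') :
    Nat.card (Subgroup.centralizer ({a', b'} : Set G)) = Nat.card (Subgroup.centralizer ({a, b} : Set G)) := by
  have h : Subgroup.centralizer ({a', b'} : Set G) =
      (Subgroup.centralizer ({a, b} : Set G)).map (MulAut.conj g).toMonoidHom := by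
    have key : ∀ p q a b g : G, g * a * g⁻¹ = p → g * b * g⁻¹ = q → ∀ s : G, s * a = a * s → s * b = b * s →
        (g * s * g⁻¹) * p = p * (g * s * g⁻¹) ∧ (g * s * g⁻¹) * q = q * (g * s * g⁻¹) := by
      intro p q a b g h1 h2 s hs1 hs2
      rw [← h1, ← h2]
      constructor
      · calc g * s * g⁻¹ * (g * a * g⁻¹) = g * (s * a) * g⁻¹ := by group
          _ = g * (a * s) * g⁻¹ := by rw [hs1]
          _ = _ := by group
      · calc g * s * g⁻¹ * (g * b * g⁻¹) = g * (s * b) * g⁻¹ := by group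
          _ = g * (b * s) * g⁻¹ := by rw [hs2]
          _ = _ := by group
    ext s
    rw [Subgroup.mem_map, mem_cent_pair]
    constructor
    · rintro ⟨h1, h2⟩
      refine ⟨g⁻¹ * s * g, ?_, ?_⟩
      · rw [mem_cent_pair]
        have := key a b a' b' g⁻¹ (by rw [← ha]; group) (by rw [← hb]; group) s h1 h2
        simpa using this
      · show g * (g⁻¹ * s * g) * g⁻¹ = s
        group
    · rintro ⟨w, hw, rfl⟩
      rw [mem_cent_pair] at hw
      exact key a' b' a b g ha hb w hw.1 hw.2
  rw [h]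
  exact Subgroup.card_map_of_injective (MulAut.conj g).injective

section canon

variable {Q L : Subgroup G} {z y t : G} {c : Fin 5 → G} {κ : alternatingGroup (Fin 5) →* G}

/-- The Sylow condition, in a group with `PreT`. -/
theorem syl_of_canon [Finite G] (H : PreT Q z y t L) (K : Canon Q z y t L c κ) {i j : Fin 5} (hij : i ≠ j)
    {s v : G} (s3 : s ^ 3 = 1) (v3 : v ^ 3 = 1) (hv : v ≠ 1) (h1 : s * c i = c i * s) (h2 : s * c j = c j * s)
    (h3 : v * c i = c i * v) (h4 : v * c j = c j * v) (h5 : s * v = v * s) : s ∈ Subgroup.zpowers v := by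
  obtain ⟨g, -, hy, ht⟩ := H.pairs y t (c i) (c j) H.yQ H.tQ (K.c_mem i) (K.c_mem j) H.y2 H.t2 (K.c_sq i)
    (K.c_sq j) H.yt (K.c_anti i j hij)
  have hC := card_conj hy ht
  rw [H.cardC] at hC
  refine mem_zpowers_of_card (C := Subgroup.centralizer ({c i, c j} : Set G)) ?_ ?_ ?_ s3 v3 hv h5
  · rw [hC]; norm_num
  · rw [mem_cent_pair]; exact ⟨h1, h2⟩
  · rw [mem_cent_pair]; exact ⟨h3, h4⟩

/-- conjugation of `A₅` by a permutation -/
def cj (π : Equiv.Perm (Fin 5)) : alternatingGroup (Fin 5) →* alternatingGroup (Fin 5) where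
  toFun σ := ⟨π * σ * π⁻¹, by
    rw [Equiv.Perm.mem_alternatingGroup, map_mul, map_mul, map_inv, mul_comm, inv_mul_cancel_left]
    exact Equiv.Perm.mem_alternatingGroup.mp σ.2⟩
  map_one' := by ext; simp
  map_mul' σ ρ := by
    apply Subtype.ext
    show π * ((σ : Equiv.Perm (Fin 5)) * ρ) * π⁻¹ = π * σ * π⁻¹ * (π * ρ * π⁻¹)
    group

theorem cj_coe (π : Equiv.Perm (Fin 5)) (σ : alternatingGroup (Fin 5)) :
    ((cj π σ : alternatingGroup (Fin 5)) : Equiv.Perm (Fin 5)) = π * σ * π⁻¹ := rfl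

theorem cj_surj (π : Equiv.Perm (Fin 5)) : Function.Surjective (cj π) := by
  intro σ
  refine ⟨cj π⁻¹ σ, ?_⟩
  apply Subtype.ext
  rw [cj_coe, cj_coe]
  group

theorem cj_inj (π : Equiv.Perm (Fin 5)) : Function.Injective (cj π) := by
  intro σ ρ h
  have h1 := congrArg (fun w : alternatingGroup (Fin 5) => (w : Equiv.Perm (Fin 5))) h
  simp only [cj_coe] at h1
  apply Subtype.ext
  exact mul_left_cancel (mul_right_cancel h1)

theorem τ_ne : τ ≠ 1 := by
  intro h
  have := τ_two
  rw [h] at this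
  exact absurd this (by decide)

/-- **The input of `SuzPres.main` from `Canon`.** `f`, `u` are the two elements of order 3 centralising `L`,
`r` is `c k` or `z * c k`. -/
theorem dat_of_canon [Finite G] (H : PreT Q z y t L) (K : Canon Q z y t L c κ) {r f u : G} (k : Fin 5)
    (hr : r = c k ∨ r = z * c k) (hR : RelsL y t r f u) (fL : ∀ l ∈ L, l * f = f * l)
    (uL : ∀ l ∈ L, l * u = u * l) :
    ∃ (c' : Fin 5 → G) (κ' : alternatingGroup (Fin 5) →* G), Dat y t r f u c' κ' ∧ κ'.range = L ∧
      (∀ i, ∃ j, c' i = c j ∨ c' i = z * c j) ∧ (∀ j, ∃ i, c' i = c j ∨ c' i = z * c j) := by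
  have hzz := H.zz
  have hzd : (y * t) ^ 2 = z := by
    rw [pow_two]
    calc y * t * (y * t) = y * t * y * t := by group
      _ = z * (t * y) * y * t := by rw [H.yt]
      _ = z * (t * (y * y) * t) := by group
      _ = z := by rw [H.y2, mul_one, H.t2, mul_one]
  -- the sign
  obtain ⟨e, he, hre⟩ : ∃ e : G, (e = 1 ∨ e = z) ∧ r = e * c k := by
    rcases hr with h | h
    · exact ⟨1, Or.inl rfl, by rw [h, one_mul]⟩
    · exact ⟨z, Or.inr rfl, h⟩
  have he2 : e * e = 1 := by rcases he with rfl | rfl; exacts [one_mul 1, hzz]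
  have hzc : ∀ i, z * c i = c i * z := fun i => (H.D.com (c i) (K.c_mem i)).symm
  have hec : ∀ i, e * c i = c i * e := by
    intro i
    rcases he with rfl | rfl
    · rw [one_mul, mul_one]
    · exact hzc i
  have hκL : ∀ σ, κ σ ∈ L := fun σ => by rw [← K.κ_range]; exact ⟨σ, rfl⟩
  have heκ : ∀ σ, κ σ * e = e * κ σ := by
    intro σ
    rcases he with rfl | rfl
    · rw [one_mul, mul_one]
    · exact H.Lz _ (hκL σ)
  set π : Equiv.Perm (Fin 5) := Equiv.swap 0 k with hπ
  set κ' : alternatingGroup (Fin 5) →* G := κ.comp (cj π) with hκ'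
  have hκ'L : ∀ σ, κ' σ ∈ L := fun σ => hκL _
  set c' : Fin 5 → G := fun i => e * c (π i) with hc'
  have hconj : ∀ (σ : alternatingGroup (Fin 5)) i, κ' σ * c' i * (κ' σ)⁻¹ = c' ((σ : Equiv.Perm (Fin 5)) i) := by
    intro σ i
    show κ (cj π σ) * (e * c (π i)) * (κ (cj π σ))⁻¹ = e * c (π ((σ : Equiv.Perm (Fin 5)) i))
    have h1 := K.κ_conj (cj π σ) (π i)
    rw [cj_coe] at h1
    rw [← mul_assoc, heκ, mul_assoc e, mul_assoc e, h1]
    congr 2
    simp
  have hcsq : ∀ i, c' i * c' i = 1 := by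
    intro i
    show e * c (π i) * (e * c (π i)) = 1
    calc e * c (π i) * (e * c (π i)) = e * (c (π i) * e) * c (π i) := by group
      _ = e * (e * c (π i)) * c (π i) := by rw [hec]
      _ = (e * e) * (c (π i) * c (π i)) := by group
      _ = 1 := by rw [he2, K.c_sq, one_mul]
  have hanti0 : ∀ i j, i ≠ j → c' i * c' j = z * (c' j * c' i) := by
    intro i j hij
    have hij' : π i ≠ π j := fun h => hij (π.injective h)
    show e * c (π i) * (e * c (π j)) = z * (e * c (π j) * (e * c (π i)))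
    have e1 : e * c (π i) * (e * c (π j)) = c (π i) * c (π j) := by
      calc e * c (π i) * (e * c (π j)) = e * (c (π i) * e) * c (π j) := by group
        _ = e * (e * c (π i)) * c (π j) := by rw [hec]
        _ = (e * e) * (c (π i) * c (π j)) := by group
        _ = _ := by rw [he2, one_mul]
    have e2 : e * c (π j) * (e * c (π i)) = c (π j) * c (π i) := by
      calc e * c (π j) * (e * c (π i)) = e * (c (π j) * e) * c (π i) := by group
        _ = e * (e * c (π j)) * c (π i) := by rw [hec]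
        _ = (e * e) * (c (π j) * c (π i)) := by group
        _ = _ := by rw [he2, one_mul]
    rw [e1, e2]
    exact K.c_anti _ _ hij'
  have hcomm_c : ∀ (s : G) (i j : Fin 5), i ≠ j → s * c' i = c' i * s → s * c' j = c' j * s →
      s * c (π i) = c (π i) * s ∧ s * c (π j) = c (π j) * s := by
    intro s i j hij h1 h2
    have c1 : Commute s (c' i) := h1
    have c2 : Commute s (c' j) := h2
    have hz : Commute s z := by
      have e1 : z = c' i * c' j * (c' i * c' j) := by
        calc z = z * (c' j * (c' i * c' i) * c' j) := by rw [hcsq, mul_one, hcsq, mul_one]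
          _ = (z * (c' j * c' i)) * (c' i * c' j) := by group
          _ = _ := by rw [← hanti0 i j hij]
      rw [e1]
      exact (c1.mul_right c2).mul_right (c1.mul_right c2)
    have he' : Commute s e := by
      rcases he with rfl | rfl
      · exact Commute.one_right s
      · exact hz
    have back : ∀ i, c (π i) = e * c' i := by
      intro i
      show c (π i) = e * (e * c (π i))
      rw [← mul_assoc, he2, one_mul]
    rw [back i, back j]
    exact ⟨(he'.mul_right c1).eq, (he'.mul_right c2).eq⟩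
  refine ⟨c', κ', ?_, ?_, ?_, ?_⟩
  · exact {
      toRelsL := hR
      z_ne := by rw [hzd]; exact H.z_ne
      c_zero := by
        show e * c (π 0) = r
        rw [hre, hπ, Equiv.swap_apply_left]
      c_sq := hcsq
      c_anti := by
        intro i j hij
        rw [hzd]
        exact hanti0 i j hij
      κ_conj := hconj
      κx := fun σ => H.Ly _ (hκ'L σ)
      κy := fun σ => H.Lt _ (hκ'L σ)
      κt := fun σ => fL _ (hκ'L σ)
      κu := fun σ => uL _ (hκ'L σ)
      syl := by
        intro s s3 h1 h2 h3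
        obtain ⟨d1, d2⟩ := hcomm_c s 0 1 (by decide) h1 h2
        have t1 : κ' τ * c' 0 = c' 0 * κ' τ := by
          have := hconj τ 0
          rw [τ_zero] at this
          calc κ' τ * c' 0 = (κ' τ * c' 0 * (κ' τ)⁻¹) * κ' τ := by group
            _ = _ := by rw [this]
        have t2 : κ' τ * c' 1 = c' 1 * κ' τ := by
          have := hconj τ 1
          rw [τ_one] at this
          calc κ' τ * c' 1 = (κ' τ * c' 1 * (κ' τ)⁻¹) * κ' τ := by group
            _ = _ := by rw [this]
        obtain ⟨d3, d4⟩ := hcomm_c (κ' τ) 0 1 (by decide) t1 t2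
        have hinj : Function.Injective κ' := K.κ_inj.comp (cj_inj π)
        refine syl_of_canon H K (i := π 0) (j := π 1) (fun h => absurd (π.injective h) (by decide)) s3 ?_ ?_ d1 d2
          d3 d4 h3
        · rw [← map_pow, τ_cube, map_one]
        · intro h
          rw [← map_one κ'] at h
          exact τ_ne (hinj h) }
  · rw [← K.κ_range]
    ext s
    constructor
    · rintro ⟨σ, rfl⟩
      exact ⟨cj π σ, rfl⟩
    · rintro ⟨σ, rfl⟩
      obtain ⟨ρ, rfl⟩ := cj_surj π σ
      exact ⟨ρ, rfl⟩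
  · intro i
    refine ⟨π i, ?_⟩
    rcases he with h0 | h0
    · left; show e * c (π i) = _; rw [h0, one_mul]
    · right; show e * c (π i) = _; rw [h0]
  · intro j
    refine ⟨π j, ?_⟩
    have hjj : π (π j) = j := by rw [hπ]; simp
    rcases he with h0 | h0
    · left; show e * c (π (π j)) = _; rw [h0, one_mul, hjj]
    · right; show e * c (π (π j)) = _; rw [h0, hjj]

open Cfsg.Spor (Suz)
open Cfsg.Spor.Suz (Gen)

/-- **Node N6 in canonical form.** -/
theorem main [Finite G] (H : PreT Q z y t L) (K : Canon Q z y t L c κ) {r f u : G} (k : Fin 5)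
    (hr : r = c k ∨ r = z * c k) (hR : RelsL y t r f u) (fL : ∀ l ∈ L, l * f = f * l)
    (uL : ∀ l ∈ L, l * u = u * l) :
    ∃ φ : Suz →* G, Function.Injective φ ∧ φ (PresentedGroup.of Gen.a) = z ∧
      φ (PresentedGroup.of Gen.f) = y ∧ φ (PresentedGroup.of Gen.g) = t ∧
      f ∈ φ.range ∧ u ∈ φ.range ∧ L ≤ φ.range ∧ ∀ i, c i ∈ φ.range := by
  obtain ⟨c', κ', D, hL, -, hc⟩ := dat_of_canon H K k hr hR fL uL
  have hzd : (y * t) ^ 2 = z := by
    rw [pow_two]
    calc y * t * (y * t) = y * t * y * t := by group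
      _ = z * (t * y) * y * t := by rw [H.yt]
      _ = z * (t * (y * y) * t) := by group
      _ = z := by rw [H.y2, mul_one, H.t2, mul_one]
  obtain ⟨φ, hinj, ha, -, hf, hg, htm, hum, hcm, hκ⟩ := SuzPres.main D
  rw [hzd] at ha
  have hzm : z ∈ φ.range := ⟨_, ha⟩
  refine ⟨φ, hinj, ha, hf, hg, htm, hum, hL ▸ hκ, ?_⟩
  intro j
  obtain ⟨i, hi | hi⟩ := hc j
  · rw [← hi]; exact hcm i
  · have : c j = z * c' i := by rw [hi, ← mul_assoc, H.zz, one_mul]
    rw [this]
    exact mul_mem hzm (hcm i)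

end canon

end Cfsg.Agent.SuzType.SuzPresCanon
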