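import Cfsg.Agent.SuzType.CentIn
import Cfsg.Agent.SuzType.JFinal
import Cfsg.Agent.SuzType.SuzPresCanon

/-!
# Groups of Suzuki type: the embedding of the presented Suzuki group

`exists_embedding` : `φ : Spor.Suz →* G` injective with `φ a = z` and `C_G(z) ≤ φ.range`.
-/

set_option autoImplicit false

namespace Cfsg.Agent.SuzType.Embed

open Cfsg.Agent.J2Type.QStruct Cfsg.Agent.J2Type.Model
open Cfsg.Agent.ClassificationK.LargeSymplectic Cfsg.Agent.SuzType.CanonG Cfsg.Agent.SuzType.Swap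
  Cfsg.Agent.SuzType.RR Cfsg.Agent.SuzType.CentA4 Cfsg.Agent.SuzType.LocalRel
open Cfsg.Agent.LargeExtra Cfsg.Agent.LargeExtra.FourGroup
open Cfsg.Spor (Suz)

variable {G : Type*} [Group G]

/-- **The embedding.** -/
theorem exists_embedding [Finite G] {Q : Subgroup G} {z y g₀ : G} (H : SuzHyp Q z)
    (hy : g₀ * z * g₀⁻¹ = y) (hyQ : y ∈ Q) (hne : y ≠ z) :
    ∃ (t f u g : G) (L : Subgroup G) (c : Fin 5 → G) (κ : alternatingGroup (Fin 5) →* G),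
      Local Q z y t f u g L ∧ Canon Q z y t L c κ ∧
      (∀ c, c * z = z * c → c * y = y * c → ∃ a ∈ Q, ∃ b ∈ Q, ∃ l ∈ L, c = a * (f * b * f⁻¹) * l) ∧
      PresRel.RelsL y t (c 4) f⁻¹ u⁻¹ ∧
      ∃ φ : Suz →* G, Function.Injective φ ∧ φ (PresentedGroup.of Cfsg.Spor.Suz.Gen.a) = z ∧
        Q ≤ φ.range ∧ L ≤ φ.range ∧ f ∈ φ.range ∧ u ∈ φ.range ∧
        Subgroup.centralizer ({z} : Set G) ≤ φ.range := by
  obtain ⟨t, f, u, g, L, Λ, hc⟩ := CentIn.exists_local₂ H hy hyQ hne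
  obtain ⟨c₀, κ₀, K₀⟩ := Λ.toPreT.toPre.exists_canon
  obtain ⟨j1, j2⟩ := JFinal.j_rels Λ
  obtain ⟨c, κ, K, l1, l2⟩ := PlaneRel.exists_canon Λ K₀ j1 j2
  have hR : PresRel.RelsL y t (c 4) f⁻¹ u⁻¹ :=
    { PlaneRel.plane_rels Λ K with
      j1 := j1
      j2 := by rw [inv_inv]; exact j2
      l1 := l1
      l2 := by rw [inv_inv]; exact l2 }
  have comm_inv : ∀ l v : G, l * v = v * l → l * v⁻¹ = v⁻¹ * l := by
    intro l v h
    have : Commute l v := h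
    exact this.inv_right.eq
  obtain ⟨φ, hinj, ha, hf, hg, hfm, hum, hL, hcm⟩ := SuzPresCanon.main Λ.toPreT K 4 (Or.inl rfl) hR
    (fun l hl => comm_inv _ _ (Λ.fL l hl)) (fun l hl => comm_inv _ _ (Λ.uL l hl))
  have hfm' : f ∈ φ.range := inv_mem_iff.1 hfm
  have hum' : u ∈ φ.range := inv_mem_iff.1 hum
  have hQ : Q ≤ φ.range := CentIn.Q_le Λ.toPreT.toPre K ⟨_, hf⟩ ⟨_, hg⟩ hcm
  exact ⟨t, f, u, g, L, c, κ, Λ, K, hc, hR, φ, hinj, ha, hQ, hL, hfm', hum',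
    CentIn.cent_le Λ K hc hQ hL hfm' hum'⟩

end Cfsg.Agent.SuzType.Embed
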