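import Mathlib
import Cfsg.Agent.S0848
import Cfsg.Agent.S0497
import Cfsg.Agent.J3Type.Extra
import Cfsg.Agent.SporadicB.DihedralLift
import Cfsg.Agent.SuzType.ASixRel
import Cfsg.Agent.J2Type.Model

/-!
# The group `J = ⟨y, t, f, u⟩ ≅ A₆`
-/

set_option autoImplicit false

namespace Cfsg.Agent.SuzType.JGroup

open Subgroup Cfsg.Agent.J3Type.ExistsW Cfsg.Agent.J2Type.Model

/-- The abstract situation. -/
structure JHyp {J : Type*} [Group J] (z y t f u : J) (φ : J ≃* J) : Prop where
  z1 : z ≠ 1
  zz : z * z = 1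
  zy : z * y = y * z
  zt : z * t = t * z
  yy : y * y = 1
  tt : t * t = 1
  yt : y * t = z * (t * y)
  f3 : f * f * f = 1
  u3 : u * u * u = 1
  fz : f * z * f⁻¹ = y
  fy : f * y * f⁻¹ = z * y
  tf : t * f * t⁻¹ = f⁻¹
  uz : u * z * u⁻¹ = t
  ut : u * t * u⁻¹ = z * t
  yu : y * u * y⁻¹ = u⁻¹
  gen : closure ({y, t, f, u} : Set J) = ⊤
  hC : ∀ x, x * z = z * x → ∃ a : ZMod 2, x = zp z a ∨ x = zp z a * y ∨ x = zp z a * t ∨
    x = zp z a * (y * t)
  φz : φ z = z
  φy : φ y = t
  φt : φ t = y
  φφ : ∀ x, φ (φ x) = z * x * z⁻¹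

namespace JHyp

variable {J : Type*} [Group J] {z y t f u : J} {φ : J ≃* J} (H : JHyp z y t f u φ)
include H

theorem ty : t * y = z * (y * t) := by rw [H.yt, ← mul_assoc, H.zz, one_mul]

theorem sq_yt : (y * t) * (y * t) = z := by
  calc y * t * (y * t) = z * (t * y) * (y * t) := by rw [← H.yt]
    _ = z * t * (y * y) * t := by group
    _ = z * (t * t) := by rw [H.yy]; group
    _ = z := by rw [H.tt, mul_one]

theorem y1 : y ≠ 1 := by
  intro h
  have := H.yt
  rw [h, one_mul, mul_one] at this
  exact H.z1 (mul_eq_right.1 this.symm)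

theorem t1 : t ≠ 1 := by
  intro h
  have := H.yt
  rw [h, one_mul, mul_one] at this
  exact H.z1 (mul_eq_right.1 this.symm)

theorem ordz : orderOf z = 2 := orderOf_eq_prime (by rw [pow_two, H.zz]) H.z1
theorem ordy : orderOf y = 2 := orderOf_eq_prime (by rw [pow_two, H.yy]) H.y1
theorem ordt : orderOf t = 2 := orderOf_eq_prime (by rw [pow_two, H.tt]) H.t1

theorem ordyt : orderOf (y * t) = 4 := by
  have h2 : (y * t) ^ 2 = z := by rw [pow_two, H.sq_yt]
  have : orderOf (y * t) = 2 ^ (1 + 1) := by
    apply orderOf_eq_prime_pow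
    · rw [pow_one, h2]; exact H.z1
    · have : (y * t) ^ 2 ^ (1 + 1) = ((y * t) ^ 2) ^ 2 := by rw [← pow_mul]; norm_num
      rw [this, h2, pow_two, H.zz]
  simpa using this

theorem mem_D_of {x : J} (h : ∃ a : ZMod 2, x = zp z a ∨ x = zp z a * y ∨ x = zp z a * t ∨
    x = zp z a * (y * t)) : x ∈ closure ({y, t} : Set J) := by
  have hy : y ∈ closure ({y, t} : Set J) := subset_closure (by simp)
  have ht : t ∈ closure ({y, t} : Set J) := subset_closure (by simp)
  have hz : z ∈ closure ({y, t} : Set J) := by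
    rw [← H.sq_yt]; exact mul_mem (mul_mem hy ht) (mul_mem hy ht)
  have hzp : ∀ a, zp z a ∈ closure ({y, t} : Set J) := by
    intro a
    rcases zmod2_cases a with rfl | rfl
    · rw [zp_zero]; exact one_mem _
    · rw [zp_one]; exact hz
  obtain ⟨a, rfl | rfl | rfl | rfl⟩ := h
  · exact hzp a
  · exact mul_mem (hzp a) hy
  · exact mul_mem (hzp a) ht
  · exact mul_mem (hzp a) (mul_mem hy ht)

theorem cent_eq : centralizer ({z} : Set J) = closure ({y, t} : Set J) := by
  apply le_antisymm
  · intro x hx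
    exact H.mem_D_of (H.hC x (mem_centralizer_singleton_iff.1 hx))
  · rw [closure_le]
    rintro x (rfl | hx)
    · exact mem_centralizer_singleton_iff.2 H.zy.symm
    · rw [Set.mem_singleton_iff] at hx
      subst hx
      exact mem_centralizer_singleton_iff.2 H.zt.symm

theorem equiv_D : Nonempty (centralizer ({z} : Set J) ≃* DihedralGroup 4) := by
  rw [H.cent_eq]
  exact Cfsg.Agent.SporadicB.DihedralLift.closure_pair_equiv_dihedral' H.ordy H.ordt H.ordyt

theorem perfect : commutator J = ⊤ := by
  rw [eq_top_iff, ← H.gen, closure_le]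
  have hcm : ∀ a b : J, a * b * a⁻¹ * b⁻¹ ∈ commutator J := fun a b =>
    commutator_mem_commutator (mem_top a) (mem_top b)
  have hz : z ∈ commutator J := by
    have h1 := hcm y t
    have h2 : y * t * y⁻¹ * t⁻¹ = z := by rw [H.yt]; group
    rwa [h2] at h1
  have hn : (commutator J).Normal := inferInstance
  have hy : y ∈ commutator J := by rw [← H.fz]; exact hn.conj_mem _ hz _
  have ht : t ∈ commutator J := by rw [← H.uz]; exact hn.conj_mem _ hz _
  have cube : ∀ w : J, w * w * w = 1 → w⁻¹ * w⁻¹ = w := by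
    intro w hw
    calc w⁻¹ * w⁻¹ = w⁻¹ * w⁻¹ * (w * w * w) := by rw [hw, mul_one]
      _ = w := by group
  have hf : f ∈ commutator J := by
    have h1 := hcm t f
    rwa [H.tf, cube f H.f3] at h1
  have hu : u ∈ commutator J := by
    have h1 := hcm y u
    rwa [H.yu, cube u H.u3] at h1
  rintro x (rfl | rfl | rfl | hx)
  · exact hy
  · exact ht
  · exact hf
  · rw [Set.mem_singleton_iff] at hx
    subst hx; exact hu

theorem card_cases [Finite J] : Nat.card J = 168 ∨ Nat.card J = 360 := by
  obtain ⟨e⟩ := H.equiv_D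
  exact Cfsg.Agent.S0848.result H.perfect z H.ordz e

/-- conjugates of `z` among the involutions of `D` -/
theorem conj_D {x : J} (hx : x ∈ closure ({y, t} : Set J)) (hx1 : x ≠ 1) (hxx : x * x = 1) :
    ∃ g : J, g * z * g⁻¹ = x := by
  rw [← H.cent_eq] at hx
  have zinv : z⁻¹ = z := inv_eq_of_mul_eq_one_left H.zz
  obtain ⟨a, h | h | h | h⟩ := H.hC x (mem_centralizer_singleton_iff.1 hx)
  · rcases zmod2_cases a with rfl | rfl
    · exact absurd (h.trans (zp_zero z)) hx1
    · exact ⟨1, by rw [h, zp_one]; group⟩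
  · rcases zmod2_cases a with rfl | rfl
    · exact ⟨f, by rw [h, zp_zero, one_mul, H.fz]⟩
    · refine ⟨f * f, ?_⟩
      rw [h, zp_one]
      calc f * f * z * (f * f)⁻¹ = f * (f * z * f⁻¹) * f⁻¹ := by group
        _ = z * y := by rw [H.fz, H.fy]
  · rcases zmod2_cases a with rfl | rfl
    · exact ⟨u, by rw [h, zp_zero, one_mul, H.uz]⟩
    · refine ⟨u * u, ?_⟩
      rw [h, zp_one]
      calc u * u * z * (u * u)⁻¹ = u * (u * z * u⁻¹) * u⁻¹ := by group
        _ = z * t := by rw [H.uz, H.ut]
  · exfalso
    have e1 : x * x = z := by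
      rcases zmod2_cases a with rfl | rfl
      · rw [h, zp_zero, one_mul, H.sq_yt]
      · have hc : z * (y * t) = (y * t) * z := by
          have c1 : Commute z y := H.zy
          have c2 : Commute z t := H.zt
          exact c1.mul_right c2
        rw [h, zp_one]
        calc z * (y * t) * (z * (y * t)) = z * ((y * t) * z) * (y * t) := by group
          _ = (z * z) * ((y * t) * (y * t)) := by rw [← hc]; group
          _ = z := by rw [H.sq_yt, H.zz, one_mul]
    rw [hxx] at e1
    exact H.z1 e1.symm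

theorem card_D : Nat.card (closure ({y, t} : Set J)) = 8 := by
  obtain ⟨e⟩ := H.equiv_D
  rw [H.cent_eq] at e
  rw [Nat.card_congr e.toEquiv, dih_card]

theorem hd8 [Finite J] : HD8 J := by
  have : Fact (Nat.Prime 2) := ⟨Nat.prime_two⟩
  intro s hs
  have hfac : (Nat.card J).factorization 2 = 3 := by
    have key : ∀ m : ℕ, m ≠ 0 → ¬ 2 ∣ m → (2 ^ 3 * m).factorization 2 = 3 := by
      intro m hm h2
      rw [Nat.factorization_mul (by norm_num) hm, Finsupp.add_apply,
        Nat.Prime.factorization_pow Nat.prime_two, Finsupp.single_eq_same,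
        Nat.factorization_eq_zero_of_not_dvd h2]
    rcases H.card_cases with h | h
    · rw [h]; exact key 21 (by norm_num) (by norm_num)
    · rw [h]; exact key 45 (by norm_num) (by norm_num)
  let S : Sylow 2 J := Sylow.ofCard (closure ({y, t} : Set J)) (by rw [hfac, H.card_D]; norm_num)
  have hp : IsPGroup 2 (zpowers s) := by
    apply IsPGroup.of_card (n := 1)
    rw [Nat.card_zpowers, hs, pow_one]
  obtain ⟨P, hP⟩ := hp.exists_le_sylow
  obtain ⟨g, hg⟩ := MulAction.exists_smul_eq J P S
  have hsS : g * s * g⁻¹ ∈ (S : Subgroup J) := by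
    rw [← hg]
    exact Subgroup.smul_mem_pointwise_smul s (MulAut.conj g) _ (hP (mem_zpowers s))
  have hss : s * s = 1 := by rw [← pow_two, ← hs]; exact pow_orderOf_eq_one s
  have hs1 : s ≠ 1 := by rintro rfl; simp at hs
  obtain ⟨k, hk⟩ := H.conj_D (x := g * s * g⁻¹) hsS
    (by
      intro h
      apply hs1
      calc s = g⁻¹ * (g * s * g⁻¹) * g := by group
        _ = 1 := by rw [h]; group)
    (by
      calc g * s * g⁻¹ * (g * s * g⁻¹) = g * (s * s) * g⁻¹ := by group
        _ = 1 := by rw [hss]; group)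
  have hk' : (g⁻¹ * k) * z * (g⁻¹ * k)⁻¹ = s := by
    calc (g⁻¹ * k) * z * (g⁻¹ * k)⁻¹ = g⁻¹ * (k * z * k⁻¹) * g := by group
      _ = s := by rw [hk]; group
  obtain ⟨e⟩ := H.equiv_D
  exact ⟨(Cfsg.Agent.J3Type.OneClass.conjEquiv _ z s hk').symm.trans e⟩

theorem simple [Finite J] : IsSimpleGroup J :=
  Cfsg.Agent.J3Type.Extra.isSimple H.hd8 H.ordz

theorem not_168 [Finite J] : Nat.card J ≠ 168 := by
  intro h168
  have h7 : Fact (Nat.Prime 7) := ⟨by norm_num⟩
  have hsimple := H.simple
  -- a Sylow 7-subgroup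
  obtain ⟨P⟩ : Nonempty (Sylow 7 J) := inferInstance
  have hPcard : Nat.card P = 7 := by
    rw [P.card_eq_multiplicity, h168]
    have : (168 : ℕ).factorization 7 = 1 := by
      rw [show (168 : ℕ) = 7 ^ 1 * 24 by norm_num, Nat.factorization_mul (by norm_num) (by norm_num),
        Finsupp.add_apply, Nat.Prime.factorization_pow (by norm_num : Nat.Prime 7),
        Finsupp.single_eq_same, Nat.factorization_eq_zero_of_not_dvd (by norm_num)]
    rw [this, pow_one]
  have hmod : Nat.card (Sylow 7 J) ≡ 1 [MOD 7] := card_sylow_modEq_one 7 J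
  have hdvd : Nat.card (Sylow 7 J) ∣ 24 := by
    have h1 := P.card_dvd_index
    have h2 := (P : Subgroup J).card_mul_index
    rw [hPcard, h168] at h2
    have h3 : (P : Subgroup J).index = 24 := by omega
    rwa [h3] at h1
  have hcard : Nat.card (Sylow 7 J) = 1 ∨ Nat.card (Sylow 7 J) = 8 := by
    have hle : Nat.card (Sylow 7 J) ≤ 24 := Nat.le_of_dvd (by norm_num) hdvd
    generalize Nat.card (Sylow 7 J) = n at hmod hdvd hle
    unfold Nat.ModEq at hmod
    interval_cases n <;> omega
  have h8 : Nat.card (Sylow 7 J) = 8 := by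
    rcases hcard with h | h
    · exfalso
      have hn : (P : Subgroup J).Normal := by
        rw [← Subgroup.normalizer_eq_top_iff]
        have := P.card_eq_index_normalizer
        rw [h] at this
        exact Subgroup.index_eq_one.1 this.symm
      rcases hn.eq_bot_or_eq_top with h1 | h1
      · have : Nat.card P = 1 := by
          rw [show (P : Subgroup J) = ⊥ from h1]; exact Subgroup.card_bot
        omega
      · have : Nat.card P = 168 := by
          rw [show (P : Subgroup J) = ⊤ from h1, Subgroup.card_top, h168]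
        omega
    · exact h
  -- D acts semiregularly
  have hsemi : ∀ d ∈ closure ({y, t} : Set J), MulAut.conj d • P = P → d = 1 := by
    intro d hd hdP
    by_contra hd1
    have hdN : d ∈ normalizer (P : Set J) := by
      rw [← Sylow.smul_eq_iff_mem_normalizer]
      exact hdP
    have hN : Nat.card (normalizer (P : Set J)) = 21 := by
      have h1 := P.card_eq_index_normalizer
      have h2 := (normalizer (P : Set J)).card_mul_index
      rw [← h1, h8, h168] at h2
      omega
    have ho1 : orderOf d ∣ 21 := by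
      have := orderOf_dvd_natCard (⟨d, hdN⟩ : normalizer (P : Set J))
      rw [hN] at this
      rwa [← Subgroup.orderOf_coe] at this
    have ho2 : orderOf d ∣ 8 := by
      have := orderOf_dvd_natCard (⟨d, hd⟩ : closure ({y, t} : Set J))
      rw [H.card_D] at this
      rwa [← Subgroup.orderOf_coe] at this
    have ho3 : orderOf d ∣ 1 := by
      have := Nat.dvd_gcd ho1 ho2
      simpa using this
    exact hd1 (orderOf_eq_one_iff.1 (Nat.dvd_one.1 ho3))
  -- so it acts regularly
  let F : closure ({y, t} : Set J) → Sylow 7 J := fun d => MulAut.conj (d : J) • P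
  have hF : Function.Injective F := by
    intro a b hab
    have h1 : MulAut.conj ((b : J)⁻¹ * a) • P = P := by
      rw [map_mul, mul_smul]
      have : MulAut.conj (a : J) • P = MulAut.conj (b : J) • P := hab
      rw [this, map_inv, inv_smul_smul]
    have h2 := hsemi _ (mul_mem (inv_mem b.2) a.2) h1
    exact Subtype.ext (inv_mul_eq_one.1 h2).symm
  have hFb : Function.Bijective F := hF.bijective_of_nat_card_le (by rw [h8, H.card_D])
  obtain ⟨d, hd⟩ := hFb.2 ((φ : MulAut J) • P)
  have hd' : MulAut.conj (d : J) • P = (φ : MulAut J) • P := hd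
  -- the element d⁻¹ φ(d)⁻¹ z fixes P
  have e1 : (φ : MulAut J) * MulAut.conj (d : J) = MulAut.conj (φ (d : J)) * (φ : MulAut J) := by
    apply MulEquiv.ext
    intro x
    show φ (d * x * (d : J)⁻¹) = φ d * φ x * (φ d)⁻¹
    rw [map_mul, map_mul, map_inv]
  have e2 : (φ : MulAut J) * (φ : MulAut J) = MulAut.conj z := by
    apply MulEquiv.ext
    intro x
    show φ (φ x) = z * x * z⁻¹
    exact H.φφ x
  have e3 : MulAut.conj ((φ (d : J) * d)⁻¹ * z) • P = P := by
    have h1 : (φ : MulAut J) • (MulAut.conj (d : J) • P) = MulAut.conj z • P := by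
      rw [hd', ← mul_smul, e2]
    rw [← mul_smul, e1, mul_smul, ← hd', ← mul_smul, ← map_mul] at h1
    rw [map_mul, mul_smul, ← h1, map_inv, inv_smul_smul]
  have hzD : z ∈ closure ({y, t} : Set J) := by
    rw [← H.cent_eq]; exact mem_centralizer_singleton_iff.2 rfl
  have hmemD : ∀ x : J, x ∈ closure ({y, t} : Set J) ↔ x * z = z * x := by
    intro x
    rw [← H.cent_eq, mem_centralizer_singleton_iff]
  have hdc : (d : J) * z = z * d := (hmemD _).1 d.2
  have hφD : φ (d : J) ∈ closure ({y, t} : Set J) := by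
    rw [hmemD]
    have := congrArg φ hdc
    rwa [map_mul, map_mul, H.φz] at this
  have e4 := hsemi _ (mul_mem (inv_mem (mul_mem hφD d.2)) hzD) e3
  have e5 : φ (d : J) * d = z := by
    rw [inv_mul_eq_one] at e4
    exact e4
  -- but this never happens
  have hdz : ∃ a : ZMod 2, (d : J) = zp z a ∨ (d : J) = zp z a * y ∨ (d : J) = zp z a * t ∨
      (d : J) = zp z a * (y * t) := H.hC _ hdc
  have hφzp : ∀ a, φ (zp z a) = zp z a := by
    intro a
    rcases zmod2_cases a with rfl | rfl
    · rw [zp_zero, map_one]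
    · rw [zp_one, H.φz]
  have hzpc : ∀ a (x : J), z * x = x * z → zp z a * x = x * zp z a := by
    intro a x hx
    rcases zmod2_cases a with rfl | rfl
    · rw [zp_zero, one_mul, mul_one]
    · rw [zp_one, hx]
  have hzp2 : ∀ a, zp z a * zp z a = 1 := by
    intro a
    rcases zmod2_cases a with rfl | rfl
    · rw [zp_zero, one_mul]
    · rw [zp_one, H.zz]
  have key : ∀ (a : ZMod 2) (w w' : J), z * w' = w' * z → (zp z a * w') * (zp z a * w) = w' * w := by
    intro a w w' hw
    calc (zp z a * w') * (zp z a * w) = zp z a * (w' * zp z a) * w := by group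
      _ = (zp z a * zp z a) * (w' * w) := by rw [← hzpc a w' hw]; group
      _ = w' * w := by rw [hzp2, one_mul]
  obtain ⟨a, ha | ha | ha | ha⟩ := hdz
  · rw [ha, hφzp, hzp2] at e5
    exact H.z1 e5.symm
  · rw [ha, map_mul, hφzp, H.φy, key a y t H.zt, H.ty] at e5
    have : y * t = 1 := mul_eq_left.1 e5
    have h4 := H.ordyt
    rw [this, orderOf_one] at h4
    norm_num at h4
  · rw [ha, map_mul, hφzp, H.φt, key a t y H.zy] at e5
    have h4 := H.ordyt
    rw [e5, H.ordz] at h4
    norm_num at h4
  · have hc : z * (t * y) = (t * y) * z := by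
      have c1 : Commute z y := H.zy
      have c2 : Commute z t := H.zt
      exact c2.mul_right c1
    rw [ha, map_mul, hφzp, map_mul, H.φy, H.φt, key a (y * t) (t * y) hc] at e5
    have : t * y * (y * t) = 1 := by
      calc t * y * (y * t) = t * (y * y) * t := by group
        _ = 1 := by rw [H.yy, mul_one, H.tt]
    rw [this] at e5
    exact H.z1 e5.symm

theorem card_eq [Finite J] : Nat.card J = 360 := by
  rcases H.card_cases with h | h
  · exact absurd h H.not_168
  · exact h

theorem equiv_alt [Finite J] : Nonempty (J ≃* alternatingGroup (Fin 6)) := by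
  have := H.simple
  exact Cfsg.Agent.S0497.result H.card_eq

/-- The relations of `J ≅ A₆`. -/
theorem rels [Finite J] : (f * u) ^ 5 = 1 ∧ (f⁻¹ * u) ^ 4 = 1 := by
  obtain ⟨e⟩ := H.equiv_alt
  let ψ : J →* Equiv.Perm (Fin 6) := (alternatingGroup (Fin 6)).subtype.comp e.toMonoidHom
  have hψ : Function.Injective ψ := Subtype.val_injective.comp e.injective
  have hsign : ∀ x, Equiv.Perm.sign (ψ x) = 1 := fun x =>
    Equiv.Perm.mem_alternatingGroup.1 (e x).2
  have hfinv : f⁻¹ = f * f := by
    rw [inv_eq_iff_mul_eq_one, ← mul_assoc]; exact H.f3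
  have huinv : u⁻¹ = u * u := by
    rw [inv_eq_iff_mul_eq_one, ← mul_assoc]; exact H.u3
  have htinv : t⁻¹ = t := inv_eq_of_mul_eq_one_left H.tt
  have hyinv : y⁻¹ = y := inv_eq_of_mul_eq_one_left H.yy
  have key := ASixRel.rel (z := ψ z) (y := ψ y) (t := ψ t) (f := ψ f) (u := ψ u) (hsign z) (hsign y)
    (by rw [← map_one ψ]; exact fun h => H.z1 (hψ h))
    (by rw [← map_mul, H.zz, map_one]) (by rw [← map_mul, H.yy, map_one])
    (by rw [← map_mul, ← map_mul, H.zy]) (by rw [← map_mul, H.tt, map_one])
    (by rw [← map_mul, ← map_mul, H.sq_yt])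
    (by
      rw [← map_mul, ← map_mul]
      congr 1
      rw [← H.fz]; group)
    (by
      rw [← map_mul, ← map_mul, ← map_mul]
      congr 1
      have := H.tf
      rw [htinv, hfinv] at this
      exact this)
    (by rw [← map_mul, ← map_mul, H.f3, map_one])
    (by
      rw [← map_mul, ← map_mul]
      congr 1
      rw [← H.uz]; group)
    (by
      rw [← map_mul, ← map_mul, ← map_mul]
      congr 1
      have := H.yu
      rw [hyinv, huinv] at this
      exact this)
    (by rw [← map_mul, ← map_mul, H.u3, map_one])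
  constructor
  · apply hψ
    rw [map_pow, map_mul, map_one]
    exact key.1
  · apply hψ
    rw [map_pow, map_mul, hfinv, map_mul, map_one]
    exact key.2

end JHyp

end Cfsg.Agent.SuzType.JGroup
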