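import Mathlib
import Cfsg.Agent.SuzType.Swap
import Cfsg.Agent.SuzType.JGroup

/-!
# The normalised swap has square `z`, and `J = ⟨y, t, f, u⟩ ≅ A₆` inside `G`
-/

set_option autoImplicit false

namespace Cfsg.Agent.SuzType.JNode

open Cfsg.Agent.J2Type.Model
open Cfsg.Agent.ClassificationK.LargeSymplectic
open Cfsg.Agent.SuzType.CanonG Cfsg.Agent.SuzType.CanonG.Pre
open Cfsg.Agent.SuzType.Swap Cfsg.Agent.SuzType.Swap.PreT

variable {G : Type*} [Group G]

section Swap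

variable [Finite G] {Q L : Subgroup G} {z y t : G} (H : PreT Q z y t L)
variable {c : Fin 5 → G} {κ : alternatingGroup (Fin 5) →* G} (K : Canon Q z y t L c κ)
include H K

omit H [Finite G] in
theorem κ_mem (σ : alternatingGroup (Fin 5)) : κ σ ∈ L := by rw [← K.κ_range]; exact ⟨σ, rfl⟩

omit H K [Finite G] [Group G] in
theorem s01_odd (π : Equiv.Perm (Fin 5)) (h : Equiv.Perm.sign π = -1) :
    Equiv.Perm.sign (π⁻¹ * Equiv.swap 0 1) = 1 := by
  rw [map_mul, map_inv, h, Equiv.Perm.sign_swap (by decide)]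
  decide

omit [Finite G] in
/-- the canonical parametrisation is determined by the action on the classes -/
theorem conj_κ {g : G} (hL : ∀ x, x ∈ L ↔ g * x * g⁻¹ ∈ L)
    {π : Equiv.Perm (Fin 5)} (hπ : ∀ i, g * c i * g⁻¹ = c (π i) ∨ g * c i * g⁻¹ = z * c (π i))
    (σ : alternatingGroup (Fin 5)) : ∃ σ' : alternatingGroup (Fin 5),
      g * κ σ * g⁻¹ = κ σ' ∧ ∀ i, (σ' : Equiv.Perm (Fin 5)) (π i) = π ((σ : Equiv.Perm (Fin 5)) i) := by
  have h1 : g * κ σ * g⁻¹ ∈ L := (hL _).1 (κ_mem K σ)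
  rw [← K.κ_range] at h1
  obtain ⟨σ', hσ'⟩ := h1
  refine ⟨σ', hσ'.symm, ?_⟩
  intro i
  have hlz : Commute (κ σ') z := H.toPre.Lz _ (κ_mem K σ')
  -- compute g κσ c_i κσ⁻¹ g⁻¹ in two ways
  have e1 : g * (κ σ * c i * (κ σ)⁻¹) * g⁻¹ = κ σ' * (g * c i * g⁻¹) * (κ σ')⁻¹ := by
    rw [hσ']; group
  have e2 := hπ ((σ : Equiv.Perm (Fin 5)) i)
  rw [← K.κ_conj, e1] at e2
  have e3 : κ σ' * (g * c i * g⁻¹) * (κ σ')⁻¹ = c ((σ' : Equiv.Perm (Fin 5)) (π i)) ∨
      κ σ' * (g * c i * g⁻¹) * (κ σ')⁻¹ = z * c ((σ' : Equiv.Perm (Fin 5)) (π i)) := by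
    rcases hπ i with h | h
    · left; rw [h, K.κ_conj]
    · right
      rw [h]
      calc κ σ' * (z * c (π i)) * (κ σ')⁻¹ = (κ σ' * z) * c (π i) * (κ σ')⁻¹ := by group
        _ = z * (κ σ' * c (π i) * (κ σ')⁻¹) := by rw [hlz.eq]; group
        _ = _ := by rw [K.κ_conj]
  exact cls_eq K e3 e2

omit H K [Finite G] [Group G] in
theorem trans_facts : ∀ i j : Fin 5, ∃ σ : Equiv.Perm (Fin 5), Equiv.Perm.sign σ = 1 ∧ σ i = j := by
  decide +kernel

omit H [Finite G] in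
theorem prod_swap_facts (D : Data Q z) (a : ZMod 2) :
    (zp z a * c 1) * (zp z a * c 0) * (zp z a * c 2) * (zp z a * c 3) * (zp z a * c 4) =
      zp z a * z := by
  have hzz := D.sqz
  have hz : ∀ i, z * c i = c i * z := fun i => zc K D i
  have key : (c 1) * (c 0) * (c 2) * (c 3) * (c 4) = z := by
    rw [K.c_anti 1 0 (by decide)]
    calc z * (c 0 * c 1) * c 2 * c 3 * c 4 = z * (c 0 * c 1 * c 2 * c 3 * c 4) := by group
      _ = z := by rw [K.c_prod, mul_one]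
  rcases zmod2_cases a with rfl | rfl
  · simp only [zp_zero, one_mul]
    exact key
  · simp only [zp_one]
    have c' : ∀ i, Commute z (c i) := hz
    calc z * c 1 * (z * c 0) * (z * c 2) * (z * c 3) * (z * c 4)
        = z * (c 1 * z) * c 0 * z * (c 2 * z) * c 3 * z * c 4 := by group
      _ = z * (z * c 1) * c 0 * z * (z * c 2) * c 3 * z * c 4 := by rw [← hz 1, ← hz 2]
      _ = (z * z) * c 1 * c 0 * (z * z) * c 2 * (c 3 * z) * c 4 := by group
      _ = c 1 * c 0 * (c 2 * z) * c 3 * c 4 := by rw [hzz, ← hz 3]; group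
      _ = c 1 * (c 0 * z) * c 2 * c 3 * c 4 := by rw [← hz 2]; group
      _ = (c 1 * z) * c 0 * c 2 * c 3 * c 4 := by rw [← hz 0]; group
      _ = z * (c 1 * c 0 * c 2 * c 3 * c 4) := by rw [← hz 1]; group
      _ = z * z := by rw [key]

/-- Normalising a swap: action on the `c i`. -/
theorem norm_act {g : G} (hgz : g * z = z * g) (hgy : g * y * g⁻¹ = t) (hgt : g * t * g⁻¹ = y)
    (hL : ∀ x, x ∈ L ↔ g * x * g⁻¹ ∈ L) :
    ∃ l ∈ L, ∀ i, (g * l) * c i * (g * l)⁻¹ = z * c (Equiv.swap 0 1 i) := by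
  obtain ⟨π, hπ, hodd⟩ := H.exists_odd K hgz hgy hgt
  let σ : alternatingGroup (Fin 5) := ⟨π⁻¹ * Equiv.swap 0 1,
    Equiv.Perm.mem_alternatingGroup.2 (s01_odd π hodd)⟩
  have hlL := κ_mem K σ
  refine ⟨κ σ, hlL, ?_⟩
  set g1 := g * κ σ with hg1
  have cgz : Commute g z := hgz
  have clz : Commute (κ σ) z := H.toPre.Lz _ hlL
  have hs : ∀ i, g1 * c i * g1⁻¹ = c (Equiv.swap 0 1 i) ∨ g1 * c i * g1⁻¹ = z * c (Equiv.swap 0 1 i) := by
    intro i
    have e1 : g1 * c i * g1⁻¹ = g * (κ σ * c i * (κ σ)⁻¹) * g⁻¹ := by rw [hg1]; group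
    have e2 : π ((σ : Equiv.Perm (Fin 5)) i) = Equiv.swap 0 1 i := by
      show π (π⁻¹ (Equiv.swap 0 1 i)) = _
      exact π.apply_symm_apply _
    rw [e1, K.κ_conj, ← e2]
    exact hπ _
  have hL1 : ∀ x, x ∈ L ↔ g1 * x * g1⁻¹ ∈ L := by
    intro x
    have e1 : g1 * x * g1⁻¹ = g * (κ σ * x * (κ σ)⁻¹) * g⁻¹ := by rw [hg1]; group
    rw [e1, ← hL]
    constructor
    · intro hx; exact mul_mem (mul_mem hlL hx) (inv_mem hlL)
    · intro hx
      have h2 := mul_mem (mul_mem (inv_mem hlL) hx) hlL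
      have h3 : (κ σ)⁻¹ * (κ σ * x * (κ σ)⁻¹) * κ σ = x := by group
      rwa [h3] at h2
  have hex : ∀ i, ∃ a : ZMod 2, g1 * c i * g1⁻¹ = zp z a * c (Equiv.swap 0 1 i) := by
    intro i
    rcases hs i with h | h
    · exact ⟨0, by rw [zp_zero, one_mul]; exact h⟩
    · exact ⟨1, by rw [zp_one]; exact h⟩
  choose a ha using hex
  have hzpc : ∀ (b : ZMod 2) (l : G), l ∈ L → l * zp z b = zp z b * l := by
    intro b l hl
    rcases zmod2_cases b with rfl | rfl
    · rw [zp_zero, one_mul, mul_one]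
    · rw [zp_one]; exact H.toPre.Lz _ hl
  have hconst : ∀ i j, a i = a j := by
    intro i j
    obtain ⟨τ, hτ, hτi⟩ := trans_facts i j
    let τ' : alternatingGroup (Fin 5) := ⟨τ, Equiv.Perm.mem_alternatingGroup.2 hτ⟩
    obtain ⟨ρ, hρ, hρ'⟩ := conj_κ H K hL1 hs τ'
    have e1 : g1 * c j * g1⁻¹ = κ ρ * (g1 * c i * g1⁻¹) * (κ ρ)⁻¹ := by
      have e2 : c j = κ τ' * c i * (κ τ')⁻¹ := by
        rw [K.κ_conj]
        exact congrArg c hτi.symm
      rw [e2, ← hρ]; group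
    rw [ha, ha] at e1
    have e3 : κ ρ * (zp z (a i) * c (Equiv.swap 0 1 i)) * (κ ρ)⁻¹ = zp z (a i) * c (Equiv.swap 0 1 j) := by
      have e4 : κ ρ * (zp z (a i) * c (Equiv.swap 0 1 i)) * (κ ρ)⁻¹ =
          (κ ρ * zp z (a i)) * c (Equiv.swap 0 1 i) * (κ ρ)⁻¹ := by group
      have e5 : (zp z (a i) * κ ρ) * c (Equiv.swap 0 1 i) * (κ ρ)⁻¹ =
          zp z (a i) * (κ ρ * c (Equiv.swap 0 1 i) * (κ ρ)⁻¹) := by group
      rw [e4, hzpc _ _ (κ_mem K ρ), e5, K.κ_conj, hρ' i]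
      have : (τ' : Equiv.Perm (Fin 5)) i = j := hτi
      rw [this]
    rw [e3] at e1
    exact ((K.c_inj _ _ _ _ e1).1).symm
  have ha0 : a 0 = 1 := by
    rcases zmod2_cases (a 0) with h | h
    · exfalso
      have e1 : g1 * (c 0 * c 1 * c 2 * c 3 * c 4) * g1⁻¹ = 1 := by rw [K.c_prod]; group
      have e2 : g1 * (c 0 * c 1 * c 2 * c 3 * c 4) * g1⁻¹ =
          (g1 * c 0 * g1⁻¹) * (g1 * c 1 * g1⁻¹) * (g1 * c 2 * g1⁻¹) * (g1 * c 3 * g1⁻¹) *
          (g1 * c 4 * g1⁻¹) := by group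
      rw [e2, ha, ha, ha, ha, ha, hconst 1 0, hconst 2 0, hconst 3 0, hconst 4 0,
        show Equiv.swap (0 : Fin 5) 1 0 = 1 by decide, show Equiv.swap (0 : Fin 5) 1 1 = 0 by decide,
        show Equiv.swap (0 : Fin 5) 1 2 = 2 by decide, show Equiv.swap (0 : Fin 5) 1 3 = 3 by decide,
        show Equiv.swap (0 : Fin 5) 1 4 = 4 by decide, prod_swap_facts K H.D, h, zp_zero,
        one_mul] at e1
      exact H.z_ne e1
    · exact h
  intro i
  rw [ha, hconst i 0, ha0, zp_one]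

omit [Finite G] in
/-- the involutions of `K0` -/
theorem invol_K0 {k : G} (hk : k ∈ Q) (hky : k * y = y * k) (hkt : k * t = t * k) (hkk : k * k = 1)
    (hk1 : k ≠ 1) (hkz : k ≠ z) : ∃ i, k = c i ∨ k = z * c i := by
  rcases K.cover k hk hky hkt with ⟨a, ha⟩ | ⟨a, j, ha⟩ | ⟨a, j, l, hjk, ha⟩
  · exfalso
    rcases zmod2_cases a with rfl | rfl
    · exact hk1 (ha.trans (zp_zero z))
    · exact hkz (ha.trans (zp_one z))
  · refine ⟨j, ?_⟩
    rcases zmod2_cases a with rfl | rfl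
    · left; rw [ha, zp_zero, one_mul]
    · right; rw [ha, zp_one]
  · exfalso
    have hcz : z * (c j * c l) = (c j * c l) * z := (H.D.com _ (mul_mem (K.c_mem j) (K.c_mem l))).symm
    have e1 : (zp z a * (c j * c l)) * (zp z a * (c j * c l)) = z := by
      rcases zmod2_cases a with rfl | rfl
      · rw [zp_zero, one_mul]; exact H.c_mul_sq K j l hjk.ne
      · rw [zp_one]
        calc z * (c j * c l) * (z * (c j * c l)) = z * ((c j * c l) * z) * (c j * c l) := by group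
          _ = (z * z) * ((c j * c l) * (c j * c l)) := by rw [← hcz]; group
          _ = z := by rw [H.c_mul_sq K j l hjk.ne, H.toPre.zz, one_mul]
    rw [← ha, hkk] at e1
    exact H.z_ne e1.symm

omit H K [Finite G] [Group G] in
theorem two_facts : ∀ i j : Fin 5, i ≠ j → ∃ σ : Equiv.Perm (Fin 5), Equiv.Perm.sign σ = 1 ∧
    σ 2 = i ∧ σ 3 = j := by decide +kernel

omit H K [Finite G] [Group G] in
set_option synthInstance.maxHeartbeats 0 in
set_option synthInstance.maxSize 10000 in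
set_option maxRecDepth 10000 in
theorem rho_facts : ∀ ρ : Equiv.Perm (Fin 5), Equiv.Perm.sign ρ = 1 → ρ 0 = 1 → ρ 1 = 0 →
    ρ * ρ = 1 ∧ ∀ i j : Fin 5, i ≠ 0 → i ≠ 1 → j ≠ 0 → j ≠ 1 → i ≠ j →
      (ρ i = j ∧ ρ j = i) ∨ (ρ i = i ∧ ρ j ≠ j ∧ ρ j ≠ i) ∨ (ρ j = j ∧ ρ i ≠ i ∧ ρ i ≠ j) := by
  decide +kernel

/-- **The square of a normalised swap is `z`.** -/
theorem swap_sq {g : G} (hgz : g * z = z * g) (hgy : g * y * g⁻¹ = t) (hgt : g * t * g⁻¹ = y)
    (hc : ∀ i, g * c i * g⁻¹ = z * c (Equiv.swap 0 1 i)) : g * g = z := by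
  have hzz := H.toPre.zz
  have czc : ∀ i, z * c i = c i * z := fun i => zc K H.D i
  have zyc : Commute z y := H.toPre.zy
  have ztc : Commute z t := H.toPre.zt
  have cgz : Commute g z := hgz
  -- g² is 1 or z
  have hg2 : g * g = 1 ∨ g * g = z := by
    apply H.eq_of_comm_c K
    · rw [← mul_inv_eq_iff_eq_mul]
      calc g * g * y * (g * g)⁻¹ = g * (g * y * g⁻¹) * g⁻¹ := by group
        _ = y := by rw [hgy, hgt]
    · rw [← mul_inv_eq_iff_eq_mul]
      calc g * g * t * (g * g)⁻¹ = g * (g * t * g⁻¹) * g⁻¹ := by group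
        _ = t := by rw [hgt, hgy]
    · intro i
      rw [← mul_inv_eq_iff_eq_mul]
      calc g * g * c i * (g * g)⁻¹ = g * (g * c i * g⁻¹) * g⁻¹ := by group
        _ = (g * z) * c (Equiv.swap 0 1 i) * g⁻¹ := by rw [hc]; group
        _ = z * (g * c (Equiv.swap 0 1 i) * g⁻¹) := by rw [cgz.eq]; group
        _ = c i := by rw [hc, Equiv.swap_apply_self, ← mul_assoc, hzz, one_mul]
  rcases hg2 with hg2 | hg2
  swap
  · exact hg2
  exfalso
  -- the conjugating element d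
  obtain ⟨d1, hd1z, hd1y, hd1t⟩ := H.pairs y t (c 0) (c 1) H.yQ H.tQ (K.c_mem 0) (K.c_mem 1) H.y2
    H.t2 (K.c_sq 0) (K.c_sq 1) H.yt (K.c_anti 0 1 (by decide))
  have cd1 : Commute d1 z := hd1z
  have hQd : ∀ x ∈ Q, d1⁻¹ * x * d1 ∈ Q := by
    intro x hx
    have := H.D.norm d1⁻¹ cd1.inv_left.eq x hx
    simpa using this
  have back : ∀ (w w' : G), d1 * w * d1⁻¹ = w' → d1⁻¹ * w' * d1 = w := by
    intro w w' h; rw [← h]; group
  have by0 := back _ _ hd1y
  have bt0 := back _ _ hd1t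
  have hcomm : ∀ x w : G, x * w = w * x → (d1⁻¹ * x * d1) * (d1⁻¹ * w * d1) =
      (d1⁻¹ * w * d1) * (d1⁻¹ * x * d1) := by
    intro x w h
    calc (d1⁻¹ * x * d1) * (d1⁻¹ * w * d1) = d1⁻¹ * (x * w) * d1 := by group
      _ = _ := by rw [h]; group
  have hinvol : ∀ x, x ∈ Q → x * x = 1 → x ≠ 1 → x ≠ z → (∀ i, x * c i = c i * x) →
      ∃ i, d1⁻¹ * x * d1 = c i ∨ d1⁻¹ * x * d1 = z * c i := by
    intro x hx hxx hx1 hxz hxc
    apply invol_K0 H K (hQd x hx)
    · have := hcomm x (c 0) (hxc 0)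
      rwa [by0] at this
    · have := hcomm x (c 1) (hxc 1)
      rwa [bt0] at this
    · calc (d1⁻¹ * x * d1) * (d1⁻¹ * x * d1) = d1⁻¹ * (x * x) * d1 := by group
        _ = 1 := by rw [hxx]; group
    · intro h
      apply hx1
      calc x = d1 * (d1⁻¹ * x * d1) * d1⁻¹ := by group
        _ = 1 := by rw [h]; group
    · intro h
      apply hxz
      calc x = d1 * (d1⁻¹ * x * d1) * d1⁻¹ := by group
        _ = z := by rw [h, hd1z]; group
  have y1 : y ≠ 1 := by
    intro h1; have := H.yt; rw [h1, one_mul, mul_one] at this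
    exact H.z_ne (mul_eq_right.1 this.symm)
  have yz : y ≠ z := by
    intro h1; have := H.yt; rw [h1, ztc.eq.symm, ← mul_assoc, hzz, one_mul] at this
    exact H.z_ne (mul_eq_right.1 this)
  have t1 : t ≠ 1 := by
    intro h1; have := H.yt; rw [h1, one_mul, mul_one] at this
    exact H.z_ne (mul_eq_right.1 this.symm)
  have tz : t ≠ z := by
    intro h1
    have h2 := H.toPre.ty
    rw [h1, zyc.eq.symm, ← mul_assoc, hzz, one_mul] at h2
    exact H.z_ne (mul_eq_right.1 h2)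
  obtain ⟨i, hi⟩ := hinvol y H.yQ H.y2 y1 yz (fun i => (K.c_y i).symm)
  obtain ⟨j, hj⟩ := hinvol t H.tQ H.t2 t1 tz (fun i => (K.c_t i).symm)
  have hij : i ≠ j := by
    rintro rfl
    -- then d1⁻¹ y d1 and d1⁻¹ t d1 commute
    have hcc : Commute (d1⁻¹ * y * d1) (d1⁻¹ * t * d1) := by
      have b0 : Commute (c i) (c i) := Commute.refl _
      have b1 : Commute z (c i) := czc i
      have b2 : Commute (c i) (z * c i) := b1.symm.mul_right b0
      rcases hi with h | h <;> rcases hj with h' | h' <;> rw [h, h']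
      · exact b2
      · exact b2.symm
    have h3 : y * t = t * y := by
      calc y * t = d1 * ((d1⁻¹ * y * d1) * (d1⁻¹ * t * d1)) * d1⁻¹ := by group
        _ = t * y := by rw [hcc.eq]; group
    rw [H.yt] at h3
    exact H.z_ne (mul_eq_right.1 h3)
  obtain ⟨σ, hσ, hσ2, hσ3⟩ := two_facts i j hij
  let σ' : alternatingGroup (Fin 5) := ⟨σ, Equiv.Perm.mem_alternatingGroup.2 hσ⟩
  have hlL := κ_mem K σ'
  have cly : Commute (κ σ') y := H.Ly _ hlL
  have clt : Commute (κ σ') t := H.Lt _ hlL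
  have clz : Commute (κ σ') z := H.toPre.Lz _ hlL
  set d := d1 * κ σ' with hd
  have cdz : Commute d z := cd1.mul_left clz
  have hdy : d * y * d⁻¹ = c 0 := by
    calc d * y * d⁻¹ = d1 * (κ σ' * y * (κ σ')⁻¹) * d1⁻¹ := by rw [hd]; group
      _ = d1 * y * d1⁻¹ := by rw [cly.eq]; group
      _ = c 0 := hd1y
  have hdt : d * t * d⁻¹ = c 1 := by
    calc d * t * d⁻¹ = d1 * (κ σ' * t * (κ σ')⁻¹) * d1⁻¹ := by rw [hd]; group
      _ = d1 * t * d1⁻¹ := by rw [clt.eq]; group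
      _ = c 1 := hd1t
  have hcon : ∀ (k m : Fin 5), σ k = m → (κ σ')⁻¹ * c m * κ σ' = c k := by
    intro k m hkm
    have := K.κ_conj σ' k
    rw [show ((σ' : Equiv.Perm (Fin 5)) k) = m from hkm] at this
    rw [← this]; group
  have hdcls : ∀ (w : G) (k m : Fin 5), σ k = m → (d1⁻¹ * w * d1 = c m ∨ d1⁻¹ * w * d1 = z * c m) →
      (d⁻¹ * w * d = c k ∨ d⁻¹ * w * d = z * c k) := by
    intro w k m hkm hw
    have e1 : d⁻¹ * w * d = (κ σ')⁻¹ * (d1⁻¹ * w * d1) * κ σ' := by rw [hd]; group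
    rw [e1]
    rcases hw with h | h
    · left; rw [h, hcon k m hkm]
    · right
      rw [h]
      calc (κ σ')⁻¹ * (z * c m) * κ σ' = ((κ σ')⁻¹ * z) * c m * κ σ' := by group
        _ = z * ((κ σ')⁻¹ * c m * κ σ') := by rw [clz.inv_left.eq]; group
        _ = _ := by rw [hcon k m hkm]
  have hdy2 := hdcls y 2 i hσ2 hi
  have hdt3 := hdcls t 3 j hσ3 hj
  -- the conjugate g' of g
  set g' := d * g * d⁻¹ with hg'
  have cg'z : Commute g' z := (cdz.mul_left cgz).mul_left cdz.inv_left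
  have hneg : ∀ (w : G) (k : Fin 5), Equiv.swap (0 : Fin 5) 1 k = k →
      (d⁻¹ * w * d = c k ∨ d⁻¹ * w * d = z * c k) → g' * w * g'⁻¹ = z * w := by
    intro w k hk hw
    have e1 : g' * w * g'⁻¹ = d * (g * (d⁻¹ * w * d) * g⁻¹) * d⁻¹ := by rw [hg']; group
    have e2 : g * (d⁻¹ * w * d) * g⁻¹ = z * (d⁻¹ * w * d) := by
      rcases hw with h | h
      · rw [h, hc, hk]
      · rw [h]
        calc g * (z * c k) * g⁻¹ = (g * z) * c k * g⁻¹ := by group
          _ = z * (g * c k * g⁻¹) := by rw [hgz]; group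
          _ = _ := by rw [hc, hk]
    rw [e1, e2]
    calc d * (z * (d⁻¹ * w * d)) * d⁻¹ = (d * z) * d⁻¹ * w := by group
      _ = z * w := by rw [cdz.eq]; group
  have hg'y := hneg y 2 (by decide) hdy2
  have hg't := hneg t 3 (by decide) hdt3
  have hg'0 : g' * c 0 * g'⁻¹ = c 1 := by
    rw [← hdy, ← hdt, ← hgy, hg']; group
  have hg'1 : g' * c 1 * g'⁻¹ = c 0 := by
    have : g' * c 1 * g'⁻¹ = d * (g * t * g⁻¹) * d⁻¹ := by rw [← hdt, hg']; group
    rw [this, hgt, hdy]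
  have hg'2 : g' * g' = 1 := by
    calc g' * g' = d * (g * g) * d⁻¹ := by rw [hg']; group
      _ = 1 := by rw [hg2]; group
  -- h = y t g'
  set h := y * t * g' with hh
  have hty := H.conj_ty
  have hyt := H.conj_yt
  have hhy : h * y * h⁻¹ = y := by
    calc h * y * h⁻¹ = y * (t * (g' * y * g'⁻¹) * t⁻¹) * y⁻¹ := by rw [hh]; group
      _ = y * ((t * z) * y * t⁻¹) * y⁻¹ := by rw [hg'y]; group
      _ = y * (z * (t * y * t⁻¹)) * y⁻¹ := by rw [← ztc.eq]; group
      _ = y := by rw [hty, ← mul_assoc z z, hzz]; group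
  have hht : h * t * h⁻¹ = t := by
    calc h * t * h⁻¹ = y * (t * (g' * t * g'⁻¹) * t⁻¹) * y⁻¹ := by rw [hh]; group
      _ = y * ((t * z) * t * t⁻¹) * y⁻¹ := by rw [hg't]; group
      _ = (y * z) * t * y⁻¹ := by rw [← ztc.eq]; group
      _ = z * (y * t * y⁻¹) := by rw [← zyc.eq]; group
      _ = t := by rw [hyt, ← mul_assoc, hzz, one_mul]
  obtain ⟨n, hn, l, hl, hnl⟩ := H.exists_mul (mul_inv_eq_iff_eq_mul.1 hhy) (mul_inv_eq_iff_eq_mul.1 hht)
  rw [← K.κ_range] at hl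
  obtain ⟨ρ, rfl⟩ := hl
  have clz' : Commute (κ ρ) z := H.toPre.Lz _ (κ_mem K ρ)
  have cytc : ∀ i, Commute (y * t) (c i) := by
    intro i
    have b1 : Commute y (c i) := (K.c_y i).symm
    have b2 : Commute t (c i) := (K.c_t i).symm
    exact b1.mul_left b2
  have hh0 : h * c 0 * h⁻¹ = c 1 := by
    calc h * c 0 * h⁻¹ = (y * t) * (g' * c 0 * g'⁻¹) * (y * t)⁻¹ := by rw [hh]; group
      _ = c 1 := by rw [hg'0, (cytc 1).eq]; group
  have hh1 : h * c 1 * h⁻¹ = c 0 := by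
    calc h * c 1 * h⁻¹ = (y * t) * (g' * c 1 * g'⁻¹) * (y * t)⁻¹ := by rw [hh]; group
      _ = c 0 := by rw [hg'1, (cytc 0).eq]; group
  have hn0 := mem_K0.1 hn
  have hρ : ∀ i j, h * c i * h⁻¹ = c j → (ρ : Equiv.Perm (Fin 5)) i = j ∧ n * c j = c j * n := by
    intro i j hij
    have e1 : h * c i * h⁻¹ = n * c ((ρ : Equiv.Perm (Fin 5)) i) * n⁻¹ := by
      rw [← K.κ_conj, hnl]; group
    have e2 : h * c i * h⁻¹ = c ((ρ : Equiv.Perm (Fin 5)) i) ∨
        h * c i * h⁻¹ = z * c ((ρ : Equiv.Perm (Fin 5)) i) := by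
      rw [e1]; exact H.D.comm n hn0.1 _ (K.c_mem _)
    have e3 := cls_eq K e2 (Or.inl hij)
    refine ⟨e3, ?_⟩
    rw [e1, e3] at hij
    exact mul_inv_eq_iff_eq_mul.1 hij
  obtain ⟨hρ0, hn1⟩ := hρ 0 1 hh0
  obtain ⟨hρ1, hnn0⟩ := hρ 1 0 hh1
  obtain ⟨hρρ, hρf⟩ := rho_facts ρ (Equiv.Perm.mem_alternatingGroup.1 ρ.2) hρ0 hρ1
  have hκκ : κ ρ * κ ρ = 1 := by
    rw [← map_mul]
    have : ρ * ρ = 1 := Subtype.ext hρρ
    rw [this, map_one]
  -- h² = z
  have hh2 : h * h = z := by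
    have hsq : (y * t) * (y * t) = z := by
      have hyt' := H.yt
      calc y * t * (y * t) = (y * t) * y * t := by group
        _ = z * t * (y * y) * t := by rw [hyt']; group
        _ = z * (t * t) := by rw [H.y2]; group
        _ = z := by rw [H.t2, mul_one]
    calc h * h = (y * t) * ((g' * y * g'⁻¹) * (g' * t * g'⁻¹)) * (g' * g') := by rw [hh]; group
      _ = (y * t) * (z * y * (z * t)) := by rw [hg'y, hg't, hg'2, mul_one]
      _ = (y * t) * (z * (y * z) * t) := by group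
      _ = (y * t) * ((z * z) * (y * t)) := by rw [← zyc.eq]; group
      _ = z := by rw [hzz, one_mul, hsq]
  have hh2' : h * h = n * (κ ρ * n * (κ ρ)⁻¹) := by
    calc h * h = n * (κ ρ * n * (κ ρ)⁻¹) * (κ ρ * κ ρ) := by rw [hnl]; group
      _ = _ := by rw [hκκ, mul_one]
  rw [hh2'] at hh2
  have hzp2 : ∀ a, zp z a * zp z a = 1 := by
    intro a
    rcases zmod2_cases a with rfl | rfl
    · rw [zp_zero, one_mul]
    · rw [zp_one, hzz]
  have hzpc : ∀ (b : ZMod 2) (l : G), l * z = z * l → l * zp z b = zp z b * l := by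
    intro b l hl
    rcases zmod2_cases b with rfl | rfl
    · rw [zp_zero, one_mul, mul_one]
    · rw [zp_one]; exact hl
  -- cancellation of zp
  have hcan : ∀ (a : ZMod 2) (w : G), w * z = z * w →
      (zp z a * w) * (κ ρ * (zp z a * w) * (κ ρ)⁻¹) = w * (κ ρ * w * (κ ρ)⁻¹) := by
    intro a w hw
    have e1 := hzpc a (κ ρ) clz'.eq
    have e2 := hzpc a w hw
    calc (zp z a * w) * (κ ρ * (zp z a * w) * (κ ρ)⁻¹)
        = zp z a * w * (κ ρ * zp z a) * w * (κ ρ)⁻¹ := by group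
      _ = zp z a * (w * zp z a) * κ ρ * w * (κ ρ)⁻¹ := by rw [e1]; group
      _ = (zp z a * zp z a) * w * κ ρ * w * (κ ρ)⁻¹ := by rw [e2]; group
      _ = _ := by rw [hzp2]; group
  have hcc : ∀ i j, (c i * c j) * z = z * (c i * c j) := fun i j =>
    H.D.com _ (mul_mem (K.c_mem i) (K.c_mem j))
  have hcommc : ∀ (a : ZMod 2) (w : G) (k : Fin 5), (zp z a * w) * c k = c k * (zp z a * w) →
      w * c k = c k * w := by
    intro a w k hk
    have e1 := hzpc a (c k) (czc k).symm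
    apply mul_left_cancel (a := zp z a)
    calc zp z a * (w * c k) = c k * (zp z a * w) := by rw [← hk]; group
      _ = (c k * zp z a) * w := by group
      _ = zp z a * (c k * w) := by rw [e1]; group
  have hanti : ∀ i j, i ≠ j → ¬ (c i * c j = c j * c i) := by
    intro i j hij h1
    rw [K.c_anti i j hij] at h1
    exact H.z_ne (mul_eq_right.1 h1)
  have hne : ∀ i j, i ≠ j → c i ≠ c j := by
    intro i j hij h1
    apply hij
    exact (K.c_inj 0 0 i j (by rw [h1])).2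
  rcases K.cover n hn0.1 hn0.2.1 hn0.2.2 with ⟨a, rfl⟩ | ⟨a, i, rfl⟩ | ⟨a, i, j, hij, rfl⟩
  · have e1 := hcan a 1 (by rw [one_mul, mul_one])
    rw [mul_one] at e1
    rw [e1] at hh2
    apply H.z_ne
    rw [← hh2]; group
  · have e0 := hcommc a _ _ hnn0
    have e1 := hcommc a _ _ hn1
    by_cases h0 : i = 0
    · subst h0; exact hanti 0 1 (by decide) e1
    · exact hanti i 0 h0 e0
  · have e0 := hcommc a _ _ hnn0
    have e1 := hcommc a _ _ hn1
    -- i, j ≥ 2
    have hmix : ∀ p q k : Fin 5, p ≠ q → (c p * c q) * c k = c k * (c p * c q) → k ≠ p ∧ k ≠ q := by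
      intro p q k hpq hk
      constructor
      · rintro rfl
        -- c_k c_q c_k = c_k c_k c_q
        have h1 : c q * c k = c k * c q := by
          apply mul_left_cancel (a := c k)
          rw [← mul_assoc, hk]
        exact hanti q k hpq.symm h1
      · rintro rfl
        have h1 : c k * c p = c p * c k := by
          apply mul_right_cancel (b := c k)
          rw [hk]; group
        exact hanti k p hpq.symm h1
    obtain ⟨a0, b0⟩ := hmix i j 0 hij.ne e0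
    obtain ⟨a1, b1⟩ := hmix i j 1 hij.ne e1
    have e2 := hcan a (c i * c j) (hcc i j)
    rw [e2] at hh2
    have e3 : κ ρ * (c i * c j) * (κ ρ)⁻¹ =
        c ((ρ : Equiv.Perm (Fin 5)) i) * c ((ρ : Equiv.Perm (Fin 5)) j) := by
      rw [← K.κ_conj, ← K.κ_conj]; group
    rw [e3] at hh2
    rcases hρf i j a0.symm a1.symm b0.symm b1.symm hij.ne with ⟨p1, p2⟩ | ⟨p1, p2, p3⟩ | ⟨p1, p2, p3⟩
    · rw [p1, p2] at hh2
      apply H.z_ne
      rw [← hh2]
      calc c i * c j * (c j * c i) = c i * (c j * c j) * c i := by group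
        _ = 1 := by rw [K.c_sq, mul_one, K.c_sq]
    · rw [p1] at hh2
      set m := (ρ : Equiv.Perm (Fin 5)) j with hm
      have e4 : c i * c j * (c i * c m) = z * (c j * c m) := by
        calc c i * c j * (c i * c m) = (c i * c j) * c i * c m := by group
          _ = z * c j * (c i * c i) * c m := by rw [K.c_anti i j hij.ne]; group
          _ = _ := by rw [K.c_sq]; group
      rw [e4] at hh2
      have e5 : c j * c m = 1 := mul_eq_left.1 hh2
      apply hne j m (Ne.symm p2)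
      calc c j = (c j * c m) * c m := by rw [mul_assoc, K.c_sq, mul_one]
        _ = c m := by rw [e5, one_mul]
    · rw [p1] at hh2
      set m := (ρ : Equiv.Perm (Fin 5)) i with hm
      have e4 : c i * c j * (c m * c j) = z * (c i * c m) := by
        calc c i * c j * (c m * c j) = c i * (c j * c m) * c j := by group
          _ = (c i * z) * c m * (c j * c j) := by rw [K.c_anti j m (Ne.symm p3)]; group
          _ = _ := by rw [K.c_sq, ← czc i]; group
      rw [e4] at hh2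
      have e5 : c i * c m = 1 := mul_eq_left.1 hh2
      apply hne i m (Ne.symm p2)
      calc c i = (c i * c m) * c m := by rw [mul_assoc, K.c_sq, mul_one]
        _ = c m := by rw [e5, one_mul]

end Swap

end Cfsg.Agent.SuzType.JNode
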