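import Cfsg.Agent.SuzType.E2J2

/-!
The J₂ enumeration E2 (helper627) as a word computation: involutions `b, c₁, …, c₅` with `(b cᵢ)^3 = 1`, `(cᵢ cⱼ)^2 = z`,
`(z b)^5 = 1`, `c₁ c₂ c₃ c₄ c₅ = 1`: the element `ζ = (b c₁ c₂)^5` conjugates `c₃` to `c₅`.
-/

set_option autoImplicit false

namespace Cfsg.Agent.SuzType.JTwoRel

open Cfsg.Agent.SporadicRecognition.CosetCert Cfsg.Agent.SuzType.E2J2Data

variable {G : Type*} [Group G]

/-- the letters b, c₁, …, c₅, z -/
def lt (b c d e f g z : G) : ℕ → G := fun n =>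
  if n = 0 then b else if n = 1 then c else if n = 2 then d else if n = 3 then e else
    if n = 4 then f else if n = 5 then g else z

theorem main {b c d e f g z : G} (hb : b * b = 1) (hc : c * c = 1) (hd : d * d = 1)
    (he : e * e = 1) (hf : f * f = 1) (hg : g * g = 1) (hz : z * z = 1)
    (hbc : (b * c) ^ 3 = 1) (hbd : (b * d) ^ 3 = 1) (hbe : (b * e) ^ 3 = 1)
    (hbf : (b * f) ^ 3 = 1) (hbg : (b * g) ^ 3 = 1)
    (hcd : (c * d) ^ 2 = z) (hce : (c * e) ^ 2 = z) (hcf : (c * f) ^ 2 = z) (hcg : (c * g) ^ 2 = z)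
    (hde : (d * e) ^ 2 = z) (hdf : (d * f) ^ 2 = z) (hdg : (d * g) ^ 2 = z)
    (hef : (e * f) ^ 2 = z) (heg : (e * g) ^ 2 = z) (hfg : (f * g) ^ 2 = z)
    (hzb : (z * b) ^ 5 = 1) (hzc : z * c = c * z) (hzd : z * d = d * z) (hze : z * e = e * z)
    (hzf : z * f = f * z) (hzg : z * g = g * z) (hprod : c * d * e * f * g = 1) :
    ((b * c * d) ^ 5)⁻¹ * e * (b * c * d) ^ 5 = g := by
  have hb' : ∀ x : G, b * (b * x) = x := fun x => by rw [← mul_assoc, hb, one_mul]
  have hc' : ∀ x : G, c * (c * x) = x := fun x => by rw [← mul_assoc, hc, one_mul]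
  have hd' : ∀ x : G, d * (d * x) = x := fun x => by rw [← mul_assoc, hd, one_mul]
  have hz' : ∀ x : G, z * (z * x) = x := fun x => by rw [← mul_assoc, hz, one_mul]
  have sq : ∀ x y : G, (x * y) ^ 2 = z → x * (y * (x * (y * z))) = 1 := by
    intro x y h
    rw [show x * (y * (x * (y * z))) = (x * y) ^ 2 * z by rw [pow_two]; simp only [mul_assoc], h, hz]
  have cm : ∀ x : G, x * x = 1 → z * x = x * z → z * (x * (z * x)) = 1 := by
    intro x hx h
    have h1 : z * (x * (z * x)) = z * z * (x * x) := by
      rw [h, ← mul_assoc x x z, hx, one_mul, hz, mul_one]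
    rw [h1, hz, hx, one_mul]
  have key := Cfsg.Agent.SuzType.E2J2.eq_one (lt b c d e f g z)
    (by
      intro x hx
      interval_cases x
      · simpa [lt, C] using hb
      · simpa [lt, C] using hc
      · simpa [lt, C] using hd
      · simpa [lt, C] using he
      · simpa [lt, C] using hf
      · simpa [lt, C] using hg
      · simpa [lt, C] using hz)
    (by
      intro r hr
      simp only [rels, List.mem_cons, List.not_mem_nil, or_false] at hr
      rcases hr with rfl | rfl | rfl | rfl | rfl | rfl | rfl | rfl | rfl | rfl | rfl | rfl | rfl | rfl | rfl |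
        rfl | rfl | rfl | rfl | rfl | rfl | rfl
      all_goals first
        | simpa [ev, lt, pow_succ, mul_assoc] using hbc
        | simpa [ev, lt, pow_succ, mul_assoc] using hbd
        | simpa [ev, lt, pow_succ, mul_assoc] using hbe
        | simpa [ev, lt, pow_succ, mul_assoc] using hbf
        | simpa [ev, lt, pow_succ, mul_assoc] using hbg
        | simpa [ev, lt, pow_succ, mul_assoc] using hzb
        | simpa [ev, lt, pow_succ, mul_assoc] using hprod
        | simpa [ev, lt, pow_succ, mul_assoc] using sq c d hcd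
        | simpa [ev, lt, pow_succ, mul_assoc] using sq c e hce
        | simpa [ev, lt, pow_succ, mul_assoc] using sq c f hcf
        | simpa [ev, lt, pow_succ, mul_assoc] using sq c g hcg
        | simpa [ev, lt, pow_succ, mul_assoc] using sq d e hde
        | simpa [ev, lt, pow_succ, mul_assoc] using sq d f hdf
        | simpa [ev, lt, pow_succ, mul_assoc] using sq d g hdg
        | simpa [ev, lt, pow_succ, mul_assoc] using sq e f hef
        | simpa [ev, lt, pow_succ, mul_assoc] using sq e g heg
        | simpa [ev, lt, pow_succ, mul_assoc] using sq f g hfg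
        | simpa [ev, lt, pow_succ, mul_assoc] using cm c hc hzc
        | simpa [ev, lt, pow_succ, mul_assoc] using cm d hd hzd
        | simpa [ev, lt, pow_succ, mul_assoc] using cm e he hze
        | simpa [ev, lt, pow_succ, mul_assoc] using cm f hf hzf
        | simpa [ev, lt, pow_succ, mul_assoc] using cm g hg hzg)
  have h := key _ (List.mem_cons_self)
  have inv_bcd : (d * c * b) * (b * c * d) = 1 := by
    calc (d * c * b) * (b * c * d) = d * c * (b * b) * c * d := by group
      _ = 1 := by rw [hb, mul_one, mul_assoc d c c, hc, mul_one, hd]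
  have hinv : (d * c * b) = (b * c * d)⁻¹ := eq_inv_of_mul_eq_one_left inv_bcd
  have h2 : (d * c * b) ^ 5 * e * (b * c * d) ^ 5 * g = 1 := by
    simpa [ev, lt, pow_succ, mul_assoc] using h
  rw [hinv, inv_pow] at h2
  rw [eq_inv_of_mul_eq_one_left h2]
  exact inv_eq_of_mul_eq_one_left hg

end Cfsg.Agent.SuzType.JTwoRel
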