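import Cfsg.Agent.SuzType.Words
import Cfsg.Agent.LargeExtra.SuzPlaneMain

/-!
# Groups of Suzuki type: the plane relations

From `Λ : Local`, `K : Canon` and the two relations of `A6`, one of the two choices of the signs of the `c i` satisfies
`(r t u)^5 = (r t u⁻¹)^5 = 1`, hence all relations `S1`.
-/

set_option autoImplicit false

namespace Cfsg.Agent.SuzType.PlaneRel

open Cfsg.Agent.J2Type.QStruct Cfsg.Agent.J2Type.Model
open Cfsg.Agent.ClassificationK.LargeSymplectic Cfsg.Agent.SuzType.CanonG Cfsg.Agent.SuzType.Swap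
  Cfsg.Agent.SuzType.RR Cfsg.Agent.SuzType.CentA4 Cfsg.Agent.SuzType.LocalRel Cfsg.Agent.SuzType.Words
open Cfsg.Agent.LargeExtra

variable {G : Type*} [Group G] {Q L : Subgroup G} {z y t f u g : G} {c : Fin 5 → G}
  {κ : alternatingGroup (Fin 5) →* G}

/-- Membership in a closure, in a subgroup. -/
theorem mem_closure_sub (M : Subgroup G) (S : Set M) (g : M)
    (h : (g : G) ∈ Subgroup.closure ((fun x : M => (x : G)) '' S)) : g ∈ Subgroup.closure S := by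
  have h1 : (Subgroup.closure S).map M.subtype = Subgroup.closure (M.subtype '' S) := MonoidHom.map_closure _ _
  have h2 : (g : G) ∈ (Subgroup.closure S).map M.subtype := by
    rw [h1]; exact h
  obtain ⟨g', hg', he⟩ := h2
  have : g' = g := Subtype.ext he
  rwa [this] at hg'

/-- The relations of `SuzPlane` in a subgroup. -/
theorem rels_sub (M : Subgroup G) (x y r t u : M) (h : SuzPlane.Rels (x : G) y r t u) :
    SuzPlane.Rels x y r t u where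
  x2 := Subtype.ext h.x2
  y2 := Subtype.ext h.y2
  r2 := Subtype.ext h.r2
  xy4 := Subtype.ext h.xy4
  t3 := Subtype.ext h.t3
  u3 := Subtype.ext h.u3
  tz := Subtype.ext h.tz
  tx := Subtype.ext h.tx
  ty := Subtype.ext h.ty
  uz := Subtype.ext h.uz
  uy := Subtype.ext h.uy
  ux := Subtype.ext h.ux
  rx := Subtype.ext h.rx
  ry := Subtype.ext h.ry
  rt := Subtype.ext h.rt
  ru := Subtype.ext h.ru
  ab := Subtype.ext h.ab

/-- The main theorem of `SuzPlaneMain` for elements of a subgroup `M`. -/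
theorem main_sub [Finite G] (M : Subgroup G) {x y r t u : G} (hx : x ∈ M) (hy : y ∈ M) (hr : r ∈ M) (ht : t ∈ M)
    (hu : u ∈ M) (h : SuzPlane.Rels x y r t u) (hz : (x * y) ^ 2 ≠ 1) (hr1 : r ≠ 1)
    (hrz : r ≠ (x * y) ^ 2)
    (hC : ∀ g ∈ M, g * (x * y) ^ 2 = (x * y) ^ 2 * g →
      g ∈ Subgroup.closure {x, y, r, t⁻¹ * r * t, u⁻¹ * r * u})
    (j1 : (t * u) ^ 5 = 1) (j2 : (t * u⁻¹) ^ 4 = 1) :
    ((r * t * u) ^ 5 = 1 ∧ (r * t * u⁻¹) ^ 5 = 1) ∨
    (((x * y) ^ 2 * r * t * u) ^ 5 = 1 ∧ ((x * y) ^ 2 * r * t * u⁻¹) ^ 5 = 1) := by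
  have key := SuzPlane.main (M := M) (x := ⟨x, hx⟩) (y := ⟨y, hy⟩) (r := ⟨r, hr⟩) (t := ⟨t, ht⟩) (u := ⟨u, hu⟩)
    (rels_sub M _ _ _ _ _ h) (fun e => hz (congrArg Subtype.val e)) (fun e => hr1 (congrArg Subtype.val e))
    (fun e => hrz (congrArg Subtype.val e)) ?_ (Subtype.ext j1) (Subtype.ext j2)
  · rcases key with ⟨h1, h2⟩ | ⟨h1, h2⟩
    · exact Or.inl ⟨congrArg Subtype.val h1, congrArg Subtype.val h2⟩
    · exact Or.inr ⟨congrArg Subtype.val h1, congrArg Subtype.val h2⟩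
  · intro g hg
    apply mem_closure_sub
    have h1 := hC g g.2 (congrArg Subtype.val hg)
    refine Subgroup.closure_mono ?_ h1
    rintro s (rfl | rfl | rfl | rfl | rfl)
    · exact ⟨⟨_, hx⟩, by simp, rfl⟩
    · exact ⟨⟨_, hy⟩, by simp, rfl⟩
    · exact ⟨⟨_, hr⟩, by simp, rfl⟩
    · exact ⟨⟨_, ht⟩⁻¹ * ⟨r, hr⟩ * ⟨_, ht⟩, by simp, rfl⟩
    · exact ⟨⟨_, hu⟩⁻¹ * ⟨r, hr⟩ * ⟨_, hu⟩, by simp, rfl⟩

/-- The relations of the plane group. -/
theorem plane_rels [Finite G] (Λ : Local Q z y t f u g L) (K : Canon Q z y t L c κ) :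
    SuzPlane.Rels y t (c 4) f⁻¹ u⁻¹ := by
  have hz := z_eq Λ
  have hzz := Λ.toPreT.toPre.zz
  have hti : t⁻¹ = t := inv_eq_of_mul_eq_one_left Λ.t2
  have hyi : y⁻¹ = y := inv_eq_of_mul_eq_one_left Λ.y2
  refine {
    x2 := Λ.y2
    y2 := Λ.t2
    r2 := K.c_sq 4
    xy4 := by rw [show (4 : ℕ) = 2 * 2 from rfl, pow_mul, hz, pow_two, hzz]
    t3 := by rw [inv_pow, Λ.f3, inv_one]
    u3 := by rw [inv_pow, Λ.u3, inv_one]
    tz := by rw [hz, inv_inv, Λ.T1.gz]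
    tx := by rw [hz, inv_inv, Λ.T1.ge]
    ty := ?_
    uz := by rw [hz, inv_inv, Λ.T2.gz]
    uy := by rw [hz, inv_inv, Λ.T2.ge]
    ux := ?_
    rx := K.c_y 4
    ry := K.c_t 4
    rt := cube_of_sum (K.c_sq 4) Λ.f3 (Λ.T1.hT _ (K.c_mem 4) (K.c_y 4))
    ru := cube_of_sum (K.c_sq 4) Λ.u3 (Λ.T2.hT _ (K.c_mem 4) (K.c_t 4))
    ab := by rw [hz, inv_inv, inv_inv, pow_two]; exact ab_eq Λ K }
  · have h1 : t * f * t = f⁻¹ := by
      have := Λ.T1.inv
      rwa [hti] at this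
    have h2 : t * f⁻¹ * t = f := by
      calc t * f⁻¹ * t = t * (t * f * t) * t := by rw [h1]
        _ = (t * t) * f * (t * t) := by group
        _ = f := by rw [Λ.t2]; group
    rw [h2, mul_inv_cancel]
  · have h1 : y * u * y = u⁻¹ := by
      have := Λ.T2.inv
      rwa [hyi] at this
    have h2 : y * u⁻¹ * y = u := by
      calc y * u⁻¹ * y = y * (y * u * y) * y := by rw [h1]
        _ = (y * y) * u * (y * y) := by group
        _ = u := by rw [Λ.y2]; group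
    rw [h2, mul_inv_cancel]

/-- **The plane relations.**  One of the two choices of signs satisfies them. -/
theorem exists_canon [Finite G] (Λ : Local Q z y t f u g L) (K : Canon Q z y t L c κ)
    (j1 : (f⁻¹ * u⁻¹) ^ 5 = 1) (j2 : (f⁻¹ * u) ^ 4 = 1) :
    ∃ (c' : Fin 5 → G) (κ' : alternatingGroup (Fin 5) →* G), Canon Q z y t L c' κ' ∧
      (c' 4 * f⁻¹ * u⁻¹) ^ 5 = 1 ∧ (c' 4 * f⁻¹ * u) ^ 5 = 1 := by
  have hzz := z_eq Λ
  have hne := Λ.toPreT.c_ne K 4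
  have hL := kap_L Λ K
  let M : Subgroup G := Subgroup.centralizer {x | ∃ σ : alternatingGroup (Fin 5),
    (σ : Equiv.Perm (Fin 5)) 4 = 4 ∧ κ σ = x}
  have hM : ∀ x : G, x ∈ M ↔ ∀ σ : alternatingGroup (Fin 5), (σ : Equiv.Perm (Fin 5)) 4 = 4 → κ σ * x = x * κ σ := by
    intro x
    show x ∈ Subgroup.centralizer _ ↔ _
    rw [Subgroup.mem_centralizer_iff]
    constructor
    · intro h σ hσ
      exact h _ ⟨σ, hσ, rfl⟩
    · rintro h _ ⟨σ, hσ, rfl⟩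
      exact h σ hσ
  have comm_inv : ∀ (σ : alternatingGroup (Fin 5)) (v : G), κ σ * v = v * κ σ → κ σ * v⁻¹ = v⁻¹ * κ σ := by
    intro σ v hv
    have : Commute (κ σ) v := hv
    exact this.inv_right.eq
  have key := main_sub M (x := y) (y := t) (r := c 4) (t := f⁻¹) (u := u⁻¹)
    ((hM _).2 fun σ _ => Λ.Ly _ (hL σ)) ((hM _).2 fun σ _ => Λ.Lt _ (hL σ))
    ((hM _).2 fun σ hσ => by
      have := kap_c K σ 4
      rw [hσ] at this
      exact this)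
    ((hM _).2 fun σ _ => comm_inv _ _ (Λ.fL _ (hL σ))) ((hM _).2 fun σ _ => comm_inv _ _ (Λ.uL _ (hL σ)))
    (plane_rels Λ K) (by rw [hzz]; exact Λ.z_ne) hne.1 (by rw [hzz]; exact hne.2) ?_ j1 (by rw [inv_inv]; exact j2)
  · rw [hzz, inv_inv] at key
    rcases key with ⟨h1, h2⟩ | ⟨h1, h2⟩
    · exact ⟨c, κ, K, h1, h2⟩
    · have e4 : Equiv.swap (0 : Fin 5) 1 4 = 4 := by decide
      refine ⟨_, _, canon_twist Λ.toPreT.toPre K, ?_, ?_⟩
      · rw [e4]; exact h1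
      · rw [e4]; exact h2
  · intro h hh hz
    rw [hzz] at hz
    have := cent_A4 Λ K hz (fun σ hσ => ((hM h).1 hh σ hσ).symm)
    rw [inv_inv, inv_inv]
    exact this

/-- **All relations `S1`.** -/
theorem exists_s1 [Finite G] (Λ : Local Q z y t f u g L) (K : Canon Q z y t L c κ)
    (j1 : (f⁻¹ * u⁻¹) ^ 5 = 1) (j2 : (f⁻¹ * u) ^ 4 = 1) :
    ∃ (c' : Fin 5 → G) (κ' : alternatingGroup (Fin 5) →* G), Canon Q z y t L c' κ' ∧
      S1.Rels y t (c' 4) f⁻¹ u⁻¹ (κ' sp) (κ' sq) (κ' sw) := by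
  obtain ⟨c', κ', K', l1, l2⟩ := exists_canon Λ K j1 j2
  exact ⟨c', κ', K', s1 Λ K' j1 j2 l1 l2⟩

end Cfsg.Agent.SuzType.PlaneRel
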