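import Cfsg.Agent.SuzType.PresColData

set_option autoImplicit false
set_option maxRecDepth 100000

namespace Cfsg.Agent.SuzType.PresColChk0

open Cfsg.Agent.SporadicRecognition.CosetCert Cfsg.Agent.Lib.CosetPartial Cfsg.Agent.SuzType.PresColData

theorem c0 : PartP C 0 8 := runP_sound C (by decide +kernel : runP C 8 255 0xc3010000020093000100020002010073b300020001638300530202a301004302020102000133230213000225150503 15 32767 0x8a0e8c5c069b22701c60000b238000 0 8 = true)

theorem all : PartP C 0 8 := c0

end Cfsg.Agent.SuzType.PresColChk0
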