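import Cfsg.Agent.Lib.CosetPartial

set_option autoImplicit false
set_option maxRecDepth 100000

namespace Cfsg.Agent.SuzType.PresColData

open Cfsg.Agent.SporadicRecognition.CosetCert

noncomputable def tree : Tr := (.L 0x91fff859d4fffff818e62ffda5ffd64ffd9528d7ff8a133ffd567e0e72ffdb7ffd0349587294fff3d1e85ddc734c3ffffcc351915288e41a07ff14492208b31c93ffffc620c42104441f)

noncomputable def wtree : WT := (.N 7 (.N 3 (.N 1 (.L 0 [3,2,3,2]) (.N 2 (.L 0 [4,0,4]) (.L 2 [0,4,2,4]))) (.N 5 (.N 4 (.L 3 [4,3,4,0]) (.L 4 [1,4,1,4,1])) (.N 6 (.L 4 [0,4,0]) (.L 1 [2,1,2,1,2])))) (.N 11 (.N 9 (.N 8 (.L 1 [3,1,3,1,3]) (.L 0 [2,0,2])) (.N 10 (.L 4 [2,4,2,0]) (.L 1 [2,4,1,2,4,1,2,4,1,2,4,1,2,4]))) (.N 13 (.N 12 (.L 0 [3,0,3]) (.L 4 [3,4,3,0])) (.N 14 (.L 6 [3,1,4,3,1,4,3,1,4,3,1,4,3,1,4]) (.L 6 [3,0,2,3,2])))))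

noncomputable def stree : ST := (.N 1 (.L 1 [] []) (.N 2 (.L 2 [] []) (.L 3 [] [])))

noncomputable def C : Cert where
  data := tree
  lm := 15
  rb := 74
  fb := 10
  mask := 1023
  B := 16
  k := 6
  N := 8
  inv := fun x => x
  words := wtree
  subs := stree

/-- letters: 0 = a, 1 = b, 2 = c, 3 = d, 4 = e, 5 = h -/
def rels : List (List Nat) := [[0,2,0,2], [0,3,0,3], [0,4,0,4], [0,5,0,5], [2,3,2,3,0], [2,4,2,4,0], [2,5,2,5,0], [3,4,3,4,0], [3,5,3,5,0], [4,5,4,5,0], [1,2,1,2,1,2], [1,3,1,3,1,3], [1,4,1,4,1,4], [1,5,1,5,1,5], [0,1,0,1,0,1,0,1,0,1], [1,2,3,1,2,3,1,2,3,1,2,3,1,2,3], [1,2,4,1,2,4,1,2,4,1,2,4,1,2,4], [1,2,5,1,2,5,1,2,5,1,2,5,1,2,5], [1,3,2,1,3,2,1,3,2,1,3,2,1,3,2], [1,3,4,1,3,4,1,3,4,1,3,4,1,3,4], [1,3,5,1,3,5,1,3,5,1,3,5,1,3,5], [1,4,2,1,4,2,1,4,2,1,4,2,1,4,2], [1,4,3,1,4,3,1,4,3,1,4,3,1,4,3],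 [1,4,5,1,4,5,1,4,5,1,4,5,1,4,5], [1,5,2,1,5,2,1,5,2,1,5,2,1,5,2], [1,5,3,1,5,3,1,5,3,1,5,3,1,5,3], [1,5,4,1,5,4,1,5,4,1,5,4,1,5,4]]

def subw : List (List Nat) := [[1], [2], [3]]

/-- targets:  e -/
def targets : List (List Nat) := [[4]]

end Cfsg.Agent.SuzType.PresColData
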