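import Cfsg.Agent.LargeExtra.SuzPlane
import Cfsg.Agent.SuzType.PresA6
import Cfsg.Agent.SuzType.PresBr
import Cfsg.Agent.SuzType.PresZb
import Cfsg.Agent.SuzType.PresZe
import Cfsg.Agent.SuzType.PresCol

/-!
# Relators of the presented Suzuki group, part 1 (node N6)

From the relations `Rels x y r t u` of `SuzPlane` and the relations `j1 j2 l1 l2` we derive the relations
of the element `be = t u y t u⁻¹`.
-/

set_option autoImplicit false

namespace Cfsg.Agent.SuzType.PresRel

open Cfsg.Agent.SporadicRecognition.CosetCert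
open Cfsg.Agent.LargeExtra.SuzPlane

variable {G : Type*} [Group G]

/-- The relations of `L₃(4) = C(A₄)` used as input. -/
structure RelsL (x y r t u : G) : Prop extends Rels x y r t u where
  j1 : (t * u) ^ 5 = 1
  j2 : (t * u⁻¹) ^ 4 = 1
  l1 : (r * t * u) ^ 5 = 1
  l2 : (r * t * u⁻¹) ^ 5 = 1

/-- letters for the certificate `PresA6` -/
def gA (x y t u : G) : ℕ → G
  | 0 => x
  | 1 => y
  | 2 => t
  | 3 => t⁻¹
  | 4 => u
  | 5 => u⁻¹
  | _ => 1

/-- letters for the certificates `PresBr`, `PresZb` -/
def gB (x y t u r b : G) : ℕ → G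
  | 0 => x
  | 1 => y
  | 2 => t
  | 3 => t⁻¹
  | 4 => u
  | 5 => u⁻¹
  | 6 => r
  | 7 => b
  | _ => 1

/-- letters for the certificate `PresZe` -/
def gZ (a b c d : G) : ℕ → G
  | 0 => a
  | 1 => b
  | 2 => c
  | 3 => d
  | _ => 1

/-- letters for the certificate `PresCol` -/
def gC (a b c d e h : G) : ℕ → G
  | 0 => a
  | 1 => b
  | 2 => c
  | 3 => d
  | 4 => e
  | 5 => h
  | _ => 1

/-- the involution `b` of the presentation of `Suz` -/
def be (y t u : G) : G := t * u * y * t * u⁻¹

theorem eq_one_trans {a b : G} (h : a = b) (hb : b = 1) : a = 1 := h.trans hb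

namespace RelsL

variable {x y r t u : G} (h : RelsL x y r t u)
include h

theorem w1 : t⁻¹ * (x * (t * (y * (x * y)))) = 1 := by
  have e3 : (t⁻¹ * x * t) * (y * x * y) = 1 := by
    rw [h.tx, h.yxy]
    calc (x * y) ^ 2 * x * ((x * y) ^ 2 * x) = (x * y) ^ 2 * (x * (x * y) ^ 2) * x := by group
      _ = (x * y) ^ 2 * (x * y) ^ 2 * (x * x) := by rw [← h.zx]; group
      _ = 1 := by rw [h.z2, h.x2, one_mul]
  simpa only [mul_assoc] using e3

theorem w2 : t⁻¹ * (x * (y * (x * (y * (t * x))))) = 1 := by
  have e1 : t⁻¹ * (x * y) ^ 2 * t * x = 1 := by rw [h.tz, h.x2]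
  simpa only [pow_two, mul_assoc] using e1

theorem w3 : u⁻¹ * (x * (y * (x * (y * (u * y))))) = 1 := by
  have e1 : u⁻¹ * (x * y) ^ 2 * u * y = 1 := by rw [h.uz, h.y2]
  simpa only [pow_two, mul_assoc] using e1

theorem w4 : u⁻¹ * (y * (u * (y * (x * (y * (x * y)))))) = 1 := by
  have e4 : (u⁻¹ * y * u) * (y * x * y * x * y) = 1 := by
    rw [h.uy]
    calc (x * y) ^ 2 * y * (y * x * y * x * y) = (x * y) ^ 2 * (y * y) * (x * y) ^ 2 := by
          rw [pow_two]; group
      _ = 1 := by rw [h.y2, mul_one, h.z2]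
  simpa only [mul_assoc] using e4

theorem w5 : r * (x * (r * x)) = 1 := by
  calc r * (x * (r * x)) = (r * x) * (r * x) := by group
    _ = x * (r * r) * x := by nth_rewrite 1 [h.rx]; group
    _ = 1 := by rw [h.r2, mul_one, h.x2]

theorem w6 : r * (y * (r * y)) = 1 := by
  calc r * (y * (r * y)) = (r * y) * (r * y) := by group
    _ = y * (r * r) * y := by nth_rewrite 1 [h.ry]; group
    _ = 1 := by rw [h.r2, mul_one, h.y2]

theorem relA : ∀ w ∈ PresA6Data.rels, ev (gA x y t u) w = 1 := by
  have h1 := h.w1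
  have h2 := h.w2
  have h3 := h.w3
  have h4 := h.w4
  intro w hw
  simp only [PresA6Data.rels, List.mem_cons, List.not_mem_nil, or_false] at hw
  rcases hw with rfl | rfl | rfl | rfl | rfl | rfl | rfl | rfl | rfl | rfl | rfl <;>
    simp only [ev_cons, ev_nil, gA, mul_one]
  · exact eq_one_trans (by simp only [pow_succ, pow_zero, one_mul, mul_assoc]) h.t3
  · exact eq_one_trans (by simp only [pow_succ, pow_zero, one_mul, mul_assoc]) h.u3
  · exact eq_one_trans (by simp only [mul_assoc]) h.ty
  · exact eq_one_trans (by simp only [mul_assoc]) h.ux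
  · exact h1
  · exact h2
  · exact h3
  · exact eq_one_trans (by simp only [pow_succ, pow_zero, one_mul, mul_assoc]) h.xy4
  · exact h4
  · exact eq_one_trans (by simp only [pow_succ, pow_zero, one_mul, mul_assoc]) h.j2
  · exact eq_one_trans (by simp only [pow_succ, pow_zero, one_mul, mul_assoc]) h.j1

theorem invA : ∀ i, i < 6 → gA x y t u i * gA x y t u (PresA6Data.C.inv i) = 1 := by
  intro i hi
  interval_cases i
  · exact h.x2
  · exact h.y2
  · exact mul_inv_cancel t
  · exact inv_mul_cancel t
  · exact mul_inv_cancel u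
  · exact inv_mul_cancel u

theorem tgA (w : List ℕ) (hw : w ∈ PresA6Data.targets) : ev (gA x y t u) w = 1 :=
  PresA6.eq_one (gA x y t u) h.invA h.relA w hw

theorem be_sq : be y t u * be y t u = 1 := by
  have := h.tgA [2,4,1,2,5,2,4,1,2,5] (by simp [PresA6Data.targets])
  simp only [ev_cons, ev_nil, gA, mul_one] at this
  unfold be
  simpa only [mul_assoc] using this

theorem be_x : (be y t u * x) ^ 3 = 1 := by
  have := h.tgA [2,4,1,2,5,0,2,4,1,2,5,0,2,4,1,2,5,0] (by simp [PresA6Data.targets])
  simp only [ev_cons, ev_nil, gA, mul_one] at this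
  unfold be
  simpa only [pow_succ, pow_zero, one_mul, mul_assoc] using this

theorem be_y : (be y t u * y) ^ 3 = 1 := by
  have := h.tgA [2,4,1,2,5,1,2,4,1,2,5,1,2,4,1,2,5,1] (by simp [PresA6Data.targets])
  simp only [ev_cons, ev_nil, gA, mul_one] at this
  unfold be
  simpa only [pow_succ, pow_zero, one_mul, mul_assoc] using this

theorem be_xy : (be y t u * x * y) ^ 5 = 1 := by
  have := h.tgA [2,4,1,2,5,0,1,2,4,1,2,5,0,1,2,4,1,2,5,0,1,2,4,1,2,5,0,1,2,4,1,2,5,0,1]
    (by simp [PresA6Data.targets])
  simp only [ev_cons, ev_nil, gA, mul_one] at this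
  unfold be
  simpa only [pow_succ, pow_zero, one_mul, mul_assoc] using this

theorem be_z : (be y t u * (x * y) ^ 2) ^ 5 = 1 := by
  have := h.tgA [2,4,1,2,5,0,1,0,1,2,4,1,2,5,0,1,0,1,2,4,1,2,5,0,1,0,1,2,4,1,2,5,0,1,0,1,2,4,1,2,5,0,1,0,1]
    (by simp [PresA6Data.targets])
  simp only [ev_cons, ev_nil, gA, mul_one] at this
  unfold be
  simpa only [pow_succ, pow_zero, one_mul, mul_assoc] using this

theorem t_eq : t = x * be y t u * x * y * x * y * be y t u * y * x * y * be y t u * x := by
  have := h.tgA [0,2,4,1,2,5,0,1,0,1,2,4,1,2,5,1,0,1,2,4,1,2,5,0,3] (by simp [PresA6Data.targets])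
  simp only [ev_cons, ev_nil, gA, mul_one] at this
  have h2 : x * be y t u * x * y * x * y * be y t u * y * x * y * be y t u * x * t⁻¹ = 1 := by
    unfold be
    simpa only [mul_assoc] using this
  exact (mul_inv_eq_one.mp h2).symm

theorem u_eq : u = be y t u * x * y * x * y * be y t u * x * y * x * be y t u * y := by
  have := h.tgA [2,4,1,2,5,0,1,0,1,2,4,1,2,5,0,1,0,2,4,1,2,5,1,5] (by simp [PresA6Data.targets])
  simp only [ev_cons, ev_nil, gA, mul_one] at this
  have h2 : be y t u * x * y * x * y * be y t u * x * y * x * be y t u * y * u⁻¹ = 1 := by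
    unfold be
    simpa only [mul_assoc] using this
  exact (mul_inv_eq_one.mp h2).symm

theorem invB : ∀ i, i < 8 → gB x y t u r (be y t u) i * gB x y t u r (be y t u) (PresBrData.C.inv i) = 1 := by
  intro i hi
  interval_cases i
  · exact h.x2
  · exact h.y2
  · exact mul_inv_cancel t
  · exact inv_mul_cancel t
  · exact mul_inv_cancel u
  · exact inv_mul_cancel u
  · exact h.r2
  · exact h.be_sq

theorem be_def : be y t u * (t * (u * (y * (t * u⁻¹)))) = 1 := by
  have := h.be_sq
  rw [show t * (u * (y * (t * u⁻¹))) = be y t u by unfold be; simp only [mul_assoc]]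
  exact this

theorem relB : ∀ w ∈ PresBrData.rels, ev (gB x y t u r (be y t u)) w = 1 := by
  have h1 := h.w1
  have h2 := h.w2
  have h3 := h.w3
  have h4 := h.w4
  have h5 := h.w5
  have h6 := h.w6
  have h7 := h.be_def
  have k1 := h.be_x
  have k2 := h.be_y
  have k3 := h.be_xy
  have k4 := h.be_z
  generalize be y t u = b at *
  intro w hw
  simp only [PresBrData.rels, List.mem_cons, List.not_mem_nil, or_false] at hw
  rcases hw with rfl | rfl | rfl | rfl | rfl | rfl | rfl | rfl | rfl | rfl | rfl | rfl | rfl | rfl | rfl | rfl |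
    rfl | rfl | rfl | rfl | rfl | rfl <;>
    simp only [ev_cons, ev_nil, gB, mul_one]
  · exact eq_one_trans (by simp only [pow_succ, pow_zero, one_mul, mul_assoc]) h.t3
  · exact eq_one_trans (by simp only [pow_succ, pow_zero, one_mul, mul_assoc]) h.u3
  · exact eq_one_trans (by simp only [mul_assoc]) h.ty
  · exact eq_one_trans (by simp only [mul_assoc]) h.ux
  · exact h5
  · exact h6
  · exact h7
  · exact eq_one_trans (by simp only [pow_succ, pow_zero, one_mul, mul_assoc]) k1
  · exact eq_one_trans (by simp only [pow_succ, pow_zero, one_mul, mul_assoc]) k2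
  · exact h1
  · exact eq_one_trans (by simp only [pow_succ, pow_zero, one_mul, mul_assoc]) h.rt
  · exact eq_one_trans (by simp only [pow_succ, pow_zero, one_mul, mul_assoc]) h.ru
  · exact h2
  · exact h3
  · exact eq_one_trans (by simp only [pow_succ, pow_zero, one_mul, mul_assoc]) h.xy4
  · exact h4
  · exact eq_one_trans (by simp only [pow_succ, pow_zero, one_mul, mul_assoc]) h.j2
  · exact eq_one_trans (by simp only [pow_succ, pow_zero, one_mul, mul_assoc]) h.j1
  · exact eq_one_trans (by simp only [pow_succ, pow_zero, one_mul, mul_assoc]) k3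
  · exact eq_one_trans (by simp only [pow_succ, pow_zero, one_mul, mul_assoc]) h.l1
  · exact eq_one_trans (by simp only [pow_succ, pow_zero, one_mul, mul_assoc]) h.l2
  · exact eq_one_trans (by simp only [pow_succ, pow_zero, one_mul, mul_assoc]) k4

theorem be_r : (be y t u * r) ^ 3 = 1 := by
  have := PresBr.eq_one (gB x y t u r (be y t u)) h.invB h.relB [7,6,7,6,7,6] (by simp [PresBrData.targets])
  simp only [ev_cons, ev_nil, gB, mul_one] at this
  simpa only [pow_succ, pow_zero, one_mul, mul_assoc] using this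

theorem relZb : ∀ w ∈ PresZbData.rels, ev (gB x y t u r (be y t u)) w = 1 := by
  have h1 := h.w1
  have h2 := h.w2
  have h3 := h.w3
  have h4 := h.w4
  have h5 := h.w5
  have h6 := h.w6
  have h7 := h.be_def
  have k1 := h.be_x
  have k2 := h.be_y
  have k3 := h.be_xy
  have k4 := h.be_z
  have k5 := h.be_r
  generalize be y t u = b at *
  intro w hw
  simp only [PresZbData.rels, List.mem_cons, List.not_mem_nil, or_false] at hw
  rcases hw with rfl | rfl | rfl | rfl | rfl | rfl | rfl | rfl | rfl | rfl | rfl | rfl | rfl | rfl | rfl | rfl |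
    rfl | rfl | rfl | rfl | rfl | rfl | rfl <;>
    simp only [ev_cons, ev_nil, gB, mul_one]
  · exact eq_one_trans (by simp only [pow_succ, pow_zero, one_mul, mul_assoc]) h.t3
  · exact eq_one_trans (by simp only [pow_succ, pow_zero, one_mul, mul_assoc]) h.u3
  · exact eq_one_trans (by simp only [mul_assoc]) h.ty
  · exact eq_one_trans (by simp only [mul_assoc]) h.ux
  · exact h5
  · exact h6
  · exact h7
  · exact eq_one_trans (by simp only [pow_succ, pow_zero, one_mul, mul_assoc]) k1
  · exact eq_one_trans (by simp only [pow_succ, pow_zero, one_mul, mul_assoc]) k2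
  · exact h1
  · exact eq_one_trans (by simp only [pow_succ, pow_zero, one_mul, mul_assoc]) h.rt
  · exact eq_one_trans (by simp only [pow_succ, pow_zero, one_mul, mul_assoc]) h.ru
  · exact eq_one_trans (by simp only [pow_succ, pow_zero, one_mul, mul_assoc]) k5
  · exact h2
  · exact h3
  · exact eq_one_trans (by simp only [pow_succ, pow_zero, one_mul, mul_assoc]) h.xy4
  · exact h4
  · exact eq_one_trans (by simp only [pow_succ, pow_zero, one_mul, mul_assoc]) h.j2
  · exact eq_one_trans (by simp only [pow_succ, pow_zero, one_mul, mul_assoc]) h.j1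
  · exact eq_one_trans (by simp only [pow_succ, pow_zero, one_mul, mul_assoc]) k3
  · exact eq_one_trans (by simp only [pow_succ, pow_zero, one_mul, mul_assoc]) h.l1
  · exact eq_one_trans (by simp only [pow_succ, pow_zero, one_mul, mul_assoc]) h.l2
  · exact eq_one_trans (by simp only [pow_succ, pow_zero, one_mul, mul_assoc]) k4

theorem invZb : ∀ i, i < 8 → gB x y t u r (be y t u) i * gB x y t u r (be y t u) (PresZbData.C.inv i) = 1 := by
  intro i hi
  interval_cases i
  · exact h.x2
  · exact h.y2
  · exact mul_inv_cancel t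
  · exact inv_mul_cancel t
  · exact mul_inv_cancel u
  · exact inv_mul_cancel u
  · exact h.r2
  · exact h.be_sq

theorem zbrx : ((x * y) ^ 2 * be y t u * r * x) ^ 5 = 1 := by
  have := PresZb.eq_one (gB x y t u r (be y t u)) h.invZb h.relZb
    [0,1,0,1,7,6,1,0,1,7,6,1,0,1,7,6,1,0,1,7,6,1,0,1,7,6,0] (by simp [PresZbData.targets])
  simp only [ev_cons, ev_nil, gB, mul_one] at this
  generalize be y t u = b at *
  -- the target word is the freely (with squares) reduced form of `(z b r x)^5`
  have hxx : ∀ w : G, x * (x * w) = w := by intro w; rw [← mul_assoc, h.x2, one_mul]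
  refine eq_one_trans ?_ this
  simp only [pow_succ, pow_zero, one_mul, mul_assoc, hxx]

end RelsL

end Cfsg.Agent.SuzType.PresRel
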