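import Cfsg.Agent.SuzType.Words

/-!
# Groups of Suzuki type: the involutions of `R_y`
-/

set_option autoImplicit false

namespace Cfsg.Agent.SuzType.RInv

open Cfsg.Agent.J2Type.QStruct Cfsg.Agent.J2Type.Model
open Cfsg.Agent.ClassificationK.LargeSymplectic Cfsg.Agent.SuzType.CanonG Cfsg.Agent.SuzType.Swap
  Cfsg.Agent.SuzType.RR Cfsg.Agent.SuzType.CentA4 Cfsg.Agent.SuzType.LocalRel Cfsg.Agent.SuzType.Words

variable {G : Type*} [Group G]

/-- `v ∈ ⟨z, y⟩` -/
def InV (z y v : G) : Prop := v = 1 ∨ v = z ∨ v = y ∨ v = z * y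

/-- `n m = z^a m n` -/
def CR (z n m : G) (a : ZMod 2) : Prop := n * m = zp z a * (m * n)

theorem CR.mul_left {z n n' m : G} {a b : ZMod 2} (hz : z * z = 1) (h : CR z n m a) (h' : CR z n' m b)
    (hn : n * z = z * n) : CR z (n * n') m (a + b) := by
  unfold CR at *
  have h1 : n * zp z b = zp z b * n := by
    rcases zmod2_cases b with rfl | rfl
    · rw [zp_zero, one_mul, mul_one]
    · rw [zp_one, hn]
  calc n * n' * m = n * (n' * m) := by group
    _ = (n * zp z b) * (m * n') := by rw [h']; group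
    _ = zp z b * (n * m) * n' := by rw [h1]; group
    _ = (zp z b * zp z a) * (m * n * n') := by rw [h]; group
    _ = _ := by rw [← zp_add z hz, add_comm b a, mul_assoc m]

theorem CR.symm {z n m : G} {a : ZMod 2} (hz : z * z = 1) (h : CR z n m a) : CR z m n a := by
  unfold CR at *
  rw [h, ← mul_assoc, zp_self z hz, one_mul]

theorem CR.mul_right {z n m m' : G} {a b : ZMod 2} (hz : z * z = 1) (h : CR z n m a) (h' : CR z n m' b)
    (hm : m * z = z * m) : CR z n (m * m') (a + b) :=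
  (CR.mul_left hz (h.symm hz) (h'.symm hz) hm).symm hz

theorem CR.unique {z n m : G} {a b : ZMod 2} (hz : z ≠ 1) (h : CR z n m a) (h' : CR z n m b) : a = b := by
  unfold CR at *
  rw [h] at h'
  have h1 : zp z a = zp z b := mul_right_cancel h'
  rcases zmod2_cases a with rfl | rfl <;> rcases zmod2_cases b with rfl | rfl
  · rfl
  · rw [zp_zero, zp_one] at h1; exact absurd h1.symm hz
  · rw [zp_zero, zp_one] at h1; exact absurd h1 hz
  · rfl

section
variable {Q L : Subgroup G} {z y t f u g : G} {c : Fin 5 → G} {κ : alternatingGroup (Fin 5) →* G}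

theorem InV.mem (H : Pre Q z y t L) {v : G} (h : InV z y v) : v ∈ Q := by
  rcases h with rfl | rfl | rfl | rfl
  · exact Q.one_mem
  · exact H.D.mem
  · exact H.yQ
  · exact Q.mul_mem H.D.mem H.yQ

theorem InV.commute (H : Pre Q z y t L) {v n : G} (h : InV z y v) (hn : n ∈ Q) (hy : n * y = y * n) :
    Commute v n := by
  have hz : Commute z n := (H.D.com n hn).symm
  have hyn : Commute y n := hy.symm
  rcases h with rfl | rfl | rfl | rfl
  · exact Commute.one_left _
  · exact hz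
  · exact hyn
  · exact hz.mul_left hyn

theorem InV.sq (H : Pre Q z y t L) {v : G} (h : InV z y v) : v * v = 1 := by
  rcases h with rfl | rfl | rfl | rfl
  · rw [one_mul]
  · exact H.zz
  · exact H.y2
  · calc z * y * (z * y) = z * (y * z) * y := by group
      _ = z * z * (y * y) := by rw [← H.zy]; group
      _ = 1 := by rw [H.zz, H.y2, one_mul]

theorem InV.mul (H : Pre Q z y t L) {v w : G} (h : InV z y v) (h' : InV z y w) : InV z y (v * w) := by
  have hzz := H.zz
  have hyy := H.y2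
  have hzy := H.zy
  unfold InV at *
  rcases h with rfl | rfl | rfl | rfl
  · rw [one_mul]; exact h'
  · rcases h' with rfl | rfl | rfl | rfl
    · rw [mul_one]; exact Or.inr (Or.inl rfl)
    · exact Or.inl hzz
    · exact Or.inr (Or.inr (Or.inr rfl))
    · refine Or.inr (Or.inr (Or.inl ?_)); rw [← mul_assoc, hzz, one_mul]
  · rcases h' with rfl | rfl | rfl | rfl
    · rw [mul_one]; exact Or.inr (Or.inr (Or.inl rfl))
    · exact Or.inr (Or.inr (Or.inr hzy.symm))
    · exact Or.inl hyy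
    · refine Or.inr (Or.inl ?_); rw [hzy, ← mul_assoc, hyy, one_mul]
  · rcases h' with rfl | rfl | rfl | rfl
    · rw [mul_one]; exact Or.inr (Or.inr (Or.inr rfl))
    · refine Or.inr (Or.inr (Or.inl ?_)); rw [hzy, mul_assoc, hzz, mul_one]
    · refine Or.inr (Or.inl ?_); rw [mul_assoc, hyy, mul_one]
    · left
      calc z * y * (z * y) = z * (y * z) * y := by group
        _ = z * z * (y * y) := by rw [← hzy]; group
        _ = 1 := by rw [hzz, hyy, one_mul]

theorem InV.conj (H : Pre Q z y t L) (T : Tri Q z y t f) {v : G} (h : InV z y v) :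
    InV z y (f * v * f⁻¹) := by
  rcases h with rfl | rfl | rfl | rfl
  · left; group
  · rw [T.gz]; exact Or.inr (Or.inr (Or.inl rfl))
  · rw [T.ge]; exact Or.inr (Or.inr (Or.inr rfl))
  · have : f * (z * y) * f⁻¹ = (f * z * f⁻¹) * (f * y * f⁻¹) := by group
    rw [this, T.gz, T.ge, H.zy, ← mul_assoc, H.y2, one_mul]
    exact Or.inr (Or.inl rfl)

theorem InV.conj' (H : Pre Q z y t L) (T : Tri Q z y t f) {v : G} (h : InV z y v) :
    InV z y (f⁻¹ * v * f) := by
  have e1 : f⁻¹ * y * f = z := by rw [← T.gz]; group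
  have e2 : f⁻¹ * (z * y) * f = y := by rw [← T.ge]; group
  have e3 : f⁻¹ * z * f = z * y := by
    have : f⁻¹ * z * f = (f⁻¹ * (z * y) * f) * (f⁻¹ * y * f) := by
      calc f⁻¹ * z * f = f⁻¹ * (z * (y * y)) * f := by rw [H.y2, mul_one]
        _ = _ := by group
    rw [this, e1, e2, H.zy]
  rcases h with rfl | rfl | rfl | rfl
  · left; group
  · rw [e3]; exact Or.inr (Or.inr (Or.inr rfl))
  · rw [e1]; exact Or.inr (Or.inl rfl)
  · rw [e2]; exact Or.inr (Or.inr (Or.inl rfl))

theorem InV.commuteF (H : Pre Q z y t L) (T : Tri Q z y t f) {v n : G} (h : InV z y v) (hn : n ∈ Q)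
    (hy : n * y = y * n) : Commute v (f * n * f⁻¹) := by
  have h1 : (f⁻¹ * v * f) * n = n * (f⁻¹ * v * f) := (h.conj' H T).commute H hn hy
  show v * (f * n * f⁻¹) = f * n * f⁻¹ * v
  calc v * (f * n * f⁻¹) = f * ((f⁻¹ * v * f) * n) * f⁻¹ := by group
    _ = f * (n * (f⁻¹ * v * f)) * f⁻¹ := by rw [h1]
    _ = _ := by group

theorem y_ne (H : Pre Q z y t L) (T : Tri Q z y t f) : y ≠ 1 := by
  intro h
  have := T.gz
  rw [h, mul_inv_eq_one, mul_eq_left] at this
  exact H.z_ne this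

theorem zy_ne (H : Pre Q z y t L) (T : Tri Q z y t f) : z * y ≠ 1 := by
  intro h
  have := T.ge
  rw [h, mul_inv_eq_one, mul_eq_left] at this
  exact y_ne H T this

/-- The commutation of `n` with `m^f`. -/
theorem cr_conj (H : Pre Q z y t L) (T : Tri Q z y t f) {n m : G} {b : ZMod 2} (hn : n ∈ Q) (hm : m ∈ Q)
    (hny : n * y = y * n) (hmy : m * y = y * m) (h : CR z n m b) : CR (z * y) n (f * m * f⁻¹) b := by
  have := T.rr n hn m hm hny hmy
  unfold CR at *
  rcases zmod2_cases b with rfl | rfl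
  · rw [zp_zero, one_mul] at h ⊢
    exact this.1 h
  · rw [zp_one] at h ⊢
    exact this.2 h

/-- The square of an element of `R_y`. -/
theorem sq_lemma (H : Pre Q z y t L) (T : Tri Q z y t f) {n m w : G} {p q b : ZMod 2} (hn : n ∈ Q) (hm : m ∈ Q)
    (hny : n * y = y * n) (hmy : m * y = y * m) (hw : InV z y w) (hp : n * n = zp z p) (hq : m * m = zp z q)
    (h : CR z n m b) (hr : w * (n * (f * m * f⁻¹)) * (w * (n * (f * m * f⁻¹))) = 1) : p = b ∧ q = b := by
  set F := f * m * f⁻¹ with hF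
  have hFF : F * F = zp y q := by
    have : F * F = f * (m * m) * f⁻¹ := by rw [hF]; group
    rw [this, hq]
    rcases zmod2_cases q with rfl | rfl
    · rw [zp_zero, zp_zero]; group
    · rw [zp_one, zp_one, T.gz]
  have hs : InV z y (zp (z * y) b) := by
    rcases zmod2_cases b with rfl | rfl
    · rw [zp_zero]; exact Or.inl rfl
    · rw [zp_one]; exact Or.inr (Or.inr (Or.inr rfl))
  have h1 : n * F = zp (z * y) b * (F * n) := cr_conj H T hn hm hny hmy h
  have h2 : F * n = zp (z * y) b * (n * F) := by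
    rw [h1, ← mul_assoc, hs.sq H, one_mul]
  have cn : Commute w n := hw.commute H hn hny
  have cF : Commute w F := hw.commuteF H T hm hmy
  have c3 : w * (n * F) = (n * F) * w := (cn.mul_right cF).eq
  have s1 : zp (z * y) b * n = n * zp (z * y) b := (hs.commute H hn hny).eq
  have key : zp (z * y) b * (zp z p * zp y q) = 1 := by
    rw [← hr]
    symm
    calc w * (n * F) * (w * (n * F)) = w * ((n * F) * w) * (n * F) := by group
      _ = (w * w) * (n * (F * n) * F) := by rw [← c3]; group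
      _ = (n * zp (z * y) b) * (n * (F * F)) := by rw [hw.sq H, h2]; group
      _ = zp (z * y) b * (n * n * (F * F)) := by rw [← s1]; group
      _ = _ := by rw [hp, hFF]
  have hz := H.z_ne
  have hy := y_ne H T
  have hzy := zy_ne H T
  have e1 : z * y * z = y := by rw [H.zy, mul_assoc, H.zz, mul_one]
  have e2 : z * y * y = z := by rw [mul_assoc, H.y2, mul_one]
  rcases zmod2_cases p with rfl | rfl <;> rcases zmod2_cases q with rfl | rfl <;>
    rcases zmod2_cases b with rfl | rfl <;>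
    simp only [zp_zero, zp_one, one_mul, mul_one, and_self, e1, e2] at key ⊢
  · exact absurd key hzy
  · exact absurd key hy
  · exact absurd key hz
  · exact absurd key hz
  · exact absurd key hy
  · exact absurd key hzy

/-- `e i j = 1` if `i ≠ j`. -/
def e (i j : Fin 5) : ZMod 2 := if i = j then 0 else 1

theorem cr_cc (K : Canon Q z y t L c κ) (i j : Fin 5) : CR z (c i) (c j) (e i j) := by
  unfold CR e
  by_cases h : i = j
  · subst h; rw [if_pos rfl, zp_zero, one_mul]
  · rw [if_neg h, zp_one]; exact K.c_anti i j h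

theorem cz (H : Pre Q z y t L) (K : Canon Q z y t L c κ) (i : Fin 5) : c i * z = z * c i :=
  H.D.com _ (K.c_mem i)

theorem cc_mem (K : Canon Q z y t L c κ) (i j : Fin 5) : c i * c j ∈ Q := Q.mul_mem (K.c_mem i) (K.c_mem j)

theorem cc_y (K : Canon Q z y t L c κ) (i j : Fin 5) : c i * c j * y = y * (c i * c j) := by
  rw [mul_assoc, K.c_y j, ← mul_assoc, K.c_y i, mul_assoc]

theorem cc_sq (H : Pre Q z y t L) (K : Canon Q z y t L c κ) (i j : Fin 5) (h : i ≠ j) :
    c i * c j * (c i * c j) = zp z 1 := by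
  rw [zp_one]
  calc c i * c j * (c i * c j) = c i * (c j * c i) * c j := by group
    _ = (c i * z) * (c i * c j) * c j := by rw [K.c_anti j i h.symm]; group
    _ = z * (c i * c i) * (c j * c j) := by rw [cz H K]; group
    _ = z := by rw [K.c_sq, K.c_sq, mul_one, mul_one]

theorem cr_c_cc (H : Pre Q z y t L) (K : Canon Q z y t L c κ) (i j k : Fin 5) :
    CR z (c i) (c j * c k) (e i j + e i k) :=
  CR.mul_right H.zz (cr_cc K i j) (cr_cc K i k) (cz H K j)

theorem cr_cc_cc (H : Pre Q z y t L) (K : Canon Q z y t L c κ) (i j k l : Fin 5) :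
    CR z (c i * c j) (c k * c l) (e i k + e i l + (e j k + e j l)) :=
  CR.mul_left H.zz (cr_c_cc H K i k l) (cr_c_cc H K j k l) (cz H K i)

/-- The three shapes. -/
theorem form (H : Pre Q z y t L) (K : Canon Q z y t L c κ) {a : G} (ha : a ∈ Q) (hay : a * y = y * a) :
    ∃ v, InV z y v ∧ (a = v * 1 ∨ (∃ i, a = v * c i) ∨ ∃ i j, i ≠ j ∧ a = v * (c i * c j)) := by
  obtain ⟨k, hk, hd⟩ := H.decomp a ha
  obtain ⟨kQ, ky, kt⟩ := Pre.mem_K0.1 hk
  have hkv : ∃ v, InV z y v ∧ a = v * k := by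
    rcases hd with rfl | rfl | rfl | rfl
    · exact ⟨1, Or.inl rfl, (one_mul _).symm⟩
    · exact ⟨y, Or.inr (Or.inr (Or.inl rfl)), ky⟩
    · exfalso
      have h1 : t * y = y * t := by
        apply mul_left_cancel (a := k)
        calc k * (t * y) = k * t * y := by group
          _ = (y * k) * t := by rw [hay]; group
          _ = k * (y * t) := by rw [← ky]; group
      rw [H.ty, mul_eq_right] at h1
      exact H.z_ne h1
    · exfalso
      have h1 : t * y = y * t := by
        apply mul_left_cancel (a := k * y)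
        calc k * y * (t * y) = k * (y * t) * y := by group
          _ = (y * k) * (y * t) := by rw [hay]; group
          _ = k * y * (y * t) := by rw [← ky]
      rw [H.ty, mul_eq_right] at h1
      exact H.z_ne h1
  obtain ⟨v, hv, rfl⟩ := hkv
  have hz : ∀ b, InV z y (zp z b) := by
    intro b
    rcases zmod2_cases b with rfl | rfl
    · rw [zp_zero]; exact Or.inl rfl
    · rw [zp_one]; exact Or.inr (Or.inl rfl)
  rcases K.cover k kQ ky kt with ⟨b, rfl⟩ | ⟨b, i, rfl⟩ | ⟨b, i, j, hij, rfl⟩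
  · exact ⟨v * zp z b, hv.mul H (hz b), Or.inl (by rw [mul_one])⟩
  · exact ⟨v * zp z b, hv.mul H (hz b), Or.inr (Or.inl ⟨i, by rw [mul_assoc]⟩)⟩
  · exact ⟨v * zp z b, hv.mul H (hz b), Or.inr (Or.inr ⟨i, j, hij.ne, by rw [mul_assoc]⟩)⟩

theorem exists_three (i j k : Fin 5) (hij : i ≠ j) (hik : i ≠ k) (hjk : j ≠ k) :
    ∃ σ : alternatingGroup (Fin 5), (σ : Equiv.Perm (Fin 5)) i = 0 ∧ (σ : Equiv.Perm (Fin 5)) j = 1 ∧
      (σ : Equiv.Perm (Fin 5)) k = 2 := by
  have key : ∃ π : Equiv.Perm (Fin 5), π i = 0 ∧ π j = 1 ∧ π k = 2 := by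
    let a : Equiv.Perm (Fin 5) := Equiv.swap 0 i
    let b : Equiv.Perm (Fin 5) := Equiv.swap 1 (a j) * a
    have ai : a i = 0 := Equiv.swap_apply_right _ _
    have aj : a j ≠ 0 := by rw [← ai]; exact fun h => hij (a.injective h).symm
    have bi : b i = 0 := by
      show Equiv.swap 1 (a j) (a i) = 0
      rw [ai]; exact Equiv.swap_apply_of_ne_of_ne (by decide) aj.symm
    have bj : b j = 1 := Equiv.swap_apply_right _ _
    have bk0 : b k ≠ 0 := by rw [← bi]; exact fun h => hik (b.injective h).symm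
    have bk1 : b k ≠ 1 := by rw [← bj]; exact fun h => hjk (b.injective h).symm
    refine ⟨Equiv.swap 2 (b k) * b, ?_, ?_, Equiv.swap_apply_right _ _⟩
    · show Equiv.swap 2 (b k) (b i) = 0
      rw [bi]; exact Equiv.swap_apply_of_ne_of_ne (by decide) bk0.symm
    · show Equiv.swap 2 (b k) (b j) = 1
      rw [bj]; exact Equiv.swap_apply_of_ne_of_ne (by decide) bk1.symm
  obtain ⟨π, h1, h2, h3⟩ := key
  rcases Int.units_eq_one_or (Equiv.Perm.sign π) with hs | hs
  · exact ⟨⟨π, Equiv.Perm.mem_alternatingGroup.2 hs⟩, h1, h2, h3⟩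
  · refine ⟨⟨Equiv.swap 3 4 * π, Equiv.Perm.mem_alternatingGroup.2 ?_⟩, ?_, ?_, ?_⟩
    · rw [map_mul, hs, Equiv.Perm.sign_swap (by decide)]; rfl
    · show Equiv.swap 3 4 (π i) = 0
      rw [h1]; decide
    · show Equiv.swap 3 4 (π j) = 1
      rw [h2]; decide
    · show Equiv.swap 3 4 (π k) = 2
      rw [h3]; decide

/-- Index combinatorics. -/
theorem idx : ∀ i j k l : Fin 5, i ≠ j → k ≠ l → (1 : ZMod 2) = e i k + e i l + (e j k + e j l) →
    (i = k ∧ j ≠ l) ∨ (i = l ∧ j ≠ k) ∨ (j = k ∧ i ≠ l) ∨ (j = l ∧ i ≠ k) := by decide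

/-- Fusion of the four translates. -/
theorem fuse (H : Pre Q z y t L) (K : Canon Q z y t L c κ) (T : Tri Q z y t f) {w : G} (hw : InV z y w) :
    ∃ k, k * z = z * k ∧ k * (w * ((c 0 * c 1) * (f * (c 0 * c 2) * f⁻¹))) * k⁻¹ =
      (c 0 * c 1) * (f * (c 0 * c 2) * f⁻¹) := by
  set F := f * (c 0 * c 2) * f⁻¹ with hF
  have hsq := hw.sq H
  have hwc : ∀ i, Commute w (c i) := fun i => hw.commute H (K.c_mem i) (K.c_y i)
  -- conjugation by `c 1`
  have f1 : c 1 * F = F * c 1 := by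
    have := cr_conj H T (K.c_mem 1) (cc_mem K 0 2) (K.c_y 1) (cc_y K 0 2) (cr_c_cc H K 1 0 2)
    unfold CR at this
    rw [show e 1 0 + e 1 2 = 0 by decide, zp_zero, one_mul] at this
    exact this
  have f0 : c 0 * F = z * y * (F * c 0) := by
    have := cr_conj H T (K.c_mem 0) (cc_mem K 0 2) (K.c_y 0) (cc_y K 0 2) (cr_c_cc H K 0 0 2)
    unfold CR at this
    rw [show e 0 0 + e 0 2 = 1 by decide, zp_one] at this
    exact this
  have a1 : c 1 * (c 0 * c 1) = z * ((c 0 * c 1) * c 1) := by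
    rw [← mul_assoc, K.c_anti 1 0 (by decide)]; group
  have a0 : c 0 * (c 0 * c 1) = z * ((c 0 * c 1) * c 0) := by
    have : c 0 * c 1 = z * (c 1 * c 0) := K.c_anti 0 1 (by decide)
    calc c 0 * (c 0 * c 1) = (c 0 * z) * (c 1 * c 0) := by rw [this]; group
      _ = _ := by rw [cz H K]; group
  have hzyV : InV z y (z * y) := Or.inr (Or.inr (Or.inr rfl))
  have k1 : c 1 * (w * ((c 0 * c 1) * F)) = z * w * ((c 0 * c 1) * F) * c 1 := by
    calc c 1 * (w * ((c 0 * c 1) * F)) = (c 1 * w) * ((c 0 * c 1) * F) := by group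
      _ = w * (c 1 * (c 0 * c 1)) * F := by rw [← (hwc 1).eq]; group
      _ = (w * z) * (c 0 * c 1) * (c 1 * F) := by rw [a1]; group
      _ = z * w * ((c 0 * c 1) * F) * c 1 := by rw [f1, H.D.com w (hw.mem H)]; group
  have k0 : c 0 * (w * ((c 0 * c 1) * F)) = y * w * ((c 0 * c 1) * F) * c 0 := by
    have zc : ∀ i, c i * z = z * c i := cz H K
    have yc : ∀ i, c i * y = y * c i := K.c_y
    calc c 0 * (w * ((c 0 * c 1) * F)) = (c 0 * w) * ((c 0 * c 1) * F) := by group
      _ = w * (c 0 * (c 0 * c 1)) * F := by rw [← (hwc 0).eq]; group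
      _ = w * z * (c 0 * c 1) * (c 0 * F) := by rw [a0]; group
      _ = w * z * ((c 0 * c 1) * (z * y)) * F * c 0 := by rw [f0]; group
      _ = w * z * ((z * y) * (c 0 * c 1)) * F * c 0 := by
          rw [(hzyV.commute H (cc_mem K 0 1) (cc_y K 0 1)).eq]
      _ = w * (z * z) * y * ((c 0 * c 1) * F) * c 0 := by group
      _ = (w * y) * ((c 0 * c 1) * F) * c 0 := by rw [H.zz]; group
      _ = _ := by rw [(hw.commute H H.yQ rfl).eq]
  rcases hw with rfl | rfl | rfl | rfl
  · exact ⟨1, by rw [one_mul, mul_one], by group⟩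
  · refine ⟨c 1, cz H K 1, ?_⟩
    rw [k1, H.zz]; group
  · refine ⟨c 0, cz H K 0, ?_⟩
    rw [k0, H.y2]; group
  · refine ⟨c 1 * c 0, ?_, ?_⟩
    · rw [mul_assoc, cz H K 0, ← mul_assoc, cz H K 1, mul_assoc]
    · have e1 : y * (z * y) = z := by rw [← mul_assoc, ← H.zy, mul_assoc, H.y2, mul_one]
      rw [e1] at k0
      have k1' : c 1 * (z * ((c 0 * c 1) * F)) = ((c 0 * c 1) * F) * c 1 := by
        calc c 1 * (z * ((c 0 * c 1) * F)) = (c 1 * z) * ((c 0 * c 1) * F) := by group
          _ = z * (c 1 * (c 0 * c 1)) * F := by rw [cz H K 1]; group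
          _ = (z * z) * (c 0 * c 1) * (c 1 * F) := by rw [a1]; group
          _ = _ := by rw [H.zz, f1]; group
      calc c 1 * c 0 * (z * y * (c 0 * c 1 * F)) * (c 1 * c 0)⁻¹ =
          c 1 * (c 0 * (z * y * ((c 0 * c 1) * F))) * (c 0)⁻¹ * (c 1)⁻¹ := by group
        _ = c 1 * (z * ((c 0 * c 1) * F)) * (c 1)⁻¹ := by rw [k0]; group
        _ = _ := by rw [k1']; group

/-- **The involutions of `R_y`.** -/
theorem classify [Finite G] (Λ : Local Q z y t f u g L) (K : Canon Q z y t L c κ) {a a' : G} (ha : a ∈ Q)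
    (hay : a * y = y * a) (ha' : a' ∈ Q) (ha'y : a' * y = y * a')
    (hr : (a * (f * a' * f⁻¹)) * (a * (f * a' * f⁻¹)) = 1) :
    a * (f * a' * f⁻¹) ∈ Q ∨ f⁻¹ * (a * (f * a' * f⁻¹)) * f ∈ Q ∨ f * (a * (f * a' * f⁻¹)) * f⁻¹ ∈ Q ∨
      ∃ k, k * z = z * k ∧ k * (a * (f * a' * f⁻¹)) * k⁻¹ = (c 0 * c 1) * (f * (c 0 * c 2) * f⁻¹) := by
  have H : Pre Q z y t L := Λ.toPreT.toPre
  have T : Tri Q z y t f := Λ.T1
  obtain ⟨v, hv, hm⟩ := form H K ha hay
  obtain ⟨v', hv', hm'⟩ := form H K ha' ha'y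
  have hv'' := hv'.conj H T
  have hw := hv.mul H hv''
  -- the normal form `w * (m * F)`
  have nf : ∀ m m' : G, m ∈ Q → m * y = y * m → a = v * m → a' = v' * m' →
      a * (f * a' * f⁻¹) = (v * (f * v' * f⁻¹)) * (m * (f * m' * f⁻¹)) := by
    intro m m' hmQ hmy h1 h2
    have hc : m * (f * v' * f⁻¹) = (f * v' * f⁻¹) * m := (hv''.commute H hmQ hmy).eq.symm
    rw [h1, h2]
    calc v * m * (f * (v' * m') * f⁻¹) = v * (m * (f * v' * f⁻¹)) * (f * m' * f⁻¹) := by group
      _ = _ := by rw [hc]; group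
  rcases hm with hm | ⟨i, hm⟩ | ⟨i, j, hij, hm⟩
  · -- `m = 1`
    right; left
    have h1 : f⁻¹ * (a * (f * a' * f⁻¹)) * f = (f⁻¹ * v * f) * a' := by rw [hm]; group
    rw [h1]
    exact Q.mul_mem ((hv.conj' H T).mem H) ha'
  · rcases hm' with hm' | ⟨k, hm'⟩ | ⟨k, l, hkl, hm'⟩
    · left
      have h1 : a * (f * a' * f⁻¹) = a * (f * v' * f⁻¹) := by rw [hm', mul_one]
      rw [h1]
      exact Q.mul_mem ha (hv''.mem H)
    · have e0 := nf _ _ (K.c_mem i) (K.c_y i) hm hm'
      rw [e0] at hr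
      have h0 := sq_lemma H T (K.c_mem i) (K.c_mem k) (K.c_y i) (K.c_y k) hw
        (p := 0) (q := 0) (by rw [zp_zero]; exact K.c_sq i) (by rw [zp_zero]; exact K.c_sq k) (cr_cc K i k) hr
      have hik : i = k := by
        have := h0.1
        unfold e at this
        by_contra hne
        rw [if_neg hne] at this
        exact absurd this (by decide)
      subst hik
      right; right; left
      have hT := T.hT (c i) (K.c_mem i) (K.c_y i)
      have hi : (c i)⁻¹ = c i := inv_eq_of_mul_eq_one_left (K.c_sq i)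
      have h1 : c i * (f * c i * f⁻¹) = f⁻¹ * c i * f := by
        rw [mul_eq_one_iff_eq_inv] at hT
        rw [hT]
        calc (f⁻¹ * c i * f)⁻¹ = f⁻¹ * (c i)⁻¹ * f := by group
          _ = _ := by rw [hi]
      rw [e0, h1]
      have h2 : f * (v * (f * v' * f⁻¹) * (f⁻¹ * c i * f)) * f⁻¹ =
          (f * (v * (f * v' * f⁻¹)) * f⁻¹) * c i := by group
      rw [h2]
      exact Q.mul_mem ((hw.conj H T).mem H) (K.c_mem i)
    · exfalso
      have e0 := nf _ _ (K.c_mem i) (K.c_y i) hm hm'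
      rw [e0] at hr
      have h0 := sq_lemma H T (K.c_mem i) (cc_mem K k l) (K.c_y i) (cc_y K k l) hw
        (p := 0) (q := 1) (by rw [zp_zero]; exact K.c_sq i) (cc_sq H K k l hkl) (cr_c_cc H K i k l) hr
      have := h0.1.trans h0.2.symm
      exact absurd this (by decide)
  · rcases hm' with hm' | ⟨k, hm'⟩ | ⟨k, l, hkl, hm'⟩
    · left
      have h1 : a * (f * a' * f⁻¹) = a * (f * v' * f⁻¹) := by rw [hm', mul_one]
      rw [h1]
      exact Q.mul_mem ha (hv''.mem H)
    · exfalso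
      have e0 := nf _ _ (cc_mem K i j) (cc_y K i j) hm hm'
      rw [e0] at hr
      have h0 := sq_lemma H T (cc_mem K i j) (K.c_mem k) (cc_y K i j) (K.c_y k) hw
        (p := 1) (q := 0) (cc_sq H K i j hij) (by rw [zp_zero]; exact K.c_sq k)
        ((cr_c_cc H K k i j).symm H.zz) hr
      have := h0.1.trans h0.2.symm
      exact absurd this (by decide)
    · have e0 := nf _ _ (cc_mem K i j) (cc_y K i j) hm hm'
      rw [e0] at hr
      have h0 := sq_lemma H T (cc_mem K i j) (cc_mem K k l) (cc_y K i j) (cc_y K k l) hw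
        (p := 1) (q := 1) (cc_sq H K i j hij) (cc_sq H K k l hkl) (cr_cc_cc H K i j k l) hr
      right; right; right
      -- normalise the indices
      have hzV : InV z y z := Or.inr (Or.inl rfl)
      have key : ∃ i' j' k' w', i' ≠ j' ∧ i' ≠ k' ∧ j' ≠ k' ∧ InV z y w' ∧
          a * (f * a' * f⁻¹) = w' * ((c i' * c j') * (f * (c i' * c k') * f⁻¹)) := by
        have hyV : InV z y y := Or.inr (Or.inr (Or.inl rfl))
        have sw : ∀ p q m : Fin 5, p ≠ q → ∀ X : G, c p * c q * X = z * (c q * c p * X) := by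
          intro p q _ hpq X
          rw [K.c_anti p q hpq]; group
        have swF : ∀ p q : Fin 5, p ≠ q → ∀ i j : Fin 5,
            (c i * c j) * (f * (c p * c q) * f⁻¹) = y * ((c i * c j) * (f * (c q * c p) * f⁻¹)) := by
          intro p q hpq i j
          have h1 : f * (c p * c q) * f⁻¹ = y * (f * (c q * c p) * f⁻¹) := by
            rw [K.c_anti p q hpq, ← T.gz]; group
          rw [h1, ← mul_assoc (c i * c j), cc_y K i j, mul_assoc]
        rcases idx i j k l hij hkl h0.1 with ⟨rfl, hne⟩ | ⟨rfl, hne⟩ | ⟨rfl, hne⟩ | ⟨rfl, hne⟩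
        · exact ⟨i, j, l, _, hij, hkl, hne, hw, e0⟩
        · refine ⟨i, j, k, (v * (f * v' * f⁻¹)) * y, hij, hkl.symm, hne, hw.mul H hyV, ?_⟩
          rw [e0, swF k i hkl i j]; group
        · refine ⟨j, i, l, (v * (f * v' * f⁻¹)) * z, hij.symm, hkl, hne, hw.mul H hzV, ?_⟩
          rw [e0, sw i j i hij]; group
        · refine ⟨j, i, k, (v * (f * v' * f⁻¹)) * z * y, hij.symm, hkl.symm, hne,
            (hw.mul H hzV).mul H hyV, ?_⟩
          rw [e0, sw i j i hij, swF k j hkl j i]; group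
      obtain ⟨i', j', k', w', h1, h2, h3, hw', e1⟩ := key
      obtain ⟨σ, s1, s2, s3⟩ := exists_three i' j' k' h1 h2 h3
      have hL : ∀ σ, κ σ ∈ L := fun σ => by rw [← K.κ_range]; exact ⟨σ, rfl⟩
      have sy : Commute (κ σ) y := Λ.Ly _ (hL σ)
      have st : Commute (κ σ) t := Λ.Lt _ (hL σ)
      have sf : Commute (κ σ) f := Λ.fL _ (hL σ)
      have sz : Commute (κ σ) z := H.Lz _ (hL σ)
      have sw' : Commute (κ σ) w' := by
        rcases hw' with rfl | rfl | rfl | rfl
        · exact Commute.one_right _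
        · exact sz
        · exact sy
        · exact sz.mul_right sy
      have ci := K.κ_conj σ i'
      have cj := K.κ_conj σ j'
      have ck := K.κ_conj σ k'
      rw [s1] at ci
      rw [s2] at cj
      rw [s3] at ck
      have hconj : κ σ * (w' * ((c i' * c j') * (f * (c i' * c k') * f⁻¹))) * (κ σ)⁻¹ =
          w' * ((c 0 * c 1) * (f * (c 0 * c 2) * f⁻¹)) := by
        have g1 : κ σ * w' * (κ σ)⁻¹ = w' := by rw [sw'.eq]; group
        have g2 : κ σ * f * (κ σ)⁻¹ = f := by rw [sf.eq]; group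
        have g3 : κ σ * f⁻¹ * (κ σ)⁻¹ = f⁻¹ := by rw [sf.inv_right.eq]; group
        calc κ σ * (w' * ((c i' * c j') * (f * (c i' * c k') * f⁻¹))) * (κ σ)⁻¹ =
            (κ σ * w' * (κ σ)⁻¹) * (((κ σ * c i' * (κ σ)⁻¹) * (κ σ * c j' * (κ σ)⁻¹)) *
              ((κ σ * f * (κ σ)⁻¹) * ((κ σ * c i' * (κ σ)⁻¹) * (κ σ * c k' * (κ σ)⁻¹)) *
                (κ σ * f⁻¹ * (κ σ)⁻¹))) := by group
          _ = _ := by rw [g1, g2, g3, ci, cj, ck]
      obtain ⟨k₀, hk₀, hk₁⟩ := fuse H K T hw'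
      refine ⟨k₀ * κ σ, ?_, ?_⟩
      · rw [mul_assoc, sz.eq, ← mul_assoc, hk₀, mul_assoc]
      · rw [e1]
        calc k₀ * κ σ * (w' * (c i' * c j' * (f * (c i' * c k') * f⁻¹))) * (k₀ * κ σ)⁻¹ =
            k₀ * (κ σ * (w' * (c i' * c j' * (f * (c i' * c k') * f⁻¹))) * (κ σ)⁻¹) * k₀⁻¹ := by group
          _ = _ := by rw [hconj, hk₁]

end

end Cfsg.Agent.SuzType.RInv
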