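import Mathlib

/-!
# The presentation `S1` of the Suzuki group (helper952)

Eight elements `x y r t u p q w`; `z = (x y)²`; `D8 = ⟨x, y⟩`, `L = ⟨p, q, w⟩ = A5`, `J = ⟨x, y, t, u⟩ = A6`
commutes with `L`, `r` is a canonical involution of `2^{1+4}`.
-/

set_option autoImplicit false

namespace Cfsg.Agent.SuzType.S1

/-- Relations valid in every group of Suzuki type (words left to right, `a ^ g = g⁻¹ a g`). -/
structure Rels {G : Type*} [Group G] (x y r t u p q w : G) : Prop where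
  x2 : x * x = 1
  y2 : y * y = 1
  r2 : r * r = 1
  xy4 : (x * y) ^ 4 = 1
  t3 : t ^ 3 = 1
  u3 : u ^ 3 = 1
  tz : t⁻¹ * (x * y) ^ 2 * t = x
  tx : t⁻¹ * x * t = (x * y) ^ 2 * x
  ty : y * t * y * t = 1
  uz : u⁻¹ * (x * y) ^ 2 * u = y
  uy : u⁻¹ * y * u = (x * y) ^ 2 * y
  ux : x * u * x * u = 1
  rx : r * x = x * r
  ry : r * y = y * r
  rt : (r * t) ^ 3 = 1
  ru : (r * u) ^ 3 = 1
  ab : ((t⁻¹ * r * t) * (u⁻¹ * r * u)) ^ 2 = (x * y) ^ 2 * r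
  xb : (x * (u⁻¹ * r * u)) ^ 2 = r
  ya : (y * (t⁻¹ * r * t)) ^ 2 = r
  tu5 : (t * u) ^ 5 = 1
  tu4 : (t * u⁻¹) ^ 4 = 1
  rtu : (r * t * u) ^ 5 = 1
  rtu' : (r * t * u⁻¹) ^ 5 = 1
  p3 : p ^ 3 = 1
  q3 : q ^ 3 = 1
  w3 : w ^ 3 = 1
  pq : (p * q) ^ 2 = 1
  pw : (p * w) ^ 2 = 1
  qw : (q * w) ^ 2 = 1
  px : p * x = x * p
  py : p * y = y * p
  pt : p * t = t * p
  pu : p * u = u * p
  qx : q * x = x * q
  qy : q * y = y * q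
  qt : q * t = t * q
  qu : q * u = u * q
  wx : w * x = x * w
  wy : w * y = y * w
  wt : w * t = t * w
  wu : w * u = u * w
  rp : r * p = p * r
  rq : r * q = q * r
  rrw : (r * (w⁻¹ * r * w)) ^ 2 = (x * y) ^ 2
  prod : r * (w⁻¹ * r * w) * (w * r * w⁻¹) * (p * w⁻¹ * r * w * p⁻¹) * (q * w⁻¹ * r * w * q⁻¹) = (x * y) ^ 2
  raw : (r * (w⁻¹ * (t⁻¹ * r * t) * w)) ^ 2 = (x * y) ^ 2 * x
  rbw : (r * (w⁻¹ * (u⁻¹ * r * u) * w)) ^ 2 = (x * y) ^ 2 * y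

end Cfsg.Agent.SuzType.S1
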