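import Cfsg.Agent.SuzType.E3A6

/-!
`⟨b, c, d⟩` with `b, c, d` involutions, `(bc)^3 = (bd)^3 = (cd)^4 = ((cd)^2 b)^5 = 1` is a quotient of `3·A₆`:
the element `ζ = (bcd)^5` has order dividing 3 and is central.  (helper627's enumeration E3.)
-/

set_option autoImplicit false

namespace Cfsg.Agent.SuzType.ThreeA6

open Cfsg.Agent.SporadicRecognition.CosetCert Cfsg.Agent.SuzType.E3A6Data

variable {G : Type*} [Group G]

/-- the letters -/
def lt (b c d : G) : ℕ → G := fun n => if n = 0 then b else if n = 1 then c else d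

theorem main {b c d : G} (hb : b * b = 1) (hc : c * c = 1) (hd : d * d = 1)
    (hbc : (b * c) ^ 3 = 1) (hbd : (b * d) ^ 3 = 1) (hcd : (c * d) ^ 4 = 1)
    (h5 : ((c * d) ^ 2 * b) ^ 5 = 1) :
    ((b * c * d) ^ 5) ^ 3 = 1 ∧ Commute ((b * c * d) ^ 5) b ∧ Commute ((b * c * d) ^ 5) c ∧
      Commute ((b * c * d) ^ 5) d := by
  have key := Cfsg.Agent.SuzType.E3A6.eq_one (lt b c d)
    (by
      intro x hx
      interval_cases x
      · simpa [lt, C] using hb
      · simpa [lt, C] using hc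
      · simpa [lt, C] using hd)
    (by
      intro r hr
      simp only [rels, List.mem_cons, List.not_mem_nil, or_false] at hr
      rcases hr with rfl | rfl | rfl | rfl
      · simpa [ev, lt, pow_succ, mul_assoc] using hbc
      · simpa [ev, lt, pow_succ, mul_assoc] using hbd
      · simpa [ev, lt, pow_succ, mul_assoc] using hcd
      · simpa [ev, lt, pow_succ, mul_assoc] using h5)
  have hb' : ∀ x : G, b * (b * x) = x := fun x => by rw [← mul_assoc, hb, one_mul]
  have hc' : ∀ x : G, c * (c * x) = x := fun x => by rw [← mul_assoc, hc, one_mul]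
  have hd' : ∀ x : G, d * (d * x) = x := fun x => by rw [← mul_assoc, hd, one_mul]
  have inv_bcd : (d * c * b) * (b * c * d) = 1 := by
    calc (d * c * b) * (b * c * d) = d * c * (b * b) * c * d := by group
      _ = 1 := by rw [hb, mul_one, mul_assoc d c c, hc, mul_one, hd]
  have hinv : (d * c * b) = (b * c * d)⁻¹ := eq_inv_of_mul_eq_one_left inv_bcd
  have comm : ∀ x : G, x * x = 1 → (b * c * d) ^ 5 * x * (d * c * b) ^ 5 * x = 1 →
      Commute ((b * c * d) ^ 5) x := by
    intro x hx h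
    rw [hinv, inv_pow] at h
    have hx' : x⁻¹ = x := inv_eq_of_mul_eq_one_left hx
    have h2 : (b * c * d) ^ 5 * x * ((b * c * d) ^ 5)⁻¹ = x := by
      have := eq_inv_of_mul_eq_one_left h
      rw [this, hx']
    exact (mul_inv_eq_iff_eq_mul.mp h2)
  refine ⟨?_, comm b hb ?_, comm c hc ?_, comm d hd ?_⟩
  · have := key [0,1,2,0,1,2,0,1,2,0,1,2,0,1,2,0,1,2,0,1,2,0,1,2,0,1,2,0,1,2,0,1,2,0,1,2,0,1,2,0,1,2,0,1,2] (by simp [targets])
    rw [← pow_mul]
    simpa [ev, lt, pow_succ, mul_assoc] using this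
  · have := key [0,1,2,0,1,2,0,1,2,0,1,2,0,1,2,0,2,1,0,2,1,0,2,1,0,2,1,0,2,1] (by simp [targets])
    simpa [ev, lt, pow_succ, mul_assoc, hb, hc, hd, hb', hc', hd'] using this
  · have := key [0,1,2,0,1,2,0,1,2,0,1,2,0,1,2,1,2,1,0,2,1,0,2,1,0,2,1,0,2,1,0,1] (by simp [targets])
    simpa [ev, lt, pow_succ, mul_assoc, hb, hc, hd, hb', hc', hd'] using this
  · have := key [0,1,2,0,1,2,0,1,2,0,1,2,0,1,2,1,0,2,1,0,2,1,0,2,1,0,2,1,0,2] (by simp [targets])
    simpa [ev, lt, pow_succ, mul_assoc, hb, hc, hd, hb', hc', hd'] using this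

end Cfsg.Agent.SuzType.ThreeA6
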