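import Cfsg.Agent.SuzType.LocalRel
import Cfsg.Agent.SuzType.S1

/-!
# Groups of Suzuki type: relations among the local elements

`Λ : Local Q z y t f u g L`, `K : Canon Q z y t L c κ`; `r = c 4`, `a = f r f⁻¹`, `b = u r u⁻¹`.
-/

set_option autoImplicit false

namespace Cfsg.Agent.SuzType.Words

open Cfsg.Agent.J2Type.QStruct Cfsg.Agent.J2Type.Model
open Cfsg.Agent.ClassificationK.LargeSymplectic Cfsg.Agent.SuzType.CanonG Cfsg.Agent.SuzType.Swap
  Cfsg.Agent.SuzType.RR Cfsg.Agent.SuzType.CentA4 Cfsg.Agent.SuzType.LocalRel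

variable {G : Type*} [Group G] {Q L : Subgroup G} {z y t f u g : G} {c : Fin 5 → G}
  {κ : alternatingGroup (Fin 5) →* G}

/-- Conjugation of `A5` by the transposition `(0 1)`. -/
def twistHom : alternatingGroup (Fin 5) →* alternatingGroup (Fin 5) where
  toFun σ := ⟨Equiv.swap 0 1 * (σ : Equiv.Perm (Fin 5)) * Equiv.swap 0 1, by
    have h := Equiv.Perm.mem_alternatingGroup.1 σ.2
    apply Equiv.Perm.mem_alternatingGroup.2
    rw [map_mul, map_mul, h, mul_one]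
    decide⟩
  map_one' := by
    apply Subtype.ext
    show Equiv.swap 0 1 * (1 : Equiv.Perm (Fin 5)) * Equiv.swap 0 1 = 1
    rw [mul_one, Equiv.swap_mul_self]
  map_mul' σ τ := by
    apply Subtype.ext
    show Equiv.swap 0 1 * ((σ : Equiv.Perm (Fin 5)) * (τ : Equiv.Perm (Fin 5))) * Equiv.swap 0 1 =
      (Equiv.swap 0 1 * (σ : Equiv.Perm (Fin 5)) * Equiv.swap 0 1) *
      (Equiv.swap 0 1 * (τ : Equiv.Perm (Fin 5)) * Equiv.swap 0 1)
    have h : (Equiv.swap 0 1 : Equiv.Perm (Fin 5)) * Equiv.swap 0 1 = 1 := Equiv.swap_mul_self 0 1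
    calc Equiv.swap 0 1 * ((σ : Equiv.Perm (Fin 5)) * (τ : Equiv.Perm (Fin 5))) * Equiv.swap 0 1 =
        Equiv.swap 0 1 * (σ : Equiv.Perm (Fin 5)) * 1 * (τ : Equiv.Perm (Fin 5)) * Equiv.swap 0 1 := by group
      _ = _ := by rw [← h]; group

theorem twistHom_coe (σ : alternatingGroup (Fin 5)) :
    ((twistHom σ : alternatingGroup (Fin 5)) : Equiv.Perm (Fin 5)) =
      Equiv.swap 0 1 * (σ : Equiv.Perm (Fin 5)) * Equiv.swap 0 1 := rfl

theorem twistHom_twistHom (σ : alternatingGroup (Fin 5)) : twistHom (twistHom σ) = σ := by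
  apply Subtype.ext
  rw [twistHom_coe, twistHom_coe]
  have h : ∀ j : Fin 5, Equiv.swap 0 1 (Equiv.swap 0 1 j) = j := by intro j; simp
  apply Equiv.ext
  intro i
  rw [Equiv.Perm.mul_apply, Equiv.Perm.mul_apply, Equiv.Perm.mul_apply, Equiv.Perm.mul_apply, h, h]

/-- The other choice of the signs. -/
theorem canon_twist (H : Pre Q z y t L) (K : Canon Q z y t L c κ) :
    Canon Q z y t L (fun i => z * c (Equiv.swap 0 1 i)) (κ.comp twistHom) := by
  have hz : ∀ x ∈ Q, x * z = z * x := H.D.com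
  have hsw : ∀ i j : Fin 5, i ≠ j → Equiv.swap 0 1 i ≠ Equiv.swap 0 1 j := by
    intro i j hij h
    exact hij ((Equiv.swap (0 : Fin 5) 1).injective h)
  have hpair : ∀ i j, (z * c i) * (z * c j) = c i * c j := by
    intro i j
    calc (z * c i) * (z * c j) = z * (c i * z) * c j := by group
      _ = (z * z) * (c i * c j) := by rw [hz _ (K.c_mem i)]; group
      _ = _ := by rw [H.zz, one_mul]
  refine {
    c_mem := fun i => mul_mem H.D.mem (K.c_mem _)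
    c_y := fun i => by rw [mul_assoc, K.c_y, ← mul_assoc, H.zy, mul_assoc]
    c_t := fun i => by rw [mul_assoc, K.c_t, ← mul_assoc, H.zt, mul_assoc]
    c_sq := fun i => by rw [hpair, K.c_sq]
    c_anti := fun i j hij => by rw [hpair, hpair, K.c_anti _ _ (hsw i j hij)]
    c_prod := ?_
    c_inj := ?_
    κ_range := ?_
    κ_inj := ?_
    κ_conj := ?_
    cover := ?_ }
  · have e0 : Equiv.swap (0 : Fin 5) 1 0 = 1 := by decide
    have e1 : Equiv.swap (0 : Fin 5) 1 1 = 0 := by decide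
    have e2 : Equiv.swap (0 : Fin 5) 1 2 = 2 := by decide
    have e3 : Equiv.swap (0 : Fin 5) 1 3 = 3 := by decide
    have e4 : Equiv.swap (0 : Fin 5) 1 4 = 4 := by decide
    rw [e0, e1, e2, e3, e4]
    have h1 := K.c_prod
    calc z * c 1 * (z * c 0) * (z * c 2) * (z * c 3) * (z * c 4)
        = (c 1 * c 0) * ((z * c 2) * (z * c 3)) * (z * c 4) := by rw [hpair]; group
      _ = (c 1 * c 0) * (c 2 * c 3) * (z * c 4) := by rw [hpair]
      _ = ((c 1 * c 0 * c 2 * c 3) * z) * c 4 := by group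
      _ = (z * (c 1 * c 0 * c 2 * c 3)) * c 4 := by
          rw [hz _ (mul_mem (mul_mem (mul_mem (K.c_mem 1) (K.c_mem 0)) (K.c_mem 2)) (K.c_mem 3))]
      _ = (z * (c 1 * c 0)) * (c 2 * c 3 * c 4) := by group
      _ = (c 0 * c 1) * (c 2 * c 3 * c 4) := by rw [← K.c_anti 0 1 (by decide)]
      _ = _ := by rw [← h1]; group
  · intro a b i j h
    have h1 : ∀ (a : ZMod 2) (i : Fin 5), zp z a * (z * c i) = zp z (a + 1) * c i := by
      intro a i
      rw [zp_add z H.zz, zp_one, mul_assoc]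
    rw [h1, h1] at h
    obtain ⟨h2, h3⟩ := K.c_inj _ _ _ _ h
    exact ⟨add_right_cancel h2, (Equiv.swap (0 : Fin 5) 1).injective h3⟩
  · rw [← K.κ_range]
    apply le_antisymm
    · rintro _ ⟨σ, rfl⟩
      exact ⟨twistHom σ, rfl⟩
    · rintro _ ⟨σ, rfl⟩
      refine ⟨twistHom σ, ?_⟩
      show κ (twistHom (twistHom σ)) = κ σ
      rw [twistHom_twistHom]
  · intro σ τ h
    have h1 : twistHom σ = twistHom τ := K.κ_inj h
    rw [← twistHom_twistHom σ, h1, twistHom_twistHom]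
  · intro σ i
    show κ (twistHom σ) * (z * c (Equiv.swap 0 1 i)) * (κ (twistHom σ))⁻¹ = _
    have h1 : κ (twistHom σ) * z = z * κ (twistHom σ) := H.Lz _ (by rw [← K.κ_range]; exact ⟨_, rfl⟩)
    calc κ (twistHom σ) * (z * c (Equiv.swap 0 1 i)) * (κ (twistHom σ))⁻¹
        = (κ (twistHom σ) * z) * c (Equiv.swap 0 1 i) * (κ (twistHom σ))⁻¹ := by group
      _ = z * (κ (twistHom σ) * c (Equiv.swap 0 1 i) * (κ (twistHom σ))⁻¹) := by rw [h1]; group
      _ = z * c (((twistHom σ : alternatingGroup (Fin 5)) : Equiv.Perm (Fin 5)) (Equiv.swap 0 1 i)) := by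
          rw [K.κ_conj]
      _ = _ := by
          rw [twistHom_coe]
          simp
  · intro q hq h1 h2
    have hzp : ∀ a : ZMod 2, zp z (a + 1) * z = zp z a := by
      intro a
      rw [zp_add z H.zz, zp_one, mul_assoc, H.zz, mul_one]
    have hsurj : ∀ i : Fin 5, Equiv.swap 0 1 (Equiv.swap 0 1 i) = i := by
      intro i; simp
    rcases K.cover q hq h1 h2 with ⟨a, h⟩ | ⟨a, i, h⟩ | ⟨a, i, j, hij, h⟩
    · exact Or.inl ⟨a, h⟩
    · right; left
      refine ⟨a + 1, Equiv.swap 0 1 i, ?_⟩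
      rw [hsurj, ← mul_assoc, hzp, h]
    · right; right
      rcases lt_trichotomy (Equiv.swap 0 1 i) (Equiv.swap 0 1 j) with h3 | h3 | h3
      · refine ⟨a, Equiv.swap 0 1 i, Equiv.swap 0 1 j, h3, ?_⟩
        rw [hsurj, hsurj, hpair, h]
      · exact absurd ((Equiv.swap (0 : Fin 5) 1).injective h3) hij.ne
      · refine ⟨a + 1, Equiv.swap 0 1 j, Equiv.swap 0 1 i, h3, ?_⟩
        rw [hsurj, hsurj, hpair, h, K.c_anti i j hij.ne, zp_add z H.zz, zp_one, mul_assoc]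

/-! ### The elements `a = f r f⁻¹`, `b = u r u⁻¹` -/

theorem qcomm (H : Pre Q z y t L) : ∀ a ∈ Q, ∀ b ∈ Q, a * b = b * a ∨ a * b = z * (b * a) := H.comm

/-- `a = f r f⁻¹` acts as prescribed; symmetric version. -/
theorem act_of_tri {e e' f : G} (D : Data Q z) (T : Tri Q z e e' f)
    (eQ : e ∈ Q) (e2 : e * e = 1)
    (c_mem : ∀ i, c i ∈ Q) (c_sq : ∀ i, c i * c i = 1) (c_e : ∀ i, c i * e = e * c i)
    (c_e' : ∀ i, c i * e' = e' * c i)
    (c_anti : ∀ i j, i ≠ j → c i * c j = z * (c j * c i))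
    (hκf : ∀ σ, κ σ * f = f * κ σ) (hκz : ∀ σ, κ σ * z = z * κ σ)
    (hκc : ∀ (σ : alternatingGroup (Fin 5)) i, κ σ * c i * (κ σ)⁻¹ = c ((σ : Equiv.Perm (Fin 5)) i)) :
    Act z e e' c κ (f * c 4 * f⁻¹) := by
  have hz : ∀ x ∈ Q, x * z = z * x := D.com
  obtain ⟨aa, az, ar, ae, ae', an⟩ := apart D.sqz hz T (c_mem 4) (c_sq 4) eQ (c_e 4).symm (c_e' 4).symm
  set a := f * c 4 * f⁻¹ with ha
  refine ⟨az, ae, ?_, ar, ?_, ?_⟩
  · have h1 : a * e' = c 4 * (e' * a) := by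
      rw [ae', ← mul_assoc, c_sq, one_mul]
    rw [h1]; group
  · intro i hi
    have h1 := (T.rr (c i) (c_mem i) (c 4) (c_mem 4) (c_e i) (c_e 4)).2 (c_anti i 4 hi)
    rw [← ha] at h1
    have hze : z * e = e * z := (hz e eQ).symm
    have h2 : (z * e) * (z * e) = 1 := by
      calc (z * e) * (z * e) = z * (e * z) * e := by group
        _ = (z * z) * (e * e) := by rw [← hze]; group
        _ = 1 := by rw [D.sqz, e2, one_mul]
    have h3 : a * c i = z * e * (c i * a) := by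
      rw [h1, ← mul_assoc, h2, one_mul]
    rw [h3]; group
  · intro σ hσ
    have h1 : Commute (κ σ) f := hκf σ
    have h2 : Commute (κ σ) (c 4) := by
      have h3 := hκc σ 4
      rw [hσ, mul_inv_eq_iff_eq_mul] at h3
      exact h3
    exact ((h1.mul_right h2).mul_right h1.inv_right).eq.symm

section rels

variable [Finite G] (Λ : Local Q z y t f u g L) (K : Canon Q z y t L c κ)

include Λ K in
theorem kap_L (σ : alternatingGroup (Fin 5)) : κ σ ∈ L := by rw [← K.κ_range]; exact ⟨σ, rfl⟩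

include Λ K in
theorem act_a : Act z y t c κ (f * c 4 * f⁻¹) :=
  act_of_tri Λ.D Λ.T1 Λ.yQ Λ.y2 K.c_mem K.c_sq K.c_y K.c_t K.c_anti
    (fun σ => Λ.fL _ (kap_L Λ K σ)) (fun σ => Λ.toPreT.toPre.Lz _ (kap_L Λ K σ)) K.κ_conj

include Λ K in
theorem act_b : Act z t y c κ (u * c 4 * u⁻¹) :=
  act_of_tri Λ.D Λ.T2 Λ.tQ Λ.t2 K.c_mem K.c_sq K.c_t K.c_y K.c_anti
    (fun σ => Λ.uL _ (kap_L Λ K σ)) (fun σ => Λ.toPreT.toPre.Lz _ (kap_L Λ K σ)) K.κ_conj

include Λ in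
theorem normQ {k : G} (hk : k * z = z * k) (q : G) : q ∈ Q ↔ k * q * k⁻¹ ∈ Q := by
  constructor
  · exact fun hq => Λ.D.norm k hk q hq
  · intro hq
    have hk' : k⁻¹ * z = z * k⁻¹ := by
      have : Commute k z := hk
      exact this.inv_left.eq
    have := Λ.D.norm k⁻¹ hk' _ hq
    have e : k⁻¹ * (k * q * k⁻¹) * k⁻¹⁻¹ = q := by group
    rwa [e] at this

include Λ K in
theorem ab_eq : (f * c 4 * f⁻¹ * (u * c 4 * u⁻¹)) * (f * c 4 * f⁻¹ * (u * c 4 * u⁻¹)) = z * c 4 := by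
  obtain ⟨k, hk, hky, -⟩ := Λ.pairs y t (c 4) (c 0) Λ.yQ Λ.tQ (K.c_mem 4) (K.c_mem 0) Λ.y2 Λ.t2 (K.c_sq 4)
    (K.c_sq 0) Λ.yt (K.c_anti 4 0 (by decide))
  have hne := Λ.toPreT.c_ne K 4
  refine ab_sq Λ.toPreT.toPre.zz Λ.D.com (qcomm Λ.toPreT.toPre) Λ.yQ Λ.y2 Λ.tQ Λ.t2 Λ.yt Λ.T1 Λ.T2 (K.c_mem 4)
    (K.c_sq 4) (K.c_y 4) (K.c_t 4) hk (normQ Λ hk) hky ?_
  intro v hv hn
  exact cent_cent Λ.D Λ.z_ne Λ.cen (c 4) (K.c_mem 4) (K.c_sq 4) hne.1 hne.2 v hv
    (fun x hx hxr => (hn x hx hxr).symm)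

/-- No element of `C(z)` swaps `y`, `t` modulo `z` and fixes all `c i` modulo `z`. -/
theorem no_swap (H : PreT Q z y t L) (K : Canon Q z y t L c κ) (h : G) (hz : h * z = z * h)
    (hc : ∀ i, h * c i * h⁻¹ = c i ∨ h * c i * h⁻¹ = z * c i)
    (hy : h * y * h⁻¹ = t ∨ h * y * h⁻¹ = z * t) (ht : h * t * h⁻¹ = y ∨ h * t * h⁻¹ = z * y) : False := by
  have hzy : z * y = y * z := H.toPre.zy
  have hzt : z * t = t * z := H.toPre.zt
  have hzz := H.toPre.zz
  have hzp : ∀ x ∈ Q, x * z = z * x := H.D.com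
  -- adjust by `e ∈ {1, y, t, y t}`
  obtain ⟨e, eQ, ec, ey, et⟩ : ∃ e ∈ Q, (∀ i, e * c i = c i * e) ∧ e * (h * y * h⁻¹) * e⁻¹ = t ∧
      e * (h * t * h⁻¹) * e⁻¹ = y := by
    have yty : y * t * y⁻¹ = z * t := by rw [H.yt]; group
    have tyt : t * y * t⁻¹ = z * y := by rw [H.toPre.ty]; group
    have cy : ∀ i, y * c i = c i * y := fun i => (K.c_y i).symm
    have ct : ∀ i, t * c i = c i * t := fun i => (K.c_t i).symm
    rcases hy with hy | hy <;> rcases ht with ht | ht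
    · exact ⟨1, one_mem _, fun i => by rw [one_mul, mul_one], by rw [hy]; group, by rw [ht]; group⟩
    · refine ⟨t, H.tQ, ct, by rw [hy]; group, ?_⟩
      rw [ht]
      calc t * (z * y) * t⁻¹ = (t * z) * y * t⁻¹ := by group
        _ = z * (t * y * t⁻¹) := by rw [← hzt]; group
        _ = y := by rw [tyt, ← mul_assoc, hzz, one_mul]
    · refine ⟨y, H.yQ, cy, ?_, by rw [ht]; group⟩
      rw [hy]
      calc y * (z * t) * y⁻¹ = (y * z) * t * y⁻¹ := by group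
        _ = z * (y * t * y⁻¹) := by rw [← hzy]; group
        _ = t := by rw [yty, ← mul_assoc, hzz, one_mul]
    · refine ⟨y * t, mul_mem H.yQ H.tQ, ?_, ?_, ?_⟩
      · intro i
        rw [mul_assoc, ct, ← mul_assoc, cy, mul_assoc]
      · rw [hy]
        calc y * t * (z * t) * (y * t)⁻¹ = y * (t * z) * t * t⁻¹ * y⁻¹ := by group
          _ = (y * z) * t * y⁻¹ := by rw [← hzt]; group
          _ = z * (y * t * y⁻¹) := by rw [← hzy]; group
          _ = t := by rw [yty, ← mul_assoc, hzz, one_mul]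
      · rw [ht]
        calc y * t * (z * y) * (y * t)⁻¹ = y * ((t * z) * y * t⁻¹) * y⁻¹ := by group
          _ = y * (z * (t * y * t⁻¹)) * y⁻¹ := by rw [← hzt]; group
          _ = y * y * y⁻¹ := by rw [tyt, ← mul_assoc z z, hzz, one_mul]
          _ = y := by group
  have ez : e * z = z * e := hzp e eQ
  have hgz : (e * h) * z = z * (e * h) := by rw [mul_assoc, hz, ← mul_assoc, ez, mul_assoc]
  have hgy : (e * h) * y * (e * h)⁻¹ = t := by rw [← ey]; group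
  have hgt : (e * h) * t * (e * h)⁻¹ = y := by rw [← et]; group
  obtain ⟨π, hπ, hs⟩ := H.exists_odd K hgz hgy hgt
  have hid : ∀ i, (e * h) * c i * (e * h)⁻¹ = c i ∨ (e * h) * c i * (e * h)⁻¹ = z * c i := by
    intro i
    have e1 : (e * h) * c i * (e * h)⁻¹ = e * (h * c i * h⁻¹) * e⁻¹ := by group
    have e2 : e * c i * e⁻¹ = c i := by rw [ec]; group
    rcases hc i with h1 | h1
    · left; rw [e1, h1, e2]
    · right
      rw [e1, h1]
      calc e * (z * c i) * e⁻¹ = (e * z) * c i * e⁻¹ := by group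
        _ = z * (e * c i * e⁻¹) := by rw [ez]; group
        _ = _ := by rw [e2]
  have hπ1 : π = 1 := by
    apply Equiv.ext
    intro i
    exact PreT.cls_eq K (hπ i) (hid i)
  rw [hπ1, Equiv.Perm.sign_one] at hs
  exact absurd hs (by decide)

include Λ K in
/-- **`C_{C(z)}(A4) = ⟨y, t, r, a, b⟩`.** -/
theorem cent_A4 {h : G} (hz : h * z = z * h)
    (hA : ∀ σ : alternatingGroup (Fin 5), (σ : Equiv.Perm (Fin 5)) 4 = 4 → h * κ σ = κ σ * h) :
    h ∈ T y t c (f * c 4 * f⁻¹) (u * c 4 * u⁻¹) :=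
  mem_T Λ.toPreT.toPre K (act_a Λ K) (act_b Λ K) (fun h hz hc hy ht => no_swap Λ.toPreT K h hz hc hy ht) hz hA

def sp : alternatingGroup (Fin 5) := ⟨Equiv.swap 0 1 * Equiv.swap 1 2, Equiv.Perm.mem_alternatingGroup.2 (by decide)⟩
def sq : alternatingGroup (Fin 5) := ⟨Equiv.swap 0 1 * Equiv.swap 1 3, Equiv.Perm.mem_alternatingGroup.2 (by decide)⟩
def sw : alternatingGroup (Fin 5) := ⟨Equiv.swap 0 1 * Equiv.swap 1 4, Equiv.Perm.mem_alternatingGroup.2 (by decide)⟩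

theorem sp3 : sp ^ 3 = 1 := by apply Subtype.ext; decide
theorem sq3 : sq ^ 3 = 1 := by apply Subtype.ext; decide
theorem sw3 : sw ^ 3 = 1 := by apply Subtype.ext; decide
theorem spq : (sp * sq) ^ 2 = 1 := by apply Subtype.ext; decide
theorem spw : (sp * sw) ^ 2 = 1 := by apply Subtype.ext; decide
theorem sqw : (sq * sw) ^ 2 = 1 := by apply Subtype.ext; decide

theorem cube_of_sum {n f : G} (hn : n * n = 1) (hf : f ^ 3 = 1)
    (h : n * (f * n * f⁻¹) * (f⁻¹ * n * f) = 1) : (n * f⁻¹) ^ 3 = 1 := by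
  have hni : n⁻¹ = n := inv_eq_of_mul_eq_one_left hn
  have hff : f⁻¹ * f⁻¹ = f := by
    calc f⁻¹ * f⁻¹ = f⁻¹ * f⁻¹ * f ^ 3 := by rw [hf, mul_one]
      _ = f := by simp only [pow_succ, pow_zero, one_mul]; group
  have h1 : (n * f) ^ 3 = 1 := by
    calc (n * f) ^ 3 = n * f * n * f * n * f := by simp only [pow_succ, pow_zero, one_mul]; group
      _ = n * f * n * (f⁻¹ * f⁻¹) * n * f := by rw [hff]
      _ = n * (f * n * f⁻¹) * (f⁻¹ * n * f) := by group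
      _ = 1 := h
  have h2 : n * f⁻¹ = n * (n * f)⁻¹ * n⁻¹ := by
    rw [mul_inv_rev, hni]
    calc n * f⁻¹ = n * f⁻¹ * (n * n) := by rw [hn, mul_one]
      _ = _ := by group
  rw [h2]
  have h3 : (n * (n * f)⁻¹ * n⁻¹) ^ 3 = n * ((n * f) ^ 3)⁻¹ * n⁻¹ := by
    simp only [pow_succ, pow_zero, one_mul]; group
  rw [h3, h1]; group

omit [Finite G] in
include Λ in
theorem z_eq : (y * t) ^ 2 = z := by
  rw [pow_two]
  calc y * t * (y * t) = z * (t * y) * (y * t) := by rw [← Λ.yt]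
    _ = z * (t * (y * y) * t) := by group
    _ = z := by rw [Λ.y2, mul_one, Λ.t2, mul_one]

omit [Finite G] in
include K in
theorem kap_conj' (σ : alternatingGroup (Fin 5)) (i j : Fin 5) (h : (σ : Equiv.Perm (Fin 5)) j = i) :
    (κ σ)⁻¹ * c i * κ σ = c j := by
  have h1 := K.κ_conj σ j
  rw [h] at h1
  rw [← h1]; group

/-- All relations `S1`, given the two relations of `A6` and the plane relations. -/
theorem s1 (Λ : Local Q z y t f u g L) (K : Canon Q z y t L c κ) (j1 : (f⁻¹ * u⁻¹) ^ 5 = 1)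
    (j2 : (f⁻¹ * u) ^ 4 = 1) (l1 : (c 4 * f⁻¹ * u⁻¹) ^ 5 = 1) (l2 : (c 4 * f⁻¹ * u) ^ 5 = 1) :
    S1.Rels y t (c 4) f⁻¹ u⁻¹ (κ sp) (κ sq) (κ sw) := by
  have hz := z_eq Λ
  have hzz := Λ.toPreT.toPre.zz
  have hzQ : ∀ x ∈ Q, x * z = z * x := Λ.D.com
  have hL := kap_L Λ K
  have hti : t⁻¹ = t := inv_eq_of_mul_eq_one_left Λ.t2
  have hyi : y⁻¹ = y := inv_eq_of_mul_eq_one_left Λ.y2
  obtain ⟨aa, az, ar, ae, ae', an⟩ := apart Λ.D.sqz hzQ Λ.T1 (K.c_mem 4) (K.c_sq 4) Λ.yQ (K.c_y 4).symm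
    (K.c_t 4).symm
  obtain ⟨bb, bz, br, be, be', bn⟩ := apart Λ.D.sqz hzQ Λ.T2 (K.c_mem 4) (K.c_sq 4) Λ.tQ (K.c_t 4).symm
    (K.c_y 4).symm
  have comm_inv : ∀ (σ : alternatingGroup (Fin 5)) (v : G), κ σ * v = v * κ σ → κ σ * v⁻¹ = v⁻¹ * κ σ := by
    intro σ v hv
    have : Commute (κ σ) v := hv
    exact this.inv_right.eq
  have hrw : ∀ (v : G), κ sw * v = v * κ sw → (κ sw)⁻¹ * (v * c 4 * v⁻¹) * κ sw = v * c 1 * v⁻¹ := by
    intro v hv
    have h1 : Commute (κ sw) v := hv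
    calc (κ sw)⁻¹ * (v * c 4 * v⁻¹) * κ sw = ((κ sw)⁻¹ * v) * c 4 * (v⁻¹ * κ sw) := by group
      _ = (v * (κ sw)⁻¹) * c 4 * (κ sw * v⁻¹) := by rw [h1.inv_left.eq, ← h1.inv_right.eq]
      _ = v * ((κ sw)⁻¹ * c 4 * κ sw) * v⁻¹ := by group
      _ = _ := by rw [kap_conj' K sw 4 1 (by decide)]
  have hsq : ∀ (w e A : G), A * A = 1 → w * w = 1 → w * A = e * (A * w) → (w * A) ^ 2 = e := by
    intro w e A hA hw h
    rw [pow_two]
    calc w * A * (w * A) = e * (A * w) * (w * A) := by rw [← h]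
      _ = e * (A * (w * w) * A) := by group
      _ = e := by rw [hw, mul_one, hA, mul_one]
  have hconjsq : ∀ v : G, (v * c 1 * v⁻¹) * (v * c 1 * v⁻¹) = 1 := by
    intro v
    calc (v * c 1 * v⁻¹) * (v * c 1 * v⁻¹) = v * (c 1 * c 1) * v⁻¹ := by group
      _ = 1 := by rw [K.c_sq]; group
  have hfσ : ∀ σ, κ σ * f = f * κ σ := fun σ => Λ.fL _ (hL σ)
  have huσ : ∀ σ, κ σ * u = u * κ σ := fun σ => Λ.uL _ (hL σ)
  have e_w1 : (κ sw)⁻¹ * c 4 * κ sw = c 1 := kap_conj' K sw 4 1 (by decide)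
  have e_w2 : κ sw * c 4 * (κ sw)⁻¹ = c 0 := by
    rw [K.κ_conj]; rfl
  have e_p : κ sp * c 1 * (κ sp)⁻¹ = c 2 := by
    rw [K.κ_conj]; rfl
  have e_q : κ sq * c 1 * (κ sq)⁻¹ = c 3 := by
    rw [K.κ_conj]; rfl
  refine {
    x2 := Λ.y2
    y2 := Λ.t2
    r2 := K.c_sq 4
    xy4 := by rw [show (4 : ℕ) = 2 * 2 from rfl, pow_mul, hz, pow_two, hzz]
    t3 := by rw [inv_pow, Λ.f3, inv_one]
    u3 := by rw [inv_pow, Λ.u3, inv_one]
    tz := by rw [hz, inv_inv, Λ.T1.gz]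
    tx := by rw [hz, inv_inv, Λ.T1.ge]
    ty := ?_
    uz := by rw [hz, inv_inv, Λ.T2.gz]
    uy := by rw [hz, inv_inv, Λ.T2.ge]
    ux := ?_
    rx := K.c_y 4
    ry := K.c_t 4
    rt := cube_of_sum (K.c_sq 4) Λ.f3 (Λ.T1.hT _ (K.c_mem 4) (K.c_y 4))
    ru := cube_of_sum (K.c_sq 4) Λ.u3 (Λ.T2.hT _ (K.c_mem 4) (K.c_t 4))
    ab := by rw [hz, inv_inv, inv_inv, pow_two]; exact ab_eq Λ K
    xb := by
      rw [inv_inv]
      exact hsq y (c 4) _ bb Λ.y2 be'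
    ya := by
      rw [inv_inv]
      exact hsq t (c 4) _ aa Λ.t2 ae'
    tu5 := j1
    tu4 := by rw [inv_inv]; exact j2
    rtu := l1
    rtu' := by rw [inv_inv]; exact l2
    p3 := by rw [← map_pow, sp3, map_one]
    q3 := by rw [← map_pow, sq3, map_one]
    w3 := by rw [← map_pow, sw3, map_one]
    pq := by rw [← map_mul, ← map_pow, spq, map_one]
    pw := by rw [← map_mul, ← map_pow, spw, map_one]
    qw := by rw [← map_mul, ← map_pow, sqw, map_one]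
    px := Λ.Ly _ (hL _)
    py := Λ.Lt _ (hL _)
    pt := comm_inv _ _ (hfσ _)
    pu := comm_inv _ _ (huσ _)
    qx := Λ.Ly _ (hL _)
    qy := Λ.Lt _ (hL _)
    qt := comm_inv _ _ (hfσ _)
    qu := comm_inv _ _ (huσ _)
    wx := Λ.Ly _ (hL _)
    wy := Λ.Lt _ (hL _)
    wt := comm_inv _ _ (hfσ _)
    wu := comm_inv _ _ (huσ _)
    rp := ?_
    rq := ?_
    rrw := ?_
    prod := ?_
    raw := ?_
    rbw := ?_ }
  · have h1 : t * f * t = f⁻¹ := by
      have := Λ.T1.inv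
      rwa [hti] at this
    have h2 : t * f⁻¹ * t = f := by
      calc t * f⁻¹ * t = t * (t * f * t) * t := by rw [h1]
        _ = (t * t) * f * (t * t) := by group
        _ = f := by rw [Λ.t2]; group
    rw [h2, mul_inv_cancel]
  · have h1 : y * u * y = u⁻¹ := by
      have := Λ.T2.inv
      rwa [hyi] at this
    have h2 : y * u⁻¹ * y = u := by
      calc y * u⁻¹ * y = y * (y * u * y) * y := by rw [h1]
        _ = (y * y) * u * (y * y) := by group
        _ = u := by rw [Λ.y2]; group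
    rw [h2, mul_inv_cancel]
  · have := kap_c K sp 4
    have h4 : (sp : Equiv.Perm (Fin 5)) 4 = 4 := by decide
    rw [h4] at this
    exact this.symm
  · have := kap_c K sq 4
    have h4 : (sq : Equiv.Perm (Fin 5)) 4 = 4 := by decide
    rw [h4] at this
    exact this.symm
  · rw [hz, e_w1, pow_two]
    exact Λ.toPreT.c_mul_sq K 4 1 (by decide)
  · have e1 : κ sp * (κ sw)⁻¹ * c 4 * κ sw * (κ sp)⁻¹ = c 2 := by
      rw [← e_p, ← e_w1]; group
    have e2 : κ sq * (κ sw)⁻¹ * c 4 * κ sw * (κ sq)⁻¹ = c 3 := by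
      rw [← e_q, ← e_w1]; group
    rw [hz, e_w1, e_w2, e1, e2]
    have h0 := K.c_prod
    have h1 : c 0 * c 1 * c 2 * c 3 = (c 4)⁻¹ := eq_inv_of_mul_eq_one_left h0
    calc c 4 * c 1 * c 0 * c 2 * c 3 = c 4 * (c 1 * c 0) * c 2 * c 3 := by group
      _ = c 4 * (z * (c 0 * c 1)) * c 2 * c 3 := by rw [K.c_anti 1 0 (by decide)]
      _ = (c 4 * z) * (c 0 * c 1 * c 2 * c 3) := by group
      _ = (z * c 4) * (c 4)⁻¹ := by rw [h1, hzQ _ (K.c_mem 4)]
      _ = z := by group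
  · rw [hz, inv_inv, hrw f (hfσ _)]
    exact hsq (c 4) _ _ (hconjsq f) (K.c_sq 4)
      ((Λ.T1.rr _ (K.c_mem 4) _ (K.c_mem 1) (K.c_y 4) (K.c_y 1)).2 (K.c_anti 4 1 (by decide)))
  · rw [hz, inv_inv, hrw u (huσ _)]
    exact hsq (c 4) _ _ (hconjsq u) (K.c_sq 4)
      ((Λ.T2.rr _ (K.c_mem 4) _ (K.c_mem 1) (K.c_t 4) (K.c_t 1)).2 (K.c_anti 4 1 (by decide)))

end rels

end Cfsg.Agent.SuzType.Words
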